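import Cfsg.Agent.Vp.S16b
/-
BG section 16: the interface theorem `bg16 : BG16 G`.
-/
set_option autoImplicit false
set_option linter.unusedSectionVars false
set_option linter.unusedVariables false

namespace CF.BG.Vp
open Subgroup
open scoped commutatorElement Pointwise

variable {G : Type*} [Group G] [Finite G] [MSO G]
variable {A A₀ A₁ B C D E E₁ E₂ E₃ H K L M N P Q R S T U V W W₁ W₂ X Y Z : Subgroup G} {p q r : ℕ}
variable {π : Set ℕ} {a x y g : G}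

theorem KapC.tyF_iff (h : KapC M U K) : TyF M ↔ K = ⊥ ∧ U ≠ ⊥ :=
  ⟨fun t => ⟨t.eq_bot h.hK, fun u => t.not_pi (h.eq_bot_iff.mp u)⟩,
    fun k => h.mx.tyF_of (k.1 ▸ h.hK)⟩

theorem KapC.tyP1_iff (h : KapC M U K) : TyP1 M ↔ K ≠ ⊥ ∧ U = ⊥ :=
  ⟨fun t => ⟨t.toTyP.ne_bot h.hK, t.eq_bot h⟩, fun k => h.tyP1 k.1 k.2⟩

theorem KapC.tyP2_iff (h : KapC M U K) : TyP2 M ↔ K ≠ ⊥ ∧ U ≠ ⊥ :=
  ⟨fun t => ⟨t.toTyP.ne_bot h.hK, t.ne_bot h⟩, fun k => h.tyP2 k.1 k.2⟩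

theorem KapC.pPair (h : KapC M U K) (k1 : K ≠ ⊥) (n : Mx N)
    (e : K = Mσ N ⊓ 𝐂 (Mσ M ⊓ 𝐂 K)) (k' : Cfsg.IsPiHallOf (𝛋 N) (Mσ M ⊓ 𝐂 K) N) : PPair M K N :=
  (h.mx.tyP_of h.hK k1).pPair' h.hK n e (hall_iff.mpr k')

theorem Mx.nil_der_quot (m : Mx M) :
    Nil ((commutator ↥M).map (QuotientGroup.mk' (Cfsg.fittingHall ↥M))) := by
  obtain ⟨e⟩ := qt_iso_map (N := Cfsg.fittingHall ↥M) (commutator ↥M)
  have : Nil (qt ((Cfsg.fittingHall ↥M).map M.subtype) ((commutator ↥M).map M.subtype)) := by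
    rw [map_subtype_commutator]; exact m.nil_qt_Fh
  exact Group.nilpotent_of_mulEquiv e

theorem Mx.exists_kapC_compl (m : Mx M)
    (h : TypeI M ∧ Cfsg.IsComplIn (𝐅ₕ M) U M ∨ IsOfTypeII M ∧ Cfsg.IsComplIn (𝐅ₕ M) U ⁅M, M⁆) :
    𝐅ₕ M = Mσ M ∧ ∃ K, KapC M U K := by
  rcases h with ⟨t, c⟩ | ⟨t, c⟩
  · have t := m.typeI_iff.mp t
    exact ⟨t.Fh_eq, m.exists_kapC_of_hall (t.hall_of_compl
      (SDProd.of_isComplIn c (c.2.1.trans (Fh_normal M).norm)))⟩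
  · have t := m.typeII_iff.mp t
    exact ⟨t.Fh_eq, m.exists_kapC_of_hall (t.hall_of_compl
      (SDProd.of_isComplIn c (c.2.1.trans ((der_le M).trans (Fh_normal M).norm))))⟩

theorem SigMany.Fh_N (h : SigMany x) (x1 : x ≠ 1) : 𝐅ₕ (sigN x) = Mσ (sigN x) :=
  (h.facts x1).1.mx.Fh_eq_iff.mpr (h.nil_N x1)

theorem SigMany.mem_typeA (h : SigMany x) (x1 : x ≠ 1) : x ∈ typeA (sigN x) :=
  let ⟨u, a, b, _⟩ := h.facts x1
  u.mx.mem_typeA.mpr ⟨u.le (self_mem_cent1 x), x1, b.mono (tau2_sub_kappa' _), a⟩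

theorem Mx.typeA_sub (m : Mx M) {X : Set G} (h : X = typeA M ∨ X = typeA0 M) : X ⊆ typeA0 M := by
  rcases h with rfl | rfl
  · exact Set.subset_union_left
  · exact subset_rfl

theorem exists_cj_or (h : Conj M H ∨ Conj N H) : ∃ g : G, H = cj g M ∨ H = cj g N :=
  h.elim (fun ⟨g, e⟩ => ⟨g, Or.inl e⟩) fun ⟨g, e⟩ => ⟨g, Or.inr e⟩

variable (G) in
/-- The conclusions of the local analysis. -/
theorem bg16 : BG16 G where
  s1350 M (m : Mx M) := ⟨hall_iff.mp m.hall_Ms, hall_top_iff.mp m.hall_Ms_top,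
    fun N n h => ((hall_iff.mpr h).O_eq n).symm⟩
  s1351 M (m : Mx M) := ⟨(m.sol.exists_hall _).imp fun _ => hall_iff.mp,
    fun K k => m.kappa_cyc (hall_iff.mpr k)⟩
  s1352 M (m : Mx M) K _ k := ⟨(m.exists_kapC (hall_iff.mpr k)).imp fun _ => KapC.dec,
    fun U u => sup_comm (Mσ M) U ▸ (m.kapC_of_dec u).normal_MsU.norm⟩
  s1355 M (m : Mx M) := ⟨m.Fh_ne_bot, m.Fh_le_Ms, m.Ms_le_der, m.sol.der_lt m.ne_bot, m.nil_der_quot⟩
  s1356 M (m : Mx M) := ⟨m.F_struct.1, by rw [sup_comm, m.F_struct.2.1],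
    fun k => TyP.F_le_der ⟨m, k⟩⟩
  s1357 M (m : Mx M) K U u e := by
    have u := m.kapC_of_dec u
    have n : ¬ Nil (Mσ M) := fun c => e (m.Fh_eq_iff.mpr c)
    exact ⟨(m.tyP1_of_not_nil n).eq_bot u, m.isTI_F (Or.inr e), (m.of_not_nil u.hK n rfl).2.2.2.1⟩
  s1365 M (m : Mx M) K U u k1 :=
    have k := hall_iff.mpr u.hall
    ⟨((sup_comm _ _).trans ((m.kapC_of_dec u).der_eq k1)).symm, ((m.tyP_of k k1).cyclics k).2.1⟩
  s1366 M (m : Mx M) K U u k1 := by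
    have u := m.kapC_of_dec u
    obtain ⟨N, pp⟩ := (m.tyP_of u.hK k1).exists_pPair u.hK
    obtain ⟨p, X, x⟩ := exists_prime_elem_one k1
    exact ⟨N, ⟨pp.tyP.mx, pp.cent_eq.symm, hall_iff.mp pp.hall_kappa⟩, fun L ⟨a, b, c⟩ =>
      ((u.pPair k1 a b c).uniq p X x).eq (pp.uniq p X x)⟩
  s1367 M (m : Mx M) K U u k1 N n a b :=
    have u := m.kapC_of_dec u
    ⟨fun X l c => ((m.tyP_of u.hK k1).uniqIn_cent u.hK (elem_one_of_prime l c)).out,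
      fun X l c => ((u.pPair k1 n a b).uniq _ X (elem_one_of_prime l c)).out⟩
  s1368 M (m : Mx M) K U u k1 N n a b :=
    have pp := (m.kapC_of_dec u).pPair k1 n a b
    ⟨pp.inf_eq, pp.cyc⟩
  s1369 M (m : Mx M) K U u k1 N (n : Mx N) a b :=
    have u := m.kapC_of_dec u
    have pp := u.pPair k1 n a b
    ⟨pp.p2.imp (fun t => t.1.ne_bot u) fun t _ v => t.1.ne_bot (n.kapC_of_dec v),
      fun H h k => exists_cj_or (pp.conj H ⟨h, k⟩)⟩
  s1373 M (m : Mx M) K U u k1 u1 :=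
    ((m.kapC_of_dec u).tyP1 k1 u1).Kstar_prime (hall_iff.mpr u.hall)
  s1378 := ⟨fun p hp d w => exists_mx_sigma hp d w,
    fun M N (m : Mx M) n ⟨p, a, b⟩ => m.conj_of_sigma n a b⟩
  s1379 M N (m : Mx M) (n : Mx N) c := by
    rw [sigmaCore_eq, sigmaCore_eq, m.tildeOf_eq, n.tildeOf_eq]
    exact Set.eq_empty_of_forall_notMem fun g ⟨a, b⟩ =>
      m.tilde_disjoint n (fun ⟨g, e⟩ => c g e) a b
  s1380 M (m : Mx M) K U u := m.typeI_iff.trans (m.kapC_of_dec u).tyF_iff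
  s1381 M (m : Mx M) K U u := m.typeII_iff.trans (m.kapC_of_dec u).tyP2_iff
  s1382 M (m : Mx M) K U u := by rw [m.typeIII_IV_iff, (m.kapC_of_dec u).tyP1_iff, and_assoc]; rfl
  s1383 M (m : Mx M) K U u := by rw [m.typeV_iff, (m.kapC_of_dec u).tyP1_iff, and_assoc]; rfl
  s1389 M (m : Mx M) := by
    rw [m.typeCore_eq, ← relIndex_top_right, ← relIndex_top_right]
    refine ⟨fun p hp P p1 => ?_, ((Fh_hall M).top_of_sigmaV fun p hp => ?_).coprime,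
      m.hall_Ms_top.coprime⟩
    · have := Fact.mk hp
      have s := syl_sylow P
      have ps := s.pi.mem_of_ne_bot (mt (map_eq_bot_iff_of_injective _ (subtype_injective _)).mp p1)
        ((O_pi _ M).le s.le)
      exact (s.syl_trans m.hall_Ms ps).norm_le_of_sigmaV ps
    · exact (O_pi _ M).le m.Fh_le_Ms p hp.1 hp.2
  s1390 M (m : Mx M) U u := by
    obtain ⟨e, K, k⟩ := m.exists_kapC_compl u
    refine ⟨m.sylow_sigma' k.hU.le k.pi_U, fun X l ⟨x, hx⟩ c => ?_, m.typeA_diff ▸ m.isTI_inB⟩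
    rw [← centralizer_closure] at c ⊢
    exact (k.of_cent ((closure_le U).mpr fun _ h => (l h).1)
      (ne_bot_of_mem (subset_closure hx) (l hx).2) (e ▸ c)).1.out
  s1391 M (m : Mx M) X hX := by
    have l := m.typeA_sub hX
    refine ⟨fun x hx g hg => m.typeA0_fusion (l hx) (l hg), fun x hx c => ?_,
      fun x hx c L n k => ?_⟩
    · obtain ⟨s, x1⟩ := m.sigMx_of_typeA0 (l hx) c
      exact ⟨m.mem_typeA1.mpr ⟨s.mem, x1⟩, ((s.many c).facts x1).1.toUniq⟩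
    obtain ⟨s, x1⟩ := m.sigMx_of_typeA0 (l hx) c
    have h := s.many c
    obtain ⟨u, r, t, f, e⟩ := h.facts x1
    obtain rfl := u.uniq L n k
    obtain ⟨-, b, -, d⟩ := (s.ell1 x1).sigR_facts
    rw [h.Fh_N x1]
    refine ⟨(e M s).2.2.sdprod.isComplIn, b.norm, (d M s).isComplIn,
      fun y hy => s.coprime_N x1 c (l hy),
      ⟨h.mem_typeA x1, fun c => h.not_mem_N x1 (u.mx.mem_typeA1.mp c).1⟩,
      f.imp TyF.typeI TyP2.typeII, fun i => ?_⟩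
    obtain ⟨a, -, -, b⟩ := s.nonF_signalizer x1 c (u.mx.typeII_iff.mp i).toTyP.not_tyF
    obtain ⟨E, e⟩ := m.exists_sigE'
    exact ⟨_, (b E e).2.subgroupOf.1, by rw [(b E e).2.subgroupOf.2, fittingHall_eq, a.Fh_eq]⟩

end CF.BG.Vp
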