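import Cfsg.Agent.Vp.P9

/-!
Peterfalvi, section 10: maximal subgroups of types III, IV and V.
Notation: `K = ⁅M, M⁆`, `𝒮 = sind K M K ⊥`, `τ = tau M`, `μ₀ = red μ 1`.
-/

set_option autoImplicit false
set_option linter.unusedSectionVars false

namespace CF.BG.Vp
open CF.PF

open Cfsg hiding typeA typeA0 Supports
open CF.Char CF.BG
open CF.PF8 (PW TF)
open scoped ComplexConjugate Classical commutatorElement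

variable {G : Type*} [Group G] [Finite G] [MSO G]

variable [BG16 G] {M S T U V W W₁ W₂ : Subgroup G} {ζ X Y : G → ℂ} {d n : ℕ} {ε : ℝ}
  {η μ : Lin W₁ → Lin W₂ → G → ℂ} {δ : Lin W₂ → ℝ} {i : Lin W₁} {j : Lin W₂}
  {ν : (G → ℂ) →ₗ[ℂ] (G → ℂ)}

theorem MP.der_lt (h : MP M U W W₁ W₂) : ⁅⁅M, M⁆, ⁅M, M⁆⁆ < ⁅M, M⁆ :=
  h.out.solD.der_lt fun e => h.ne₂ (le_bot_iff.1 (e ▸ h.out.le₂D))

/-- (10.2) -/
theorem MP.sind_der_irr (h : MP M U W W₁ W₂) (hζ : ζ ∈ sind ⁅M, M⁆ M ⁅M, M⁆ ⁅⁅M, M⁆, ⁅M, M⁆⁆) :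
    ζ ∈ irr M ∧ ζ 1 = ♯W₁ := let ⟨_, _, _, k⟩ := h.exists_tp; k.pfam.sind_der_irr h.le₂der hζ
theorem MP.exists_ref (h : MP M U W W₁ W₂) :
    ∃ ζ, ζ ∈ sind ⁅M, M⁆ M ⁅M, M⁆ ⁅⁅M, M⁆, ⁅M, M⁆⁆ :=
  let ⟨_, _, _, k⟩ := h.exists_tp; k.pfam.exists_der h.der_lt.not_ge

/-- (10.3) -/
theorem MP.prime₂_of_not_two (h : MP M U W W₁ W₂) (n : ¬ IsOfTypeII M) : (♯W₂).Prime :=
  h.out.prime₂V h.mx n
theorem TP.exists_cst (h : TP M U W W₁ W₂ η μ δ) (n : ¬ IsOfTypeII M) :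
    ∃ d n ε, Cst μ δ d n ε := h.pfam.exists_cst h.le₂der (h.prime₂_of_not_two n)

namespace TP

theorem h10 (h : TP M U W W₁ W₂ η μ δ) (n2 : ¬ IsOfTypeII M) (c : Cst μ δ d n ε)
    (hζ : ζ ∈ sind ⁅M, M⁆ M ⁅M, M⁆ ⊥) (hi : ζ ∈ irr M) (h1 : ζ 1 = ♯W₁) :
    H10 M ⁅M, M⁆ W W₁ W₂ (typeA M) (typeA0 M) (supportR M) η μ δ ζ d n ε :=
  ⟨h.pdadeK n2, c, h.odd, hζ, hi, h1⟩

theorem exists_h10 (h : TP M U W W₁ W₂ η μ δ) (n2 : ¬ IsOfTypeII M) : ∃ ζ d n ε,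
    H10 M ⁅M, M⁆ W W₁ W₂ (typeA M) (typeA0 M) (supportR M) η μ δ ζ d n ε :=
  let ⟨_, k⟩ := h.exists_ref; let ⟨_, _, _, c⟩ := h.exists_cst n2
  ⟨_, _, _, _, h.h10 n2 c (sind_sub_bot k) (h.sind_der_irr k).1 (h.sind_der_irr k).2⟩

/-- (10.5), first part -/
theorem alph_zirr (h : TP M U W W₁ W₂ η μ δ) (c : Cst μ δ d n ε) (hζ : ζ ∈ irr M) (_hj : j ≠ 1) :
    alph μ n ε ζ i j ∈ ZIrr M := h.pfam.alph_zirr c hζ i j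
theorem alph_supp (h : TP M U W W₁ W₂ η μ δ) (n2 : ¬ IsOfTypeII M) (c : Cst μ δ d n ε)
    (hζ : ζ ∈ sind ⁅M, M⁆ M ⁅M, M⁆ ⊥) (h1 : ζ 1 = ♯W₁) (hj : j ≠ 1) :
    alph μ n ε ζ i j ∈ Supp (typeA0 M) := (h.pdadeK n2).alph_supp c hζ h1 hj
theorem bridge0_supp (h : TP M U W W₁ W₂ η μ δ) (n2 : ¬ IsOfTypeII M)
    (hζ : ζ ∈ sind ⁅M, M⁆ M ⁅M, M⁆ ⊥) (h1 : ζ 1 = ♯W₁) : red μ 1 - ζ ∈ Supp (typeA1 M) := by
  rw [h.A1_eq n2, ← h.A_eq n2]; exact (h.pdadeK n2).red_sub_supp hζ h1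

end TP

/-- (10.7) -/
theorem Pair.frob_two (p : Pair M S U V W W₁ W₂) (n2 : ¬ IsOfTypeII M)
    (c : Coh M (sind ⁅M, M⁆ M ⁅M, M⁆ ⊥) (tau M)) : Frob (𝐅ₕ S) V ⁅S, S⁆ := by
  have t := p.two.resolve_left n2
  obtain ⟨η, μ, δ, h⟩ := p.pS.exists_tp
  obtain ⟨μ', δ', k⟩ := p.pT.exists_tp' h.fam.swap
  obtain ⟨H₀, q, k9⟩ := p.pT.exists_H9 (p.pT.two_iff.1 t).1
  refine k9.core_cases.elim (fun ⟨χ, hi, hχ, h1, _⟩ => ?_) fun f => f.2.2.2.2 t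
  obtain ⟨i, hr, rm⟩ := k9.exists_red k.pfam
  obtain ⟨ζ, d, n, ε, a⟩ := h.exists_h10 n2
  obtain ⟨ν, hν⟩ := c
  refine (a.not_irr_red hν k.pdadeF k.odd ?_ (sind_sub_bot hχ) hi hr
    ((k9.red_indHC rm (k.pfam.red_not_irr i)).one.trans h1.symm)).elim
  rw [h.A_eq n2, ← h.A1_eq n2]
  by_contra dis
  obtain ⟨g, m, x, hx, b, e⟩ := (exists_supports_iff h.mx k.mx p.not_conj).2 dis
  obtain ⟨-, L, u, -, -, -, -, -, -, -, f⟩ := supp_facts h.mx hx b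
  exact h.not_frobK (f (u.uniq _ m e ▸ (typeII_cj g).2 t))

/-- (10.8) -/
theorem MP.not_coh (h : MP M U W W₁ W₂) (n2 : ¬ IsOfTypeII M) :
    ¬ Coh M (sind ⁅M, M⁆ M ⁅M, M⁆ ⊥) (tau M) := fun c => by
  obtain ⟨S, V, p⟩ := h.exists_pair
  have t := p.two.resolve_left n2
  have hV := (p.pT.two_iff.1 t).1
  obtain ⟨η, μ, δ, k⟩ := h.exists_tp
  obtain ⟨ζ, d, n, ε, a⟩ := k.exists_h10 n2
  have f := p.frob_two n2 c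
  obtain ⟨ν, hν⟩ := c
  refine a.not_cohWith hν h.le₂der h.der_lt.not_ge p.pT.pti p.pT.le₂H (Fh_hall_top p.pT.mx)
    ((two_nti p.pT.mx t).mono ((F_sub_A1 p.pT.mx).trans ((A1_sub_A p.pT.mx).trans (A_sub_A0 S)))
      (PF8.conj_mem_sharp (Fh_normal S).norm)) f ?_
  obtain ⟨r, hr⟩ := p.pT.regU.card_dvd p.pT.nUW
  have := p.pT.regU.card_lt p.pT.nUW hV
  have := h.cti.three_le₂
  have : Even r := (Nat.even_mul.1 (hr ▸ Nat.Odd.sub_odd p.pT.oddU odd_one)).resolve_left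
    (Nat.not_even_iff_odd.2 h.odd₂)
  have : 2 ≤ r := by obtain ⟨s, rfl⟩ := this; rcases s with _ | s <;> omega
  have := Nat.mul_le_mul ‹3 ≤ ♯W₂› this
  omega

/-- (10.10) -/
theorem MP.U_ne (h : MP M U W W₁ W₂) : U ≠ ⊥ := fun hU => by
  have n2 : ¬ IsOfTypeII M := fun t => (h.two_iff.1 t).1 hU
  have eK := h.out.eq_bot_iff.1 hU
  have nil : Nil ⁅M, M⁆ := eK ▸ Fh_nil M
  have hp := h.prime₂_of_not_two n2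
  obtain ⟨η, μ, δ, k⟩ := h.exists_tp
  have pd := k.pdadeK n2
  obtain ⟨Rc, sc, -, -⟩ := pd.subCoh h.odd
  obtain ⟨-, bd, p, pp, pi, -, nd⟩ := sc.non_coh_chief nil.sol ⟨h.odd, der_normal M, bot_le, by simp,
    nil.qt _, by rw [sup_bot_eq]; exact h.der_lt, h.out.der_ne, by
      rw [sup_bot_eq]; exact pd.frob_mod h.le₂der (der_le _) k.pfam.der_norm le_rfl⟩ (h.not_coh n2)
  rw [Subgroup.relIndex_bot_left] at pi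
  rw [pd.relIndex_eq] at nd bd
  rw [sup_bot_eq] at bd
  obtain rfl : ♯W₂ = p := pi _ hp (card_dvd h.out.le₂D)
  refine h.not_coh n2 ?_
  rcases eK ▸ h.of_five hU with a | ⟨q, hq, a, b, -⟩ | ⟨q, hq, a, b, -⟩
  · exact (sibley_prime h.odd nil a (h.A_eq n2 ▸ pd) hp h.le₂der).imp fun ν =>
      (CohWith.dade_iff_ind pd.dade (h.A_eq n2 ▸ pd.A_subset) a (fun _ => sind_cfn pd.leK)
        fun _ => sind_supp' pd.normal).2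
  · exact (nd (pi q hq a ▸ b)).elim
  · obtain rfl : q = ♯W₂ :=
      pi q hq ((dvd_pow_self q three_ne_zero).trans (a ▸ card_dvd (O_le _ _)))
    exact pd.coh_cube h.odd h.le₂der hp (by rwa [O_of_pi pi] at a) h.der_lt.not_ge nd b bd

/-- (10.11) -/
theorem MP.primes (h : MP M U W W₁ W₂) : (♯W₁).Prime ∧ (♯W₂).Prime :=
  let ⟨_, _, p⟩ := h.exists_pair; ⟨h.prime₁ h.U_ne, p.pT.prime₁ p.pT.U_ne⟩
theorem MP.two_facts (h : MP M U W W₁ W₂) (t : IsOfTypeII M) :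
    H9 M U W W₁ W₂ ⊥ (♯W₂) ∧ Abelem (♯W₂) (𝐅ₕ M) ∧ ♯(𝐅ₕ M) = ♯W₂ ^ ♯W₁ ∧
      Coh M (sind ⁅M, M⁆ M (𝐅ₕ M) ⊥) (tau M) := by
  obtain ⟨H₀, p, k⟩ := h.exists_H9 h.U_ne
  obtain rfl := k.p_eq h.primes.2
  have e := (h.core_two t).2
  have a := card_mul_relIndex k.chief.lt.le
  rw [k.card, e, mul_left_eq_self₀] at a
  obtain rfl := Subgroup.card_eq_one.1 (a.resolve_right (pow_pos Nat.card_pos _).ne')
  refine ⟨k, .mk' k.prime (der_eq_bot.1 (le_bot_iff.1 k.der_le)) k.pow_mem, e, ?_⟩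
  have := k.coh
  rwa [der_eq_bot.2 ((h.of_two t).1.mono inf_le_left), sup_idem] at this

end CF.BG.Vp
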