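import Cfsg.Agent.Vp.P11b

/-!
Peterfalvi, section 11: maximal subgroups of types III and IV, (11.9).
Notation: `H = 𝐅ₕ M`, `K = HU = ⁅M, M⁆`, `C = U ⊓ 𝐂 H`, `𝒮(X) = sind K M K X`, `p = ♯W₂`, `q = ♯W₁`.
-/

set_option autoImplicit false
set_option linter.unusedSectionVars false

namespace CF.BG.Vp
open CF.PF

open Cfsg hiding typeA typeA0 Supports
open CF.Char CF.BG
open CF.PF8 (PW TF)
open scoped ComplexConjugate Classical commutatorElement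

variable {G : Type*} [Group G] [Finite G] [MSO G] {L K M U W W₁ W₂ : Subgroup G} {A A₀ : Set G}
  {R : G → Subgroup G} {ζ : G → ℂ} {η μ : Lin W₁ → Lin W₂ → G → ℂ} {δ : Lin W₂ → ℝ}

variable [BG16 G]

theorem TP.ortho34' (h : TP M U W W₁ W₂ η μ δ) (n2 : ¬ IsOfTypeII M)
    (hζ : ζ ∈ sind ⁅M, M⁆ M ⁅M, M⁆ ⁅⁅M, M⁆, ⁅M, M⁆⁆) : ♯W₂ < ♯W₁ ∧
      ∀ i j, rip ⊤ (tau M (red μ 1 - ζ)) (η i j) = if i = 1 then 1 else 0 :=
  ((h.pdadeK n2).grid34 (sind_sub_bot hζ) (h.sind_der_irr hζ).1 (h.sind_der_irr hζ).2 h.primes.1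
    h.primes.2).resolve_left (h.not_ortho34 n2 hζ)

theorem MP.gal34 (h : MP M U W W₁ W₂) (n2 : ¬ IsOfTypeII M) : Gal M U ⊥ := by_contra fun g => by
  obtain ⟨η, μ, δ, t⟩ := h.exists_tp
  obtain ⟨ζ, hζ⟩ := h.exists_ref
  obtain ⟨lt, o⟩ := t.ortho34' n2 hζ
  obtain ⟨hi, h1⟩ := h.sind_der_irr hζ
  obtain ⟨k, -, -, c, d⟩ := h.facts34 n2
  have c' : cU M U ⊥ = ⁅U, U⁆ := by rw [cU, centMod_bot, c]
  obtain ⟨C₁, f, χ, ng⟩ := k.nonGal g
  obtain ⟨l, hl, li, l1⟩ := k.nonGal_irr_qa ng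
  obtain ⟨j, hj, m⟩ := k.exists_red t.pfam
  obtain ⟨m1, m, -⟩ := k.red_indHC m (t.pfam.red_not_irr j)
  obtain ⟨ν, hν⟩ := k.coh
  have sub : sind ⁅M, M⁆ M (𝐅ₕ M) (⊥ ⊔ cU M U ⊥) ⊆ _ := sind_sub (sup_le_sup_left (BG.der_le _) ⊥)
  rw [← c'] at hl
  have D := t.pdadeF
  have D' := t.pdadeK n2
  obtain ⟨-, -, a3, a4, -⟩ := k.a_facts ng
  have e := Subgroup.relIndex_mul_relIndex _ _ _ a4 ng.le
  set r := (cU M U ⊥).relIndex C₁
  have ψ1 : (red μ j - (r : ℝ) • l) 1 = 0 := by simp [m1, l1, ← e]; ring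
  have ψm : red μ j - (r : ℝ) • l ∈ CS _ := sub_mem (mem_CS (sub m)) (CS.rsmul (mem_CS (sub hl)) _)
  have ψc := CS.le (fun χ hχ => sind_cfn h.sdM.left_le hχ) ψm
  have φc := cfn_of_zirr (sub_mem (D.red_zirr 1) (zirr_of_irr hi))
  have φz := dade_mem_ZIrr D.dade (sub_mem (D.red_zirr 1) (zirr_of_irr hi))
    (Supp_mono D.A_subset (D'.red_sub_supp (sind_sub_bot hζ) h1))
  have lK := sind_sub_self h.sdH.left_le hl
  have ne : ζ ≠ l := by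
    rintro rfl
    exact sind_not_le_ker h.sdM.left_le h.sdH.left_le (Fh_normal M).norm hl (le_sup_left.trans
      (d.ge.trans (sind_le_ker (BG.der_le _) h.sdM.normal.der.norm hζ)))
  have z := rip_dade D.dade φc ψc (CS.supp_of (fun χ hχ => D.sind_supp₀ hχ) ψm ψ1)
  rw [← hν.eq _ ψm ψ1, map_sub ν, map_rsmul] at z
  simp only [rip_sub_left, rip_sub_right, rip_rsmul_right, D.rip_red_red, hj.symm, if_false,
    D.rip_red_sind le_rfl lK li, rip_comm M ζ (red μ j), D.rip_red_sind le_rfl hζ hi,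
    rip_irr_ne hi li ne, mul_zero, sub_zero] at z
  obtain ⟨n, hn⟩ := rip_int φz (hν.zirr _ (sub hl))
  have s : ∀ j, rip ⊤ (tau M (red μ 1 - ζ)) (red η j) = 1 := fun j => by
    rw [show red η j = ∑ i, η i j from rfl, rip_sum_right]; simp only [o]; simp
  have r1 : r * r * (n * n) = (1 : ℤ) := by
    have := D.sq j
    rw [hn, sub_eq_zero] at z
    have : (r * n) * (r * n) = (1 : ℝ) := by
      rcases D.coh_red h.odd sind_sub_bot (fun _ => sind_star) hν (sub hl) li (sub m) with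
        e | ⟨e, -⟩ <;> rw [← z, e] <;> simp [-map_sub, s, this]
    rw [← mul_mul_mul_comm]; exact_mod_cast this
  have r2 : r = 1 := by
    have := Int.isUnit_iff_natAbs_eq.1 (IsUnit.of_mul_eq_one _ ((mul_assoc _ _ _).symm.trans r1))
    simpa using this
  rw [r2, one_mul] at e
  have := Nat.le_of_dvd (tsub_pos_of_lt k.prime.one_lt) a3
  have := Nat.le_of_dvd (tsub_pos_of_lt (one_lt_relIndex k.C_lt.not_ge)) k.q_dvd
  omega

/-- (11.9)(b), (c) -/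
theorem MP.struct34 (h : MP M U W W₁ W₂) (n2 : ¬ IsOfTypeII M) :
    ♯W₂ < ♯W₁ ∧ IsOfTypeIII M ∧ Gal M U ⊥ ∧ Cyc U ∧ U ⊓ 𝐂 (𝐅ₕ M) = ⊥ := by
  obtain ⟨η, μ, δ, t⟩ := h.exists_tp
  obtain ⟨ζ, hζ⟩ := h.exists_ref
  obtain ⟨k, -, -, c, -⟩ := h.facts34 n2
  have g := h.gal34 n2
  have cy := (k.gal_facts g).1
  rw [cU, centMod_bot, c] at cy
  have e := der_eq_bot_of_cyc_qt h.nilU cy
  exact ⟨(t.ortho34' n2 hζ).1, h.three_iff.2 ⟨der_eq_bot.1 e, by_contra fun n =>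
    n2 (h.two_iff.2 ⟨h.U_ne, n⟩)⟩, g, cy.of_qt (NormalIn.refl U).der.norm (by rw [e, bot_inf_eq]),
    c.trans e⟩

end CF.BG.Vp
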