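import Cfsg.Agent.Vp.P10

/-!
Peterfalvi, section 11: (11.1)-(11.7).
-/

set_option autoImplicit false
set_option linter.unusedSectionVars false

namespace CF.BG.Vp
open CF.PF

open Cfsg hiding typeA typeA0 Supports
open CF.Char CF.BG
open CF.PF8 (PW TF)
open scoped ComplexConjugate Classical commutatorElement

variable {G : Type*} [Group G] [Finite G] [MSO G]

variable [BG16 G] {M U W W₁ W₂ H₀ H₁ C₁ : Subgroup G} {p : ℕ}

namespace NonGal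
variable {f : G → W₁ → ZMod p} {χ : G → (ZMod p)ˣ} (k : NonGal M U W₁ H₀ C₁ p f χ)
include k

theorem _root_.CF.PF.NonGal.f_powV {y : G} (hy : y ∈ 𝐅ₕ M) (n : ℕ) : f (y ^ n) = n • f y := by
  induction n with
  | zero => simpa using (k.ker 1 (one_mem _)).2 (one_mem _)
  | succ n ih => rw [pow_succ, k.add _ (pow_mem hy n) _ hy, ih, succ_nsmul]

theorem _root_.CF.PF.NonGal.inv_mul_memV {y z : G} (hy : y ∈ 𝐅ₕ M) (hz : z ∈ 𝐅ₕ M) (e : f y = f z) : y⁻¹ * z ∈ H₀ := by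
  have h1 := mul_mem (inv_mem hy) hz
  have := k.add _ hy _ h1
  rw [mul_inv_cancel_left, e, left_eq_add] at this
  exact (k.ker _ h1).1 this

theorem _root_.CF.PF.NonGal.le_of_basisV [NeZero p] {x : W₁ → G} (hx : ∀ w, x w ∈ 𝐅ₕ M) (e : ∀ w, f (x w) = Pi.single w 1)
    {L : Subgroup G} (h0 : H₀ ≤ L) (hL : ∀ w, x w ∈ L) : 𝐅ₕ M ≤ L := fun z hz => by
  obtain ⟨y, hy, e⟩ : ∃ y ∈ 𝐅ₕ M ⊓ L, f y = f z := by
    refine Pi.single_induction (fun v => ∃ y ∈ 𝐅ₕ M ⊓ L, f y = v) (f z)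
      ⟨1, one_mem _, (k.ker 1 (one_mem _)).2 (one_mem _)⟩ ?_ fun w m => ?_
    · rintro _ _ ⟨a, ha, rfl⟩ ⟨b, hb, rfl⟩
      exact ⟨a * b, mul_mem ha hb, k.add a ha.1 b hb.1⟩
    · refine ⟨x w ^ m.val, pow_mem (Subgroup.mem_inf.2 ⟨hx w, hL w⟩) _, ?_⟩
      rw [k.f_powV (hx w), e, ← Pi.single_smul]; simp
  simpa using mul_mem hy.2 (h0 (k.inv_mul_memV hy.1 hz e))

end NonGal

theorem MP.subCoh (h : MP M U W W₁ W₂) (n2 : ¬ IsOfTypeII M) :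
    ∃ R, SubCoh M (sind ⁅M, M⁆ M ⁅M, M⁆ ⊥) (tau M) R :=
  let ⟨_, _, _, k⟩ := h.exists_tp; ((k.pdadeK n2).subCoh h.odd).imp fun _ r => r.1

theorem MP.norm_C (h : MP M U W W₁ W₂) : U ⊔ W₁ ≤ 𝐍 (U ⊓ 𝐂 (𝐅ₕ M)) :=
  norm_inf_cent (sup_le (le_norm_self U) h.nUW) h.sdHU.norm

theorem MP.F_relIndex (h : MP M U W W₁ W₂) :
    (𝐅 M).relIndex ⁅M, M⁆ = (U ⊓ 𝐂 (𝐅ₕ M)).relIndex U := by
  have e : 𝐅 M ⊔ U = ⁅M, M⁆ := le_antisymm (sup_le h.F_le h.sdH.right_le)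
    (h.sdH.sup.ge.trans (sup_le_sup_right (Fh_le_F M) U))
  rw [← e, relIndex_sup_norm' (Or.inl (h.out.leU.trans (F_normal M).norm)),
    ← Subgroup.inf_relIndex_right, ← h.defF.sup,
    sup_inf_right inf_le_left (Or.inr (inf_le_left.trans h.sdH.norm)), h.sdH.inf, bot_sup_eq]

theorem MP.one_lt_u (h : MP M U W W₁ W₂) : 1 < (U ⊓ 𝐂 (𝐅ₕ M)).relIndex U :=
  one_lt_relIndex fun l => h.ncent h.U_ne (l.trans inf_le_right)

namespace H9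

theorem norm_H0C (h : H9 M U W W₁ W₂ H₀ p) : M ≤ 𝐍 (H₀ ⊔ U ⊓ 𝐂 (𝐅ₕ M)) :=
  (h.sup_normal h.cent_le_C h.norm_C).norm

/-- (11.3) -/
theorem not_coh34 (h : H9 M U W W₁ W₂ H₀ p) (n2 : ¬ IsOfTypeII M) :
    ¬ Coh M (sind ⁅M, M⁆ M ⁅M, M⁆ (H₀ ⊔ U ⊓ 𝐂 (𝐅ₕ M))) (tau M) := fun c => by
  obtain ⟨R, r⟩ := h.subCoh n2
  have l := h.chief.lt.le
  refine h.not_coh n2 (r.bounded h.sdM.normal h.out.solD (by simp) (F_normal M).norm h.norm_H0C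
    bot_le (h.defF.sup ▸ sup_le_sup_right l _) h.F_le ((F_nil M).qt ⊥) c ?_)
  have e : 𝐅ₕ M ⊔ (H₀ ⊔ U ⊓ 𝐂 (𝐅ₕ M)) = 𝐅 M := by rw [← sup_assoc, sup_eq_left.2 l, h.defF.sup]
  rw [h.sdM.relIndex_left, ← e, relIndex_sup_norm (Or.inl ((Fh_le M).trans h.norm_H0C)),
    ← Subgroup.inf_relIndex_right,
    sup_inf_left l (Or.inr ((inf_le_left.trans h.out.leU).trans h.chief.normV)), h.defF.symm.inf,
    sup_bot_eq, h.card, h.p_eq h.primes.2]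
  exact four_sq_lt h.primes.2 h.primes.1 h.odd₂ h.odd₁ h.cti.card_ne.symm

/-- (11.4) -/
theorem bound34 (h : H9 M U W W₁ W₂ H₀ p) (n2 : ¬ IsOfTypeII M) (n : M ≤ 𝐍 H₁) (lt : H₁ < ⁅M, M⁆)
    (c : Coh M (sind ⁅M, M⁆ M ⁅M, M⁆ H₁) (tau M)) :
    H₁.relIndex ⁅M, M⁆ ≤ 2 * ♯W₁ * (U ⊓ 𝐂 (𝐅ₕ M)).relIndex U + 1 := by
  obtain ⟨R, r⟩ := h.subCoh n2
  have n1 := (Fh_le M).trans h.norm_H0C
  have n3 : U ⊓ 𝐂 (𝐅ₕ M) ≤ _ := (inf_le_left.trans h.out.leU).trans h.norm_H0C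
  have := r.bound h.sdM.normal h.out.solD n h.norm_H0C lt
    (h.defF.sup ▸ sup_le_sup_right h.chief.lt.le _) le_rfl h.F_le (by
      rw [← h.defF.sup]
      exact comm_sup_le (comm_sup_le' (h.der_le.trans le_sup_left)
        ((comm_le_right (norm_of_cent h.defF.cent')).trans le_sup_right) n1 n3)
        (comm_sup_le' ((comm_le_left (norm_of_cent h.defF.cent')).trans le_sup_right)
          ((BG.der_le _).trans le_sup_right) n1 n3) n1 n3) c (h.not_coh34 n2)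
  rw [Subgroup.relIndex_self, mul_one, ← Subgroup.relIndex_mul_relIndex _ _ _ h.F_le h.sdM.left_le,
    h.F_relIndex, h.sdM.relIndex_left, show ∀ a b : ℕ, 4 * (a * b) ^ 2 = (2 * b * a) ^ 2 from
      fun a b => by ring, Nat.pow_le_pow_iff_left two_ne_zero] at this
  omega

/-- (11.5) -/
theorem der2_eq (h : H9 M U W W₁ W₂ H₀ p) (n2 : ¬ IsOfTypeII M) :
    ⁅⁅M, M⁆, ⁅M, M⁆⁆ = 𝐅ₕ M ⊔ U ⊓ 𝐂 (𝐅ₕ M) := by
  obtain ⟨R, r⟩ := h.subCoh n2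
  have nK := h.sdM.normal.der
  have b := h.bound34 n2 nK.norm h.der_lt ((r.mono sind_sub_bot fun _ => sind_star).uniform
    fun φ a ψ b => by rw [sind_one_of_der h.sdM.left_le le_rfl a,
      sind_one_of_der h.sdM.left_le le_rfl b])
  rw [← Subgroup.relIndex_mul_relIndex _ _ _ h.der2_le h.F_le, h.F_relIndex] at b
  have d := dvd_relIndex_sub_one h.primes.1 (h.out.le₁.trans (F_normal M).norm)
    (h.out.le₁.trans nK.norm) (nK.of_le h.der2_le (F_le M)) (coprime_mono h.copK.symm le_rfl h.F_le)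
    ((inf_le_inf_right _ h.F_le).trans (h.centK.le.trans h.le₂der))
  rw [h.defF.sup]
  refine le_antisymm h.der2_le (by_contra fun l => ?_)
  have := two_mul_lt_of_dvd h.odd₁ (odd_relIndex (h.mx.odd' (F_le M)) le_rfl _) (one_lt_relIndex l) d
  have := h.one_lt_u
  nlinarith

/-- (11.6) -/
theorem facts34 (h : H9 M U W W₁ W₂ H₀ p) (n2 : ¬ IsOfTypeII M) :
    PiGrp {p} (𝐅ₕ M) ∧ U ≤ 𝐂 H₀ ∧ H₀ = ⁅𝐅ₕ M, 𝐅ₕ M⁆ ∧ U ⊓ 𝐂 (𝐅ₕ M) = ⁅U, U⁆ := by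
  have l := h.chief.lt.le
  have nU := h.sdH.norm
  have n0 := h.out.leU.trans h.chief.normV
  have nH := h.chief.normalVU.norm
  have h1 : 𝐅ₕ M ⊓ 𝐂 U ≤ H₀ := by
    rcases h.chief.eq_or (W := 𝐅ₕ M ⊓ 𝐂 U ⊔ H₀) le_sup_right (sup_le inf_le_left l) (h.sdHU.sup.ge.trans
      (sup_le (norm_of_der_le (sup_le inf_le_left l) (h.der_le.trans le_sup_right)) (norm_sup
        (norm_inf_cent h.sdHU.norm (sup_le (le_norm_self U) h.nUW))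
        (h.out.leUW.trans h.chief.normV)))) with e | e
    · exact le_sup_left.trans e.le
    · refine absurd (le_centMod.2 ⟨n0, ?_⟩) h.ncentQ
      rw [← e]
      exact comm_sup_le' ((comm_eq_bot.2 (cent_symm inf_le_right)).le.trans bot_le)
        (comm_le_right n0) (inf_le_left.trans nH) (le_norm_self H₀)
  have h2 : 𝐅ₕ M ⊓ 𝐂 U = H₀ := eq_of_card_eq h1 (by
    have a := (h.core_34 h.U_ne n2).2.2
    rw [← card_mul_relIndex l, h.card, h.p_eq h.primes.2, mul_comm] at a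
    exact (Nat.eq_of_mul_eq_mul_left (Nat.pow_pos (card_pos' _)) a).symm)
  have h3 : U ≤ 𝐂 H₀ := cent_symm (h2.ge.trans inf_le_right)
  have d := h.der2_eq n2
  have h4 : H₀ ≤ ⁅𝐅ₕ M, 𝐅ₕ M⁆ := by
    have m := (Fh_normal M).der.norm
    have a := (Fh_le M).trans m
    have b := h.out.leU.trans m
    have e : ⁅𝐅ₕ M, 𝐅ₕ M⁆ ⊔ ⁅𝐅ₕ M, U⁆ ≤ 𝐅ₕ M := sup_le (BG.der_le _) (comm_le_left nU)
    have n1 : 𝐅ₕ M ≤ 𝐍 (⁅𝐅ₕ M, 𝐅ₕ M⁆ ⊔ ⁅𝐅ₕ M, U⁆ ⊔ ⁅U, U⁆) :=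
      norm_sup (norm_of_der_le e le_sup_left) (norm_of_cent' h.derU)
    have n3 : U ≤ 𝐍 (⁅𝐅ₕ M, 𝐅ₕ M⁆ ⊔ ⁅𝐅ₕ M, U⁆ ⊔ ⁅U, U⁆) :=
      norm_sup (norm_sup b (norm_commutator nU (le_norm_self U))) ((le_norm_self U).trans (norm_der U))
    have f : 𝐅ₕ M ≤ ⁅𝐅ₕ M, 𝐅ₕ M⁆ ⊔ ⁅𝐅ₕ M, U⁆ := by
      have : ⁅𝐅ₕ M ⊔ U, 𝐅ₕ M ⊔ U⁆ ≤ ⁅𝐅ₕ M, 𝐅ₕ M⁆ ⊔ ⁅𝐅ₕ M, U⁆ ⊔ ⁅U, U⁆ :=
        comm_sup_le (comm_sup_le' (le_sup_left.trans le_sup_left) (le_sup_right.trans le_sup_left) n1 n3)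
          (comm_sup_le' ((Subgroup.commutator_comm _ _).le.trans (le_sup_right.trans le_sup_left))
            le_sup_right n1 n3) n1 n3
      rw [h.sdH.sup, d] at this
      have g := le_inf (le_sup_left.trans this) le_rfl
      rwa [sup_inf_left e (Or.inl (norm_of_cent' (h.derU.trans (cent_anti e)))),
        eq_bot_mono h.sdH.inf' (inf_le_inf_right _ (BG.der_le U)), sup_bot_eq] at g
    rw [← qt_eq_bot (l.trans a)]
    refine eq_bot_mono ((abel_qt_der _).comm_inf_cent (qt_norm _ nU)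
      (coprime_qt _ h.out.copFU.symm)) (le_inf ?_ (qt_cent _ (cent_symm h3)))
    rw [← qt_comm a b, qt_le_qt_iff (l.trans a) ((comm_le_left nU).trans a)]
    exact l.trans f
  have h5 := le_antisymm h4 h.der_le
  refine ⟨(Fh_nil M).pi_of_der (by rw [← h5, h.card]; exact piNat_pow_self h.prime _), h3, h5,
    le_antisymm ?_ (le_inf (BG.der_le U) h.derU)⟩
  have g := le_inf ((le_sup_right.trans d.ge).trans (der_le_sup h.sdH.normal h.sdH.sup)) inf_le_left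
  rwa [sup_inf_right (BG.der_le U) (Or.inr ((BG.der_le U).trans nU)), h.sdH.inf, bot_sup_eq] at g

/-- (11.7) -/
theorem ker_eq_bot (h : H9 M U W W₁ W₂ H₀ p) (n2 : ¬ IsOfTypeII M) : H₀ = ⊥ := by
  obtain ⟨k, c, e, -⟩ := h.facts34 n2
  by_contra h1
  have l := h.chief.lt.le
  have hp := h.prime
  have p1 := (k.le l).logn_pos.2 h1
  obtain ⟨Q, q1, q2, q3⟩ := k.exists_normal h.chief.normalVU (Nat.sub_le _ 1)
  have n := q2.norm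
  have e1 : ♯(qt Q H₀) = p := by
    have := logn_card_eq_add (p := p) q1
    rw [((k.le l).qt Q).card_eq, card_qt (l.trans n), show logn p _ = 1 by omega, pow_one]
  have e2 : ⁅qt Q (𝐅ₕ M), qt Q (𝐅ₕ M)⁆ = qt Q H₀ := by rw [← qt_comm n n, ← e]
  have e3 : qt Q H₀ ≤ 𝐂 (qt Q (𝐅ₕ M)) :=
    (k.qt Q).nil.cent_of_prime (h.chief.normalVU.qt Q) (e1 ▸ hp)
  have e4 : H₀ ≤ centMod (𝐅ₕ M) Q := le_centMod.2 ⟨l.trans n, (qt_cent_iff (l.trans n) n).1 e3⟩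
  have e5 : ¬ 𝐅ₕ M ≤ centMod (𝐅ₕ M) Q := fun d => by
    rw [qt_of_le (e.le.trans (le_centMod.1 d).2), Subgroup.card_bot] at e1
    exact hp.ne_one e1.symm
  by_cases g : Gal M U H₀
  · obtain ⟨m, hm⟩ := exists_sq_relIndex (e2 ▸ e1 ▸ hp) (e2 ▸ e3)
    rw [← relIndex_qp_left _ n, qp_cent_eq n, ← Subgroup.inf_relIndex_left, (g _ (le_inf l e4)
      inf_le_left (norm_inf h.sdH.norm (norm_centMod h.sdH.norm (norm_of_cent
        (c.trans (cent_anti q1)))))).resolve_right fun d => e5 (inf_eq_left.1 d), h.card] at hm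
    have m0 : m ≠ 0 := by rintro rfl; exact pow_ne_zero _ hp.ne_zero (hm.symm.trans rfl)
    have := congrArg (logn p) hm
    rw [pow_two, logn_mul m0 m0, logn_pow hp] at this
    have := Nat.odd_iff.1 h.odd₁
    omega
  obtain ⟨C₁, f, χ, k⟩ := h.nonGal g
  have := Fact.mk hp
  choose x hx ex using fun w : W₁ => k.surj (Pi.single w 1)
  obtain ⟨v, w, hc⟩ : ∃ v w, ⁅qe Q (x v), qe Q (x w)⁆ ≠ 1 := by
    by_contra! hc
    refine e5 (k.le_of_basisV hx ex e4 fun w => ⟨n (hx w), fun z hz => ?_⟩)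
    have := k.le_of_basisV hx ex (L := qp Q (𝐂₁ (qe Q (x w)))) (fun y hy => mem_qp.2 ⟨n (l hy),
      mem_cent1.2 (e3 (qe_mem_qt hy (n (l hy))) _ (qe_mem_qt (hx w) (n (hx w)))).symm⟩)
      (fun v => mem_qp.2 ⟨n (hx v), mem_cent1.2 (commutatorElement_eq_one_iff_mul_comm.1 (hc v w))⟩) hz
    rw [commutatorElement_def, ← qe_eq_one (mul_mem (mul_mem (mul_mem (n (hx w)) (n hz)) (inv_mem (n (hx w)))) (inv_mem (n hz))),
      ← commutatorElement_def, qe_comm (n (hx w)) (n hz),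
      commutatorElement_eq_one_iff_mul_comm]
    exact (mem_cent1.1 (mem_qp.1 this).2).symm
  have m0 : ⁅x v, x w⁆ ∈ H₀ := e ▸ Subgroup.commutator_mem_commutator (hx v) (hx w)
  have key : ∀ u ∈ U, χ ((v : G)⁻¹ * u * v) * χ ((w : G)⁻¹ * u * w) = 1 := fun u hu => by
    have a : ∀ v : W₁, ∃ y ∈ H₀, u * x v * u⁻¹ = x v ^ (χ ((v : G)⁻¹ * u * v) : ZMod p).val * y :=
      fun v => ⟨_, k.inv_mul_memV (Subgroup.pow_mem _ (hx v) _) (conj_mem_of_norm (h.sdH.norm hu) (hx v)) (by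
        funext w
        rw [k.f_powV (hx v), k.actU u hu _ (hx v), ex]
        by_cases e : w = v
        · simp [e]
        · simp [e]), (mul_inv_cancel_left _ _).symm⟩
    obtain ⟨y, hy, a1⟩ := a v
    obtain ⟨z, hz, a2⟩ := a w
    have z1 : ∀ y ∈ H₀, ∀ t ∈ 𝐅ₕ M, Commute (qe Q t) (qe Q y) := fun y hy t ht =>
      e3 (qe_mem_qt hy (n (l hy))) _ (qe_mem_qt ht (n ht))
    have a3 := conjugate_commutatorElement (x v) (x w) u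
    have mv := Subgroup.pow_mem _ (hx v) (χ ((v : G)⁻¹ * u * v) : ZMod p).val
    have mw := Subgroup.pow_mem _ (hx w) (χ ((w : G)⁻¹ * u * w) : ZMod p).val
    have z2 := fun t ht => z1 _ m0 t ht
    rw [qe_comm (n (hx v)) (n (hx w))] at z2
    rw [← c hu _ m0, mul_inv_cancel_right, a1, a2] at a3
    have a4 := congrArg (qe Q) a3
    rw [qe_comm (n (mul_mem mv (l hy))) (n (mul_mem mw (l hz))), qe_mul (n mv) (n (l hy)),
      qe_mul (n mw) (n (l hz)), comm_mul_mul ((z1 y hy _ mw).mul_left (z1 y hy _ (l hz))).symm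
        (z1 z hz _ mv), qe_pow (n (hx v)), qe_pow (n (hx w)), qe_comm (n (hx v)) (n (hx w)),
      BG2.comm_pow_pow (z2 _ (hx v)) (z2 _ (hx w))] at a4
    have o : orderOf ⁅qe Q (x v), qe Q (x w)⁆ = p := by
      rw [← Nat.card_zpowers, zpowers_eq_of_prime (e1 ▸ hp) ?_ hc, e1]
      rw [← qe_comm (n (hx v)) (n (hx w))]
      exact qe_mem_qt m0 (n (l m0))
    nth_rw 1 [← pow_one ⁅qe Q (x v), qe Q (x w)⁆] at a4
    rw [pow_eq_pow_iff_modEq, o, ← ZMod.natCast_eq_natCast_iff] at a4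
    ext; simpa using a4.symm
  refine (h.a_facts k).1.ne' (Subgroup.relIndex_eq_one.2 fun u hu => ?_)
  have s1 : ∀ s : W₁, χ (((s * (v⁻¹ * w) : W₁) : G)⁻¹ * u * (s * (v⁻¹ * w) : W₁)) =
      (χ ((s : G)⁻¹ * u * s))⁻¹ := fun s => by
    have := key _ (conj_mem_of_norm' (h.nUW (s * v⁻¹).2) hu)
    rw [eq_inv_iff_mul_eq_one, mul_comm, ← this]
    congr 2 <;> simp [mul_assoc]
  have s2 : ∀ m : ℕ, χ ((((v⁻¹ * w) ^ (2 * m) : W₁) : G)⁻¹ * u * ((v⁻¹ * w) ^ (2 * m) : W₁)) = χ u := by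
    intro m
    induction m with
    | zero => simp
    | succ m ih => rw [mul_add, mul_one, pow_succ, pow_succ, s1, s1, inv_inv, ih]
  obtain ⟨m, hm⟩ := h.odd₁
  have s3 := s1 ((v⁻¹ * w) ^ (2 * m))
  rw [← pow_succ, ← hm, pow_card_eq_one', s2] at s3
  simp only [OneMemClass.coe_one, inv_one, one_mul, mul_one, eq_inv_iff_mul_eq_one] at s3
  rw [← k.mul u hu u hu, k.ker₁ _ (mul_mem hu hu)] at s3
  exact BG2.mem_of_sq_mem_of_odd (h.oddU.of_dvd_nat (orderOf_dvd_card' hu)) s3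

end H9

/-- (11.5)-(11.7) -/
theorem MP.facts34 (h : MP M U W W₁ W₂) (n2 : ¬ IsOfTypeII M) :
    H9 M U W W₁ W₂ ⊥ (♯W₂) ∧ Abelem (♯W₂) (𝐅ₕ M) ∧ ♯(𝐅ₕ M) = ♯W₂ ^ ♯W₁ ∧
      U ⊓ 𝐂 (𝐅ₕ M) = ⁅U, U⁆ ∧ ⁅⁅M, M⁆, ⁅M, M⁆⁆ = 𝐅ₕ M ⊔ U ⊓ 𝐂 (𝐅ₕ M) := by
  obtain ⟨H₀, p, k⟩ := h.exists_H9 h.U_ne
  obtain rfl := k.ker_eq_bot n2
  obtain rfl := k.p_eq h.primes.2
  exact ⟨k, .mk' k.prime (der_eq_bot.1 (le_bot_iff.1 k.der_le)) k.pow_mem,
    by rw [← k.card, Subgroup.relIndex_bot_left], (k.facts34 n2).2.2.2, k.der2_eq n2⟩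

end CF.BG.Vp
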