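import Cfsg.Agent.Vp.P12

/-!
Peterfalvi, section 13, first part: (13.2)-(13.5).
Notation: `P = 𝐅ₕ S`, `H = 𝐅 S = P C`, `p = ♯W₂`, `q = ♯W₁`, `u = uS S = |U : C|`.
-/

set_option autoImplicit false
set_option linter.unusedSectionVars false

namespace CF.BG.Vp
open CF.PF

open Cfsg hiding typeA typeA0 Supports
open CF.Char CF.BG
open CF.PF8 (PW TF)
open scoped ComplexConjugate Classical commutatorElement

variable {G : Type*} [Group G] [Finite G] [MSO G]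

section Split
variable {H P S K : Subgroup G} {χ ψ ζ α θ : G → ℂ}

end Split

variable [BG16 G] {S T L U V W W₁ W₂ : Subgroup G} {φ χ ζ ξ : G → ℂ}
  {η μ : Lin W₁ → Lin W₂ → G → ℂ} {δ : Lin W₂ → ℝ} {i : Lin W₁} {j l : Lin W₂}
  {ν : (G → ℂ) →ₗ[ℂ] (G → ℂ)}

namespace MP

/-- (13.2) -/
theorem two_or_three (h : MP S U W W₁ W₂) : IsOfTypeII S ∨ IsOfTypeIII S :=
  or_iff_not_imp_left.2 fun n => (h.struct34 n).2.1
theorem two_of_lt (h : MP S U W W₁ W₂) (lt : ♯W₁ < ♯W₂) : IsOfTypeII S :=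
  by_contra fun n => lt_asymm lt (h.struct34 n).1
theorem abelU (h : MP S U W W₁ W₂) : Abel U :=
  h.two_or_three.elim (fun t => (h.of_two t).1) fun t => (h.three_iff.1 t).1
theorem h9 (h : MP S U W W₁ W₂) : H9 S U W W₁ W₂ ⊥ (♯W₂) :=
  (em _).elim (fun t => (h.two_facts t).1) fun t => (h.facts34 t).1
theorem abelem (h : MP S U W W₁ W₂) : Abelem (♯W₂) (𝐅ₕ S) :=
  (em _).elim (fun t => (h.two_facts t).2.1) fun t => (h.facts34 t).2.1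
theorem card_F (h : MP S U W W₁ W₂) : ♯(𝐅ₕ S) = ♯W₂ ^ ♯W₁ :=
  (em _).elim (fun t => (h.two_facts t).2.2.1) fun t => (h.facts34 t).2.2.1
theorem A0_nti (h : MP S U W W₁ W₂) : NTI (typeA0 S) ⊤ S :=
  nti_of_cent h.mx subset_rfl (fun _ hx a ha => (dade_conj_mem_iff (dade0 h.mx) hx a).2 ha)
    fun a ha => by_contra fun n => by
      obtain ⟨-, L, u, -, -, -, -, a1, a2, t, f⟩ := supp_facts h.mx ha n
      rcases t with t | t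
      · rw [(one_frobK u.mx t).A_eqV u.mx, ← one_A1 u.mx t] at a1
        exact a2 a1
      · exact h.not_frobK (f t)

theorem three₁ (h : MP S U W W₁ W₂) : 3 ≤ ♯W₁ := h.cti.three_le₁
theorem three₂ (h : MP S U W W₁ W₂) : 3 ≤ ♯W₂ := h.cti.three_le₂
theorem HC_eq (h : MP S U W W₁ W₂) : 𝐅ₕ S ⊔ cU S U ⊥ = 𝐅 S := by
  rw [cU, centMod_bot]; exact h.defF.sup
theorem abelF (h : MP S U W W₁ W₂) : Abel (𝐅 S) :=
  h.defF.abel h.abelem.abel (h.abelU.mono inf_le_left)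
theorem derC (h : MP S U W W₁ W₂) : ⊥ ⊔ ⁅cU S U ⊥, cU S U ⊥⁆ = ⊥ := by
  rw [bot_sup_eq, der_eq_bot]; exact h.abelU.mono inf_le_left
theorem u_eq (h : MP S U W W₁ W₂) : (cU S U ⊥).relIndex U = uS S := by
  rw [← h.h9.relIndex_HC, h.HC_eq]
theorem relIndex_F (h : MP S U W W₁ W₂) : (𝐅 S).relIndex S = ♯W₁ * uS S := by
  rw [← Subgroup.relIndex_mul_relIndex _ _ _ h.F_le (der_le S), h.out.relIndex_der, mul_comm]
theorem card_U (h : MP S U W W₁ W₂) : ♯U = ♯(U ⊓ 𝐂 (𝐅ₕ S)) * uS S := by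
  rw [← h.u_eq, cU, centMod_bot, card_mul_relIndex inf_le_left]
theorem q_dvd_u (h : MP S U W W₁ W₂) : ♯W₁ ∣ uS S - 1 := h.u_eq ▸ h.h9.q_dvd
theorem one_lt_uS (h : MP S U W W₁ W₂) : 1 < uS S := by
  have := BG.relIndex_pos (cU S U ⊥) U
  have := mt Subgroup.relIndex_eq_one.1 h.h9.C_lt.not_ge
  rw [← h.u_eq]; omega
theorem cohS (h : MP S U W W₁ W₂) : Coh S (cS S) (tau S) := by
  have := h.h9.coh; rwa [h.derC] at this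
theorem F_ti (h : MP S U W W₁ W₂) : NTI ((𝐅 S : Set G) \ {1}) ⊤ S := h.F_nti h.U_ne

/-- (13.2)(c) -/
theorem u_le (h : MP S U W W₁ W₂) : uS S * (♯W₂ - 1) + 1 ≤ ♯W₂ ^ ♯W₁ := by
  have := h.three₁
  have := h.three₂
  have := Nat.one_lt_pow (n := ♯W₁) (a := ♯W₂) (by omega) (by omega)
  rw [← h.u_eq]
  by_cases g : Gal S U ⊥
  · have := (Nat.le_div_iff_mul_le (by omega)).1 (Nat.le_of_dvd (Nat.div_pos (Nat.sub_le_sub_right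
      (Nat.le_self_pow (by omega) _) 1) (by omega)) (h.h9.gal_facts g).2.2.1)
    omega
  · obtain ⟨C, f, χ, k⟩ := h.h9.nonGal g
    obtain ⟨-, -, a, -, -, b⟩ := h.h9.a_facts k
    refine le_trans ?_ (pow_pred_le (by omega) (by omega))
    gcongr
    exact Nat.le_of_dvd (Nat.pow_pos (by omega)) (b.trans (pow_dvd_pow_of_dvd a _))

theorem two_u_le (h : MP S U W W₁ W₂) : (2 * uS S : ℝ) ≤ ♯(𝐅ₕ S) - 1 := by
  have := h.three₂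
  have := h.u_le.trans_eq h.card_F.symm
  have := Nat.mul_le_mul_left (uS S) (show 2 ≤ ♯W₂ - 1 by omega)
  have : 2 * uS S + 1 ≤ ♯(𝐅ₕ S) := by omega
  have : (2 * uS S + 1 : ℝ) ≤ ♯(𝐅ₕ S) := by exact_mod_cast this
  linarith

theorem mem_cS1 (h : MP S U W W₁ W₂) (hζ : ζ ∈ cS S) (hξ : ξ ∈ irr (𝐅ₕ S ⊔ cU S U ⊥))
    (e : ζ = ind (𝐅ₕ S ⊔ cU S U ⊥) S ξ) : ζ ∈ cS1 S := by
  rw [h.HC_eq] at hξ e
  refine e ▸ ind_mem_sind hξ bot_le fun c => sind_not_le_ker (der_le S) h.out.leFD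
    (Fh_normal S).norm hζ (e ▸ le_ker_ind (Fh_le_F S) (Fh_normal S).norm c)

theorem cS1_one (h : MP S U W W₁ W₂) (hζ : ζ ∈ cS1 S) : ζ 1 = (♯W₁ * uS S : ℝ) := by
  rw [sind_one_of_der (BG.F_le S) (der_eq_bot.2 h.abelF).le hζ, h.relIndex_F]; simp

theorem cS1_CS (h : MP S U W W₁ W₂) (hζ : ζ ∈ cS1 S) : ζ ∈ CS (cS S) :=
  sind_mem_CS h.F_le (der_le S) (Fh_le_F S) hζ

/-- (13.3)(b) -/
theorem cases13 (h : MP S U W W₁ W₂) : (∃ ζ ∈ irr S, ζ ∈ cS S ∧ ζ ∈ cS1 S) ∨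
    (Gal S U ⊥ ∧ U ⊓ 𝐂 (𝐅ₕ S) = ⊥ ∧ ♯U = (♯W₂ ^ ♯W₁ - 1) / (♯W₂ - 1)) := by
  rcases h.h9.core_cases with ⟨ζ, a, b, -, ξ, c, -, d⟩ | ⟨a, b, -, c, -⟩
  · rw [h.derC] at b
    exact .inl ⟨ζ, a, b, h.mem_cS1 b c d⟩
  · rw [cU, centMod_bot] at b
    exact .inr ⟨a, b, c⟩

theorem F_disjoint (h : MP S U W W₁ W₂) (k : MP T V W W₂ W₁) :
    Disjoint (clsup ⊤ ((𝐅 S : Set G) \ {1})) (clsup ⊤ ((𝐅 T : Set G) \ {1})) := by
  refine Set.disjoint_left.2 fun a ⟨x, _, hx⟩ ⟨y, _, hy⟩ => ?_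
  have : BG.cj (x * y⁻¹) (𝐅ₕ T) ≤ S := fun g hg => h.F_ti.centralizer_le hx trivial (by
    have := k.abelF.mul_comm (Fh_le_F T (mem_cj.1 hg)) hy.1
    calc _ = (x * y⁻¹) * ((x * y⁻¹)⁻¹ * g * (x * y⁻¹) * (y * a * y⁻¹)) * (x * y⁻¹)⁻¹ := by group
      _ = _ := by rw [this]; group)
  have d := card_dvd this
  rw [card_cj, k.card_F, ← h.sdM.card] at d
  have := Nat.le_of_dvd (card_pos' _) ((h.copK.symm.pow_left _).dvd_of_dvd_mul_left d)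
  have := Nat.pow_lt_pow_right (a := ♯W₁) (m := 1) (n := ♯W₂) (by have := h.three₁; omega)
    (by have := h.three₂; omega)
  rw [pow_one] at this
  omega

end MP

namespace TP

/-- (13.3)(a) -/
theorem red_cS (h : TP S U W W₁ W₂ η μ δ) (hj : j ≠ 1) : red μ j ∈ cS S := h.pdadeF.red_mem hj

theorem red_cS1 (h : TP S U W W₁ W₂ η μ δ) (hj : j ≠ 1) : red μ j ∈ cS1 S := by
  obtain ⟨ξ, a, -, b⟩ := (h.h9.red_indHC (h.red_cS hj) (h.pfam.red_not_irr j)).ind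
  exact h.mem_cS1 (h.red_cS hj) a b

end TP

/-- Hypothesis (13.1) for one group, with an extension `ν` of the Dade isometry -/
structure TC (S U W W₁ W₂ : Subgroup G) (η μ : Lin W₁ → Lin W₂ → G → ℂ) (δ : Lin W₂ → ℝ)
    (ν : (G → ℂ) →ₗ[ℂ] (G → ℂ)) : Prop extends TP S U W W₁ W₂ η μ δ where
  coh : CohWith S (cS S) (tau S) ν
  nured : ∀ j, j ≠ 1 → ∃ k, k ≠ 1 ∧ ∃ ε : ℝ, ε * ε = 1 ∧ ν (red μ j) = ε • red η k

theorem TP.exists_tc (h : TP S U W W₁ W₂ η μ δ) : ∃ ν, TC S U W W₁ W₂ η μ δ ν := by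
  by_cases e : ∃ φ ∈ cS S, φ ∈ irr S
  · obtain ⟨φ, a, b⟩ := e
    obtain ⟨ν, hν⟩ := h.cohS
    refine ⟨ν, h, hν, fun j hj => ?_⟩
    rcases h.pdadeF.coh_red h.odd subset_rfl (fun _ => sind_star) hν a b (h.red_cS hj) with
      c | ⟨c, -⟩
    · exact ⟨j, hj, _, h.pfam.sq j, c⟩
    · exact ⟨j⁻¹, inv_ne_one.2 hj, -δ j, by rw [neg_mul_neg, h.pfam.sq], by rw [c, neg_smul]⟩
  · obtain ⟨k, hk⟩ := h.cti.exists_ne₂ 1
    obtain ⟨ν, hν, e'⟩ := h.pdadeF.uniform_red (S := cS S) hk fun χ hχ => by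
      rcases h.pfam.sind_cases h.out.leFD hχ with ⟨j, hj, rfl⟩ | ⟨a, -⟩
      · exact ⟨j, hj, by rw [h.cS1_one (h.red_cS1 hj), h.cS1_one (h.red_cS1 hk)], rfl⟩
      · exact (e ⟨χ, hχ, a⟩).elim
    exact ⟨ν, h, hν, fun j hj => ⟨j, hj, _, h.pfam.sq k, e' j (h.red_cS hj)⟩⟩

theorem MP.exists_tc (h : MP S U W W₁ W₂) (hη : Fam ⊤ W W₁ W₂ η) :
    ∃ μ δ ν, TC S U W W₁ W₂ η μ δ ν := by
  obtain ⟨μ, δ, k⟩ := h.exists_tp' hη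
  exact ⟨μ, δ, k.exists_tc⟩

namespace TC

theorem ortho (h : TC S U W W₁ W₂ η μ δ ν) (hχ : χ ∈ cS S) (hi : χ ∈ irr S) (i : Lin W₁)
    (j : Lin W₂) : rip ⊤ (ν χ) (η i j) = 0 :=
  h.pdadeF.coh_ortho h.odd subset_rfl h.coh hχ (sind_star hχ) hi i j

theorem sub_supp (h : TC S U W W₁ W₂ η μ δ ν) (hζ : ζ ∈ cS1 S) (hξ : ξ ∈ cS1 S) :
    ζ - ξ ∈ Supp ((𝐅 S : Set G) \ {1}) :=
  PF7.sub_mem_supp (sind_supp (F_normal S) hζ) (sind_supp (F_normal S) hξ)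
    (by rw [h.cS1_one hζ, h.cS1_one hξ])

theorem nu_sub (h : TC S U W W₁ W₂ η μ δ ν) (hζ : ζ ∈ cS1 S) (hξ : ξ ∈ cS1 S) :
    ν ζ - ν ξ = ind S ⊤ (ζ - ξ) := by
  rw [h.coh.sub (h.cS1_CS hζ) (h.cS1_CS hξ) (by rw [h.cS1_one hζ, h.cS1_one hξ])]
  exact dade_eq_ind (dade0 h.mx) (h.F_sub_A.trans (A_sub_A0 S)) h.F_ti
    (sub_mem (sind_cfn (F_le S) hζ) (sind_cfn (F_le S) hξ)) (h.sub_supp hζ hξ)

theorem nu_sub_supp (h : TC S U W W₁ W₂ η μ δ ν) (hζ : ζ ∈ cS1 S) (hξ : ξ ∈ cS1 S) :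
    ν ζ - ν ξ ∈ Supp (clsup ⊤ ((𝐅 S : Set G) \ {1})) :=
  h.nu_sub hζ hξ ▸ ind_supp_clsup (h.sub_supp hζ hξ)

theorem nu_sub_one (h : TC S U W W₁ W₂ η μ δ ν) (hζ : ζ ∈ cS1 S) (hξ : ξ ∈ cS1 S) :
    ν ζ 1 = ν ξ 1 :=
  sub_eq_zero.1 (h.nu_sub_supp hζ hξ 1 fun ⟨x, _, hx⟩ => hx.2 (by simp))

/-- (13.4) -/
theorem not_irr {μ' : Lin W₂ → Lin W₁ → G → ℂ} {δ' : Lin W₁ → ℝ} {ν' : (G → ℂ) →ₗ[ℂ] (G → ℂ)}
    (h : TC S U W W₁ W₂ η μ δ ν) (k : TC T V W W₂ W₁ (fun j i => η i j) μ' δ' ν')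
    (a : ζ ∈ irr S) (b : ζ ∈ cS S) (c : ζ ∈ cS1 S) (a' : ξ ∈ irr T) (b' : ξ ∈ cS T)
    (c' : ξ ∈ cS1 T) : False := by
  have z : ∀ {x y x' y'}, x ∈ cS1 S → y ∈ cS1 S → x' ∈ cS1 T → y' ∈ cS1 T →
      rip ⊤ (ν x - ν y) (ν' x' - ν' y') = 0 := fun p q r s => congrArg Complex.re
    (ip_eq_zero_of_disjoint ⊤ (h.nu_sub_supp p q) (k.nu_sub_supp r s) (h.F_disjoint k.toMP))
  have o := (four_orthogonal (u := 1) (v := 1) (h.coh.sir b a)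
    (h.coh.sir (sind_star b) (star_mem_irr a)) (k.coh.sir b' a')
    (k.coh.sir (sind_star b') (star_mem_irr a')) one_ne_zero one_ne_zero
    (by rw [h.coh.rip b (sind_star b), rip_irr_ne a (star_mem_irr a)
      (sind_star_ne h.odd (F_normal S) (Fh_le_F S) c).symm])
    (by rw [k.coh.rip b' (sind_star b'), rip_irr_ne a' (star_mem_irr a')
      (sind_star_ne k.odd (F_normal T) (Fh_le_F T) c').symm])
    (by rw [one_smul, one_smul, z c (sind_star c) c' (sind_star c')])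
    (h.nu_sub_one c (sind_star c)) (by rw [k.nu_sub_one c' (sind_star c')])).1
  obtain ⟨j, hj⟩ := h.cti.exists_ne₂ 1
  obtain ⟨i, hi⟩ := h.cti.exists_ne₁ 1
  obtain ⟨l, -, ε, e1, e2⟩ := h.nured j hj
  obtain ⟨m, -, ε', e1', e2'⟩ := k.nured i hi
  have p1 : rip ⊤ (ν ζ) (red (fun j i => η i j) m) = 0 :=
    rip_red_of_ortho (fun j i => h.ortho b a i j) m
  have p2 : rip ⊤ (red η l) (ν' ξ) = 0 := by
    rw [rip_comm]; exact rip_red_of_ortho (fun i j => k.ortho b' a' j i) l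
  have := z c (h.red_cS1 hj) c' (k.red_cS1 hi)
  simp only [e2, e2', rip_sub_left, rip_sub_right, rip_rsmul_left, rip_rsmul_right, o, p1, p2,
    h.fam.rip_red_swap] at this
  have : (ε * ε) * (ε' * ε') = 0 := by linear_combination (ε * ε') * this
  simp [e1, e1'] at this

/-- (13.5) -/
theorem split (h : TC S U W W₁ W₂ η μ δ ν) (hχ : χ ∈ ZIrr ⊤) (hζ : ζ ∈ cS1 S) {c : ℝ}
    (e : ∀ φ ∈ cS S, rip ⊤ (ν φ) χ = c * rip S φ ζ) :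
    ∃ α ∈ ZIrr (𝐅 S), ∃ n : ℤ, α 1 = n ∧ (∀ x ∈ W₂, x ≠ 1 → χ x = c * ζ x + n) ∧
      (♯(𝐅ₕ S) - 1 : ℝ) * n ^ 2 ≤ shN (𝐅 S) α ∧ shN (𝐅 S) χ =
        c ^ 2 * (♯S * rip S ζ ζ - (♯W₁ * uS S) ^ 2) - 2 * c * (♯W₁ * uS S) * n + shN (𝐅 S) α := by
  have e1 : ∀ φ ∈ CS (cS S), ip ⊤ (ν φ) χ = c * ip S φ ζ := fun φ hφ => by
    obtain ⟨f, rfl⟩ := CS.exists_sum hφ
    rw [map_sum, ip_sum_left, ip_sum_left, Finset.mul_sum]
    refine Finset.sum_congr rfl fun φ hφ => ?_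
    rw [map_smul, ip_smul_left, ip_smul_left, ip_eq_rip (h.coh.zirr φ hφ) hχ, e φ hφ,
      ip_eq_rip (sind_zirr (der_le S) hφ) (sind_zirr (F_le S) hζ)]
    push_cast; ring
  obtain ⟨α, a, b, d, f⟩ := exists_split (F_normal S) h.abelF (Fh_le_F S) (Fh_normal S).norm
    h.odd (ZIrr.res le_top hχ) hζ (c := c) fun x hx y hy => by
      rw [ip_res_right, ← ip_ind_left' le_top _ (cfn_of_zirr hχ), ← h.nu_sub hx hy, ← map_sub,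
        e1 _ (sub_mem (h.cS1_CS hx) (h.cS1_CS hy))]
  obtain ⟨n, hn⟩ := ZIrr.one_eq_int a
  have f' : ∀ x ∈ 𝐅 S, x ≠ 1 → χ x = c * ζ x + α x := fun x hx x1 => by
    rw [← f x hx x1, res_of_mem _ (F_le S hx)]
  refine ⟨α, a, n, hn, fun x hx x1 => ?_, ?_, shN_split (F_le S) (sind_supp (F_normal S) hζ)
    (h.cS1_one hζ) (by simpa using hn) d f'⟩
  · rw [f' x (Fh_le_F S (h.le₂H hx)) x1, apply_of_mem_ker (b (h.le₂H hx)), hn]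
  · simpa [hn] using shN_ker (Fh_le_F S) b

end TC

end CF.BG.Vp
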