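import Cfsg.Agent.Vp.P8

/-!
Peterfalvi, section 9: maximal subgroups of types II, III and IV.
Notation: `H = 𝐅ₕ M`, `HU = ⁅M, M⁆`, `C = cU M U H₀`, `q = ♯W₁`, `u = C.relIndex U`,
`𝒳(Y) = iirr ⁅M, M⁆ H Y`, `𝒮(Y) = sind ⁅M, M⁆ M H Y`.
-/

set_option autoImplicit false
set_option linter.unusedSectionVars false

namespace CF.BG.Vp
open CF.PF

open Cfsg hiding typeA typeA0 Supports
open CF.Char CF.BG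
open CF.PF8 (PW TF)
open scoped ComplexConjugate Classical commutatorElement

variable {G : Type*} [Group G] [Finite G] [MSO G]

/-- Hypotheses (9.2), (9.4), (9.5). -/
structure H9 (M U W W₁ W₂ H₀ : Subgroup G) (p : ℕ) : Prop extends MP M U W W₁ W₂ where
  U_ne : U ≠ ⊥
  chief : Chief M H₀ (𝐅ₕ M)
  ncentQ : ¬ U ≤ centMod (𝐅ₕ M) H₀
  prime : p.Prime
  dvd : p ∣ H₀.relIndex (𝐅ₕ M)

variable [BG16 G] {M U W W₁ W₂ H₀ C₁ : Subgroup G} {p : ℕ} {θ ζ : G → ℂ}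
  {η μ : Lin W₁ → Lin W₂ → G → ℂ} {δ : Lin W₂ → ℝ} {j : Lin W₂}

theorem MP.pre (h : MP M U W W₁ W₂) (hU : U ≠ ⊥) : PF9.Pre M ⁅M, M⁆ (𝐅ₕ M) U W₁ W₂ :=
  ⟨h.sdH, h.sdM, (Fh_normal M).norm, h.nUW, h.odd, h.prime₁ hU, h.out.copFU, h.copK,
    fun _ => h.cent1, h.le₂H, Fh_nil M, h.nilU, h.derU⟩

theorem H9.core (h : H9 M U W W₁ W₂ H₀ p) :
    PF9.Core M ⁅M, M⁆ (𝐅ₕ M) U W₁ W₂ H₀ (cU M U H₀) p :=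
  (h.pre h.U_ne).core h.chief h.ncentQ h.prime h.dvd h.cyc₂

/-- (9.3), type II -/
theorem MP.core_two (h : MP M U W W₁ W₂) (t : IsOfTypeII M) :
    𝐅ₕ M ⊓ 𝐂 U = ⊥ ∧ ♯(𝐅ₕ M) = ♯W₂ ^ ♯W₁ := by
  obtain ⟨hU, n⟩ := h.two_iff.1 t
  have e : 𝐅ₕ M ⊓ 𝐂 U = ⊥ := by_contra fun c => n ⟨((uniqIn_cent h.mx (Or.inr ⟨t, h.sdH⟩) le_rfl
    hU c).norm_of_cent (h.mx.pw_Fh.of_inf_cent c)).le, h.mx.pw_Fh.of_inf_cent c⟩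
  have := (h.pre hU).wielandt
  rw [e, eq_bot_mono e (inf_le_inf_left _ (cent_anti le_sup_left))] at this
  exact ⟨e, by simpa using this⟩

/-- (9.3), types III and IV -/
theorem MP.core_34 (h : MP M U W W₁ W₂) (hU : U ≠ ⊥) (n : ¬ IsOfTypeII M) :
    (♯W₂).Prime ∧ 𝐅ₕ M ⊓ 𝐂 (U ⊔ W₁) = ⊥ ∧ ♯(𝐅ₕ M) = ♯W₂ ^ ♯W₁ * ♯(𝐅ₕ M ⊓ 𝐂 U) := by
  have hp := h.out.prime₂V h.mx n
  have w := (h.pre hU).wielandt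
  have e : 𝐅ₕ M ⊓ 𝐂 (U ⊔ W₁) = ⊥ := (eq_bot_or_eq_of_prime hp ((inf_le_inf_left _
    (cent_anti le_sup_right)).trans h.centH.le)).resolve_right fun e => h.ncent hU (cent_symm
      ((eq_of_card_eq inf_le_left (mul_left_cancel₀ (pow_pos hp.pos _).ne' (e ▸ w)).symm).ge.trans
        inf_le_right))
  rw [e] at w
  exact ⟨hp, e, by simpa using w⟩

/-- (9.4) -/
theorem MP.exists_H9 (h : MP M U W W₁ W₂) (hU : U ≠ ⊥) : ∃ H₀ p, H9 M U W W₁ W₂ H₀ p := by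
  obtain ⟨H₀, c, n⟩ := (h.pre hU).exists_chief (h.ncent hU)
  obtain ⟨p, hp, d⟩ := Nat.exists_prime_and_dvd fun e => c.lt.not_ge (Subgroup.relIndex_eq_one.1 e)
  exact ⟨H₀, p, h, hU, c, n, hp, d⟩

namespace H9

theorem der_le (h : H9 M U W W₁ W₂ H₀ p) : ⁅𝐅ₕ M, 𝐅ₕ M⁆ ≤ H₀ := h.core.der_H
theorem pow_mem (h : H9 M U W W₁ W₂ H₀ p) : ∀ x ∈ 𝐅ₕ M, x ^ p ∈ H₀ := fun x hx => by
  have n := h.chief.normalVU.norm hx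
  rw [← qe_eq_one (Subgroup.pow_mem _ n p), qe_pow n]
  exact h.core.ab.pow _ (qe_mem_qt hx n)
/-- (9.6) -/
theorem card (h : H9 M U W W₁ W₂ H₀ p) : H₀.relIndex (𝐅ₕ M) = p ^ ♯W₁ := h.core.card
theorem card₂ (h : H9 M U W W₁ W₂ H₀ p) : H₀.relIndex W₂ = p := h.core.card₂
theorem p_eq (h : H9 M U W W₁ W₂ H₀ p) (hp : (♯W₂).Prime) : p = ♯W₂ :=
  (Nat.prime_dvd_prime_iff_eq h.prime hp).1 (h.card₂ ▸ Subgroup.relIndex_dvd_card _ _)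
theorem inf₂ (h : H9 M U W W₁ W₂ H₀ p) (hp : (♯W₂).Prime) : W₂ ⊓ H₀ = ⊥ :=
  (inf_eq_bot_or_le_of_prime hp H₀).resolve_right fun e =>
    h.prime.one_lt.ne' (h.card₂.symm.trans (Subgroup.relIndex_eq_one.2 e))
theorem C_normal (h : H9 M U W W₁ W₂ H₀ p) : cU M U H₀ ⊴ U ⊔ W₁ :=
  ⟨inf_le_left.trans le_sup_left, sup_le h.core.nC h.core.nC₁⟩
theorem C_lt (h : H9 M U W W₁ W₂ H₀ p) : cU M U H₀ < U := h.core.C_lt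
theorem cent_le_C (h : H9 M U W W₁ W₂ H₀ p) : U ⊓ 𝐂 (𝐅ₕ M) ≤ cU M U H₀ :=
  h.core.le_C inf_le_left (by rw [comm_eq_bot.2 inf_le_right]; exact bot_le)
theorem derU_le_C (h : H9 M U W W₁ W₂ H₀ p) : ⁅U, U⁆ ≤ cU M U H₀ := h.core.der_U
/-- `H₀ Y` is normal in `M` for every subgroup `Y` of `C` normalized by `U W₁` -/
theorem sup_normal (h : H9 M U W W₁ W₂ H₀ p) {Y : Subgroup G} (hY : Y ≤ cU M U H₀)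
    (n : U ⊔ W₁ ≤ 𝐍 Y) : H₀ ⊔ Y ⊴ M :=
  ⟨(h.core.sup₀_le_K (hY.trans inf_le_left)).trans (BG.der_le M),
    h.core.norm_sup₀ hY (le_sup_left.trans n) (le_sup_right.trans n)⟩
theorem HC_normal (h : H9 M U W W₁ W₂ H₀ p) : 𝐅ₕ M ⊔ cU M U H₀ ⊴ M :=
  ⟨h.core.HC_le.trans (BG.der_le M), h.core.nHC⟩
theorem relIndex_HC (h : H9 M U W W₁ W₂ H₀ p) :
    (𝐅ₕ M ⊔ cU M U H₀).relIndex ⁅M, M⁆ = (cU M U H₀).relIndex U := h.core.relIndex_sup inf_le_left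
theorem q_dvd (h : H9 M U W W₁ W₂ H₀ p) : ♯W₁ ∣ (cU M U H₀).relIndex U - 1 := h.core.q_dvd

/-- (9.7)(a) -/
theorem nonGal (h : H9 M U W W₁ W₂ H₀ p) (n : ¬ Gal M U H₀) :
    ∃ C₁ f χ, NonGal M U W₁ H₀ C₁ p f χ :=
  let ⟨C₁, f, χ, k⟩ := h.core.exists_coord n
  ⟨C₁, f, χ, k.add, k.ker, k.surj, k.mul, k.le, k.ker₁, k.actU, k.actW⟩

section
variable {f : G → W₁ → ZMod p} {χ : G → (ZMod p)ˣ}

theorem prod_chi (h : H9 M U W W₁ W₂ H₀ p) (k : NonGal M U W₁ H₀ C₁ p f χ) [Fintype W₁] :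
    ∀ u ∈ U, ∏ w : W₁, χ ((w : G)⁻¹ * u * w) = 1 := fun _ => k.coord.prod_chi h.core
theorem mem_C_iff (h : H9 M U W W₁ W₂ H₀ p) (k : NonGal M U W₁ H₀ C₁ p f χ) :
    ∀ u ∈ U, u ∈ cU M U H₀ ↔ ∀ w : W₁, χ ((w : G)⁻¹ * u * w) = 1 := fun _ => k.coord.mem_C h.core
theorem a_facts (h : H9 M U W W₁ W₂ H₀ p) (k : NonGal M U W₁ H₀ C₁ p f χ) :
    1 < C₁.relIndex U ∧ Odd (C₁.relIndex U) ∧ C₁.relIndex U ∣ p - 1 ∧ cU M U H₀ ≤ C₁ ∧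
      (∀ x ∈ U, x ^ C₁.relIndex U ∈ cU M U H₀) ∧
      (cU M U H₀).relIndex U ∣ C₁.relIndex U ^ (♯W₁ - 1) :=
  ⟨k.coord.one_lt_a h.core, h.core.odd_relIndex _ h.core.U_le, k.coord.a_dvd h.core,
    k.coord.C_le h.core, fun _ => k.coord.pow_a_mem h.core, k.coord.u_dvd h.core⟩
/-- the rank of `U / C` is at most `q - 1` -/
theorem rank_le (h : H9 M U W W₁ W₂ H₀ p) (k : NonGal M U W₁ H₀ C₁ p f χ) {r : ℕ} {E : Subgroup G}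
    (hE : E ≤ U) (a : Abelem r E) (_hr : r.Prime) : (cU M U H₀).relIndex E ∣ r ^ (♯W₁ - 1) :=
  k.coord.rank_le h.core hE a

theorem nonGal_irr_qa (h : H9 M U W W₁ W₂ H₀ p) (k : NonGal M U W₁ H₀ C₁ p f χ) :
    ∃ ζ ∈ sind ⁅M, M⁆ M (𝐅ₕ M) (H₀ ⊔ ⁅U, U⁆), ζ ∈ irr M ∧ ζ 1 = ♯W₁ * C₁.relIndex U := by
  have := Fact.mk h.prime
  have := Fintype.ofFinite W₁
  obtain ⟨S, a, b, c⟩ := k.coord.count h.core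
  obtain ⟨ζ, z⟩ := Finset.card_pos.1 (Nat.pos_of_mul_pos_right
    (c ▸ Nat.mul_pos (Nat.sub_pos_of_lt h.prime.one_lt) (BG.relIndex_pos _ _)))
  exact ⟨ζ, a z, b ζ z⟩
end

/-- (9.8)(c) -/
theorem nonGal_irr (h : H9 M U W W₁ W₂ H₀ p) (n : ¬ Gal M U H₀) :
    ∃ ζ ∈ irr M, IndHC M U W₁ H₀ ζ :=
  have := Fact.mk h.prime
  have := Fintype.ofFinite W₁
  let ⟨_, _, _, k⟩ := h.core.exists_coord n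
  let ⟨ζ, a, b, c, d⟩ := k.exists_irr h.core
  ⟨ζ, a, b, c, d⟩

theorem gal_facts (h : H9 M U W W₁ W₂ H₀ p) (g : Gal M U H₀) :
    Cyc (qt (cU M U H₀) U) ∧ ((cU M U H₀).relIndex U).Coprime (p - 1) ∧
      (cU M U H₀).relIndex U ∣ (p ^ ♯W₁ - 1) / (p - 1) ∧
      ∀ u ∈ U, u ∉ cU M U H₀ → ∀ x ∈ 𝐅ₕ M, ⁅u, x⁆ ∈ H₀ → x ∈ H₀ :=
  let ⟨_, _, _, _, _, c, _, k⟩ := h.core.exists_fld g
  let ⟨a, b, d⟩ := k.facts h.core c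
  ⟨a, b, d, fun _ hu n _ => k.reg h.core hu n⟩

/-- (9.9)(a) -/
theorem gal_dvd (h : H9 M U W W₁ W₂ H₀ p) (g : Gal M U H₀) (hθ : θ ∈ iirr ⁅M, M⁆ (𝐅ₕ M) H₀) :
    ∃ n : ℕ, θ 1 = (cU M U H₀).relIndex U * n := h.core.gal_dvd g hθ
theorem gal_ind (h : H9 M U W W₁ W₂ H₀ p) (g : Gal M U H₀)
    (hθ : θ ∈ iirr ⁅M, M⁆ (𝐅ₕ M) (H₀ ⊔ ⁅cU M U H₀, cU M U H₀⁆)) :
    θ 1 = (cU M U H₀).relIndex U ∧
      ∃ ξ ∈ irr (𝐅ₕ M ⊔ cU M U H₀), ξ 1 = 1 ∧ θ = ind (𝐅ₕ M ⊔ cU M U H₀) ⁅M, M⁆ ξ :=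
  h.core.gal_ind g hθ
/-- (9.9)(c) -/
theorem gal_red (h : H9 M U W W₁ W₂ H₀ p) (g : Gal M U H₀)
    (r : ∀ ζ ∈ sind ⁅M, M⁆ M (𝐅ₕ M) (H₀ ⊔ ⁅cU M U H₀, cU M U H₀⁆), ζ ∉ irr M) :
    cU M U H₀ = ⊥ ∧ ♯U = (p ^ ♯W₁ - 1) / (p - 1) :=
  let ⟨_, _, k⟩ := h.pti.exists_pfam
  h.core.gal_red k g r

/-- (9.8)(b), (9.9)(b) -/
theorem red_indHC (h : H9 M U W W₁ W₂ H₀ p) (hζ : ζ ∈ sind ⁅M, M⁆ M (𝐅ₕ M) H₀) (r : ζ ∉ irr M) :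
    IndHC M U W₁ H₀ ζ := by
  have := Fact.mk h.prime
  have := Fintype.ofFinite W₁
  obtain ⟨_, _, k⟩ := h.pti.exists_pfam
  by_cases g : Gal M U H₀
  · obtain ⟨a, b, c⟩ := h.core.gal_indHC k g hζ r
    exact ⟨a, b, c⟩
  · obtain ⟨_, _, _, l⟩ := h.core.exists_coord g
    obtain ⟨a, b, c⟩ := l.indHC h.core k hζ r
    exact ⟨a, b, c⟩
theorem exists_red (h : H9 M U W W₁ W₂ H₀ p) (k : PFam M ⁅M, M⁆ W W₁ W₂ μ δ) :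
    ∃ j, j ≠ 1 ∧ red μ j ∈ sind ⁅M, M⁆ M (𝐅ₕ M) H₀ := h.core.exists_red k

/-- (9.10) -/
theorem core_cases (h : H9 M U W W₁ W₂ H₀ p) :
    (∃ ζ ∈ irr M, ζ ∈ sind ⁅M, M⁆ M (𝐅ₕ M) (H₀ ⊔ ⁅cU M U H₀, cU M U H₀⁆) ∧
      ζ 1 = ♯W₁ * (cU M U H₀).relIndex U ∧
      ∃ ξ ∈ irr (𝐅ₕ M ⊔ cU M U H₀), ξ 1 = 1 ∧ ζ = ind (𝐅ₕ M ⊔ cU M U H₀) M ξ) ∨
    (Gal M U H₀ ∧ cU M U H₀ = ⊥ ∧ Cyc U ∧ ♯U = (p ^ ♯W₁ - 1) / (p - 1) ∧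
      (IsOfTypeII M → Frob (𝐅ₕ M) U ⁅M, M⁆)) := by
  by_cases g : Gal M U H₀
  · refine or_iff_not_imp_left.2 fun n => ?_
    obtain ⟨a, b⟩ := h.gal_red g fun ζ z i => by
      obtain ⟨θ, hθ, rfl⟩ := mem_sind'.1 z
      obtain ⟨c, ξ, d, e, f⟩ := h.gal_ind g hθ
      exact n ⟨_, i, z, by rw [h.core.ind_oneM, c], ξ, d, e,
        by rw [f, ind_ind h.core.HC_le _ (BG.der_le M)]⟩
    have c : Cyc U := (h.gal_facts g).1.of_qt h.core.nC (by rw [a, bot_inf_eq])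
    refine ⟨g, a, c, b, fun t => ?_⟩
    obtain ⟨-, d, e⟩ := h.of_two t
    exact e ▸ (tf_frob_iff d (h.mx.odd' (BG.der_le M))).2 c.zGrp
  · obtain ⟨ζ, a, b⟩ := h.nonGal_irr g
    exact Or.inl ⟨ζ, a, sind_sub h.core.H₀C'_le b.mem, b.one, b.ind⟩

/-- (9.11) -/
theorem coh (h : H9 M U W W₁ W₂ H₀ p) :
    Coh M (sind ⁅M, M⁆ M (𝐅ₕ M) (H₀ ⊔ ⁅cU M U H₀, cU M U H₀⁆)) (tau M) := by
  have := Fact.mk h.prime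
  have := Fintype.ofFinite W₁
  obtain ⟨η, μ, δ, t⟩ := h.exists_tp
  by_cases g : Gal M U H₀
  · exact h.core.gal_coh t.pdadeF g
  · obtain ⟨_, _, _, l⟩ := h.core.exists_coord g
    exact l.coh h.core t.pdadeF

end H9

end CF.BG.Vp
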