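import Cfsg.Agent.Vp.S10
/-
BG section 11: exceptional maximal subgroups.
-/
set_option autoImplicit false
set_option linter.unusedSectionVars false

namespace CF.BG.Vp
open Subgroup
open scoped commutatorElement Pointwise

variable {G : Type*} [Group G] [Finite G] [MSO G]
variable {A A₀ A₁ B C D E E₁ E₂ E₃ H K L M N P Q R S T U V W X Y Z : Subgroup G} {p q r : ℕ}
variable {π : Set ℕ} {x y g : G}

theorem Exc.w (h : Exc p M A₀ A) : p ∈ 𝛡 G := h.mx.w_of_elem h.two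

theorem Exc.maxElem (h : Exc p M A₀ A) : MaxElem p A ⊤ := h.mx.maxElem_of_sigma' h.sig h.two

theorem Exc.cent_le (h : Exc p M A₀ A) : 𝐂 A ≤ M :=
  (cent_anti h.one.le).trans ((cent_le_norm _).trans h.norm)

theorem Exc.pRank_eq (h : Exc p M A₀ A) : pRank p M = 2 :=
  h.mx.pRank_of_norm_le h.sig h.one.pi h.norm h.w

theorem Exc.norm_Ms (h : Exc p M A₀ A) : A ≤ 𝐍 (Mσ M) := h.two.le.trans (O_normal _ M).norm

theorem Exc.coprime_Ms (h : Exc p M A₀ A) : (♯A).Coprime (♯(Mσ M)) :=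
  (h.two.pi.of_single' h.sig).coprime' (O_pi _ M)

theorem _root_.CF.BG.Hall.maxInvV (h : Syl q Q ⊤) (n : A ≤ 𝐍 Q) : MaxInv A q Q :=
  ⟨h.pi, n, fun _ k _ l => (h.eq_of_le l le_top k).symm⟩

/-- BG 11.1 -/
theorem Exc.ti_syl (h : Exc p M A₀ A) (hg : g ∉ M) (a : A ≤ cj g M) {Q₁ Q₂ : Subgroup G}
    (q1 : Syl q Q₁ (Mσ M)) (n1 : A ≤ 𝐍 Q₁) (q2 : Syl q Q₂ (cj g (Mσ M))) (n2 : A ≤ 𝐍 Q₂) :
    Q₁ ⊓ Q₂ = ⊥ ∧ ∀ X, Elem p 1 X A → Q₁ ⊓ 𝐂 X = ⊥ ∨ Q₂ ⊓ 𝐂 X = ⊥ := by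
  by_cases e : Q₁ = ⊥
  · subst e
    exact ⟨bot_inf_eq _, fun X _ => Or.inl (bot_inf_eq _)⟩
  have sq : q ∈ 𝛔 M := q1.pi.mem_of_ne_bot e ((O_pi _ M).le q1.le)
  have s1 : Syl q Q₁ M := q1.syl_trans h.mx.hall_Ms sq
  have s2 : Syl q (cj g⁻¹ Q₂) M :=
    Hall.syl_trans (by simpa using q2.cj g⁻¹) h.mx.hall_Ms sq
  have t2 : Syl q Q₂ ⊤ := by simpa using (s2.syl_top_of_sigmaV sq).cj_top g
  have nc : NC A := h.maxElem.ncV h.two.ne_bot (fun _ => mPLen1 p) h.w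
  have hq : q ∉ piOf (♯A) := fun k => h.sig (h.two.pi q k.1 k.2 ▸ sq)
  have key : ∀ H, A ≤ H → Pr H → Q₁ ⊓ H ≠ ⊥ → Q₂ ⊓ H ≠ ⊥ → False := by
    intro H a t i1 i2
    obtain ⟨k, hk, rfl⟩ := nc.meet_trans hq (w_of_sigma sq) a t ((s1.syl_top_of_sigmaV sq).maxInvV n1)
      (t2.maxInvV n2) i1 i2
    exact hg (s2.mem_of_cj_le_sigmaV sq (by
      simpa using cj_le_of_mem (h.cent_le (O_le _ _ hk)) s1.le))
  refine ⟨by_contra fun i => key M h.two.le h.mx.ne_top (by rwa [inf_eq_left.mpr s1.le])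
    (ne_bot_mono i (le_inf inf_le_right (inf_le_left.trans s1.le))), fun X x => ?_⟩
  by_contra i
  push Not at i
  exact key (𝐂 X) (h.two.abel.cent le_rfl x.le) (cent_proper x.ne_bot (x.pw h.w)) i.1 i.2

/-- BG 11.2 -/
theorem Exc.ti_Ms (h : Exc p M A₀ A) (hg : g ∉ M) (a : A ≤ cj g M) :
    Mσ M ⊓ cj g M = ⊥ ∧ Mσ M ⊓ 𝐂 (cj g A₀) = ⊥ := by
  suffices e : Mσ M ⊓ cj g M = ⊥ from ⟨e, eq_bot_mono e (inf_le_inf_left _ (by
    rw [← cj_cent]; exact cj_mono g ((cent_le_norm _).trans h.norm)))⟩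
  by_contra e
  obtain ⟨q, hq, d⟩ := exists_prime_dvd_card e
  have l2 : Mσ M ⊓ cj g M ≤ cj g (Mσ M) := by
    rw [cj_Ms]
    exact (h.mx.cj g).le_Ms inf_le_right (by rw [sigma_cj]; exact (O_pi _ M).inf_left)
  have n2 : A ≤ 𝐍 (cj g (Mσ M)) := a.trans (cj_norm_iff.mpr (O_normal _ M).norm)
  have sA : Sol A := h.two.abel.sol
  obtain ⟨Q₀, s0, n0⟩ := exists_syl_inv (norm_inf h.norm_Ms (norm_of_le a))
    (coprime_mono h.coprime_Ms le_rfl inf_le_left) (Or.inl sA) q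
  obtain ⟨Q₁, s1, n1, l1⟩ := exists_syl_inv_le h.norm_Ms h.coprime_Ms (Or.inl sA)
    (s0.le.trans inf_le_left) s0.pi n0
  obtain ⟨Q₂, s2, n2', l2'⟩ := exists_syl_inv_le n2 (by rw [card_cj]; exact h.coprime_Ms)
    (Or.inl sA) (s0.le.trans l2) s0.pi n0
  exact s0.syl_ne_bot hq d (eq_bot_mono (h.ti_syl hg a s1 n1 s2 n2').1 (le_inf l1 l2'))

theorem Exc.exists_syl (h : Exc p M A₀ A) : ∃ P, Syl p P M ∧ A ≤ P :=
  exists_syl_le h.two.le h.two.pi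

theorem Exc.exists_norm (h : Exc p M A₀ A) (hP : Syl p P M) : ∃ g ∈ 𝐍 P, g ∉ M :=
  SetLike.not_le_iff_exists.mp fun n => h.sig (hP.mem_sigmaV h.mx.ne_top n h.w)

/-- BG 11.3 -/
theorem Exc.nil_Ms (h : Exc p M A₀ A) : Nil (Mσ M) := by
  obtain ⟨P, hP, l⟩ := h.exists_syl
  obtain ⟨g, n, hg⟩ := h.exists_norm hP
  have x : Elem p 1 (cj g A₀) M :=
    ((h.one.mono l).cj_of_norm n).mono hP.le
  exact x.nil_of_fpf (x.le.trans (O_normal _ M).norm) (h.mx.sol' (O_le _ M))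
    (h.ti_Ms hg (l.trans (cj_of_norm n ▸ cj_mono g hP.le))).2

/-- BG 11.4 -/
theorem Exc.eq_of_inf (h : Exc p M A₀ A) (m : Mx H) (a : A ≤ H) (i : Mσ H ⊓ Mσ M ≠ ⊥) :
    H = M := by
  obtain ⟨g, rfl⟩ : Conj M H := by
    by_contra nc
    obtain ⟨q, hq, d⟩ := exists_prime_dvd_card i
    exact h.mx.sigma_not_sigma_of_nil m nc h.nil_Ms ((O_pi _ M).inf_right q hq d)
      ((O_pi _ H).inf_left q hq d)
  refine cj_of_mem (by_contra fun hg => i (eq_bot_mono (h.ti_Ms hg a).1 ?_))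
  exact le_inf inf_le_right (inf_le_left.trans (O_le _ _))

/-- BG 11.5 -/
theorem Exc.abel_syl (h : Exc p M A₀ A) (hP : Syl p P M) : Abel P := by
  obtain ⟨P, hP', l⟩ := h.exists_syl
  suffices a : Abel P by
    obtain ⟨g, -, rfl⟩ := hP'.syl_conj hP
    exact abel_cj.mpr a
  clear hP
  by_contra na
  obtain ⟨g, n, hg⟩ := h.exists_norm hP'
  obtain ⟨q, hq, d⟩ := exists_prime_dvd_card h.mx.Ms_ne_bot
  have c : (♯P).Coprime (♯(Mσ M)) := (hP'.pi.of_single' h.sig).coprime' (O_pi _ M)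
  obtain ⟨Q, s1, n1⟩ := exists_syl_inv (hP'.le.trans (O_normal _ M).norm) c (Or.inl hP'.pi.sol) q
  have q1 := s1.syl_ne_bot hq d
  have n2 : P ≤ 𝐍 (cj g Q) := cj_of_norm n ▸ cj_norm_iff.mpr n1
  have k1 : PiGrp {p}ᶜ Q := ((O_pi _ M).le s1.le).to_compl_single h.sig
  obtain ⟨-, hX⟩ := h.ti_syl hg (l.trans (cj_of_norm n ▸ cj_mono g hP'.le)) s1 (l.trans n1)
    (s1.cj g) (l.trans n2)
  obtain ⟨z, -, tr⟩ := h.maxElem.structV (h.two.of_le l) hP'.pi na h.w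
  have nZ : cj g (𝛀 p (𝐙 P)) = 𝛀 p (𝐙 P) := cj_of_norm (norm_Om p _ (norm_center P n))
  -- if some `X ≠ Z₀` is fixed point free on `R`, then `Z₀` centralizes `R`
  have key : ∀ R X, PiGrp {p}ᶜ R → P ≤ 𝐍 R → Elem p 1 X A → X ≠ 𝛀 p (𝐙 P) → R ⊓ 𝐂 X = ⊥ →
      R ≤ 𝐂 (𝛀 p (𝐙 P)) := by
    intro R X k nR x ne e
    refine h.two.le_of_cent (l.trans nR) k fun Y y => ?_
    by_cases e' : Y = 𝛀 p (𝐙 P)
    · exact e' ▸ inf_le_right
    obtain ⟨u, hu, rfl⟩ := tr X Y x ne y e'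
    rw [← cj_of_norm (nR hu.1), ← cj_cent, ← cj_inf, e, cj_bot]
    exact bot_le
  have both : Q ≤ 𝐂 (𝛀 p (𝐙 P)) := by
    obtain ⟨X, x, ne⟩ := h.two.exists_ne (𝛀 p (𝐙 P))
    rcases hX X x with e | e
    · exact key Q X k1 n1 x ne e
    · have := key _ X (k1.cj g) n2 x ne e
      rwa [← nZ, cj_cent_iff] at this
  rcases hX _ z with e | e
  · exact q1 (by rwa [inf_eq_left.mpr both] at e)
  · rw [← nZ, ← cj_cent, ← cj_inf, cj_eq_bot, inf_eq_left.mpr both] at e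
    exact q1 e

theorem mem_of_sq_mem (h : g * g ∈ M) (o : Odd (orderOf g)) : g ∈ M := by
  obtain ⟨k, hk⟩ := o
  have : g = (g * g) ^ (k + 1) := by
    rw [← sq, ← pow_mul, show 2 * (k + 1) = (2 * k + 1) + 1 by ring, ← hk, pow_succ,
      pow_orderOf_eq_one, one_mul]
  exact this ▸ M.pow_mem h _

theorem Exc.Om_eq (h : Exc p M A₀ A) (hP : Syl p P M) (l : A ≤ P) : 𝛀 p P = A :=
  ((h.abel_syl hP).eq_Om (h.two.of_le l) two_pos (by rw [hP.syl_pRank, h.pRank_eq])).symm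

/-- BG 11.6 -/
theorem Exc.struct (h : Exc p M A₀ A) :
    (∀ P, Syl p P M → A ≤ P → 𝛀 p P = A) ∧ Mσ M ⊓ 𝐂 A = ⊥ ∧
      ∃ X Y, Elem p 1 X A ∧ Elem p 1 Y A ∧ X ≠ Y ∧ Mσ M ⊓ 𝐂 X = ⊥ ∧ Mσ M ⊓ 𝐂 Y = ⊥ := by
  obtain ⟨P, hP, l⟩ := h.exists_syl
  obtain ⟨g, n, hg⟩ := h.exists_norm hP
  have n : g ∈ 𝐍 A := h.Om_eq hP l ▸ norm_Om p P n
  have n' : g * g ∈ 𝐍 A := mul_mem n n
  have e1 := (h.ti_Ms hg (cj_of_norm n ▸ cj_mono g h.two.le)).2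
  have e2 := (h.ti_Ms (fun k => hg (mem_of_sq_mem k ((h.two.pi.norm_properV h.two.ne_bot h.w).odd.of_dvd_nat (Subgroup.orderOf_dvd_natCard _ n)))) (cj_of_norm n' ▸ cj_mono _ h.two.le)).2
  refine ⟨fun P => h.Om_eq, eq_bot_mono e1 (inf_le_inf_left _ (cent_anti (h.one.cj_of_norm n).le)),
    _, _, h.one.cj_of_norm n, h.one.cj_of_norm n', fun e => hg (h.norm ?_), e1, e2⟩
  rw [← cj_cj, cj_inj] at e
  exact cj_eq_self.mp e.symm

theorem SigE.rank_le' (h : SigE M E) : rank E ≤ 2 := rank_le_iff.mpr fun q hq => by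
  by_contra k
  have a : q ∈ 𝛂 E := mem_alpha.mpr (by omega)
  exact h.pi q hq (dvd_of_alpha a) (h.mx.alpha_sub_sigma (alpha_mono h.le a))

/-- BG 11.7 -/
theorem Exc.sup_normal (h : Exc p M A₀ A) : Mσ M ⊔ A ⊴ M := by
  obtain ⟨P, hP, l⟩ := h.exists_syl
  obtain ⟨E, e, lE⟩ := h.mx.exists_sigE hP.le (hP.pi.of_single' h.sig)
  have rF : rank (𝐅 E) ≤ 2 := (rank_mono (F_le E)).trans e.rank_le'
  have hK := rank2_hall_ge e.sol (h.mx.odd' e.le) rF (p + 1)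
  have hK' := rank2_hall_ge e.sol (h.mx.odd' e.le) rF p
  set K := 𝐎 {q | p + 1 ≤ q} E
  have nK : E ≤ 𝐍 K := (O_normal _ E).norm
  have sP : Syl p P E := hP.of_le lE e.le
  have kK : PiGrp {p}ᶜ K := hK.pi.to_compl_single (by simp)
  have nKP : K ⊔ P ⊴ E := by
    have : Hall {q | p ≤ q} (K ⊔ P) E := (hK.union_sup sP (Or.inr (lE.trans nK))).congr
      fun q _ _ => by simp only [Set.mem_union, Set.mem_ofPred_eq, Set.mem_singleton_iff]; omega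
    rw [hK'.eq_of_normal (O_normal _ E).norm this]
    exact O_normal _ E
  have cA : (♯A).Coprime (♯K) := h.two.pi.coprime kK
  by_cases c : K ≤ 𝐂 A
  · have e1 : 𝛀 p (𝐎 {p} (K ⊔ P)) = A := by
      rw [← h.Om_eq hP l]
      refine Om_eq_of_le (sP.of_le le_sup_right nKP.le).O_le (le_O ⟨(Om_le p P).trans le_sup_right,
        sup_le (norm_of_cent (by rwa [h.Om_eq hP l])) (Om_normal p P).norm⟩ (hP.pi.le (Om_le p P)))
    have nA : E ≤ 𝐍 A := e1 ▸ ((nKP.O _).Om p).norm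
    refine ⟨sup_le (O_le _ M) h.two.le, ?_⟩
    conv_lhs => rw [← e.sdprod.sup]
    exact sup_le (norm_of_le le_sup_left) (norm_sup e.norm nA)
  exfalso
  have nA : A ≤ 𝐍 K := l.trans (lE.trans nK)
  obtain ⟨q, hq, Q, sQ, nQ, cQ⟩ : ∃ q : ℕ, q.Prime ∧ ∃ Q, Syl q Q K ∧ A ≤ 𝐍 Q ∧ ¬ Q ≤ 𝐂 A := by
    by_contra k
    push Not at k
    exact c (le_of_forall_syl fun q hq _ =>
      let ⟨Q, a, b⟩ := exists_syl_inv nA cA (Or.inl h.two.abel.sol) q; ⟨Q, a, k q hq Q a b⟩)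
  have q1 : Q ≠ ⊥ := fun e => cQ (e ▸ bot_le)
  have tq : p + 1 ≤ q := sQ.pi.mem_of_ne_bot q1 (hK.pi.le sQ.le)
  have sq : q ∉ 𝛔 M := sQ.pi.mem_of_ne_bot q1 (e.pi.le (sQ.le.trans hK.le))
  have sQM : Syl q Q M := (sQ.syl_trans hK tq).syl_trans e.hall sq
  have cAQ : (♯A).Coprime (♯Q) := coprime_mono cA le_rfl sQ.le
  have wq : q ∈ 𝛡 G := w_of_norm' h.two h.w sQ.pi q1 nQ
  by_cases z : 𝐙 Q ⊓ 𝐂 A = ⊥
  · obtain ⟨-, -, X, Y, x, y, ne, cx, cy⟩ := h.struct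
    have nZ : A ≤ 𝐍 (𝐙 Q) := nQ.trans (norm_center Q)
    have kZ : PiGrp {q} (𝐙 Q) := sQ.pi.inf_left
    have key : ∀ X, Elem p 1 X A → Mσ M ⊓ 𝐂 X = ⊥ → ⁅𝐙 Q, X⁆ ⊴ M := fun X x cx =>
      (h.mx.comm_sigma'_cyc (inf_le_left.trans sQM.le) (kZ.of_single' sq) h.sig (x.mono h.two.le)
        (x.le.trans nZ) cx (kZ.of_single_ne (by omega)) (center_abel Q)).2.2
    have e1 : ⁅𝐙 Q, A⁆ = 𝐙 Q := by
      have := comm_sup_inf_cent nZ (coprime_mono cAQ le_rfl inf_le_left) (Or.inl h.two.abel.sol)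
      rwa [z, sup_bot_eq] at this
    have n1 := (key X x cx).sup (key Y y cy)
    have e2 : ⁅𝐙 Q, X⁆ ⊔ ⁅𝐙 Q, Y⁆ = 𝐙 Q := by
      refine le_antisymm (sup_le (comm_le_left (x.le.trans nZ)) (comm_le_left (y.le.trans nZ))) ?_
      conv_lhs => rw [← e1, ← (h.two.dprod_two x y ne).sup]
      exact comm_sup_le' le_sup_left le_sup_right (x.le.trans (h.two.le.trans n1.norm))
        (y.le.trans (h.two.le.trans n1.norm))
    rw [e2] at n1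
    exact sq (sQM.mem_sigmaV h.mx.ne_top ((norm_center Q).trans
      (h.mx.norm_le n1 (sQ.pi.center_ne_bot q1))) wq)
  · have z' : Q ⊓ 𝐂 A ≠ ⊥ := ne_bot_mono z (inf_le_inf_right _ inf_le_left)
    have nc : ¬ Cyc Q := fun cy => cQ (cent_symm (cy.abel.cent_of_Om sQ.pi nQ cAQ
      (cent_symm ((cy.Om_le sQ.pi inf_le_left z').trans inf_le_right))))
    obtain ⟨B, b⟩ := sQ.pi.exists_elem_two (sQ.pi.oddV wq) nc
    obtain ⟨R, r, lR⟩ := exists_maxInv sQ.pi nQ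
    obtain ⟨S, -, lS, -, -, k⟩ := r.signalizerV (by omega) h.two.top h.maxElem
      ((sQ.pi.inf_left.dvd_card z').trans (card_dvd inf_le_right)) h.w wq
    exact cQ (cent_symm (cent_mono (k fun _ => ⟨B, b.mono lR,
      (h.mx.maxElem_of_sigma' sq (b.mono sQM.le)).of_le (b.le.trans lR) le_top⟩) lS lR))

end CF.BG.Vp
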