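import Cfsg.Agent.Vp.S11
/-
BG section 12 (12.1 - 12.4): the complement E.
-/
set_option autoImplicit false
set_option linter.unusedSectionVars false

namespace CF.BG.Vp
open Subgroup
open scoped commutatorElement Pointwise

variable {G : Type*} [Group G] [Finite G] [MSO G]
variable {A A₀ A₁ B C D E E₁ E₂ E₃ H K L M N P Q R S T U V W X Y Z : Subgroup G} {p q r : ℕ}
variable {π : Set ℕ} {x y g : G}

theorem Mx.pRank_le_two (m : Mx M) (hp : p ∉ 𝛔 M) : pRank p M ≤ 2 :=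
  not_mem_alpha.mp fun k => hp (m.alpha_sub_sigma k)

theorem Mx.partition_pi (m : Mx M) (hp : p.Prime) (d : p ∣ ♯M) :
    p ∈ 𝛔 M ∨ p ∈ 𝛕₁ M ∨ p ∈ 𝛕₂ M ∨ p ∈ 𝛕₃ M := by
  by_cases s : p ∈ 𝛔 M
  · exact Or.inl s
  have a := m.pRank_le_two s
  have b : 0 < pRank p M := pRank_pos.mpr ⟨hp, d⟩
  by_cases e : pRank p M = 2
  · exact Or.inr (Or.inr (Or.inl (mem_tau2.mpr ⟨s, e⟩)))
  rcases mem_tau13.mpr ⟨s, (by omega : pRank p M = 1)⟩ with k | k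
  · exact Or.inr (Or.inl k)
  · exact Or.inr (Or.inr (Or.inr k))

theorem SigE.partition_pi (h : SigE M E) (hp : p.Prime) (d : p ∣ ♯E) :
    p ∈ 𝛕₁ M ∨ p ∈ 𝛕₂ M ∨ p ∈ 𝛕₃ M :=
  (h.mx.partition_pi hp (d.trans (card_dvd h.le))).resolve_left (h.pi p hp d)

theorem Mx.partition_pi' (m : Mx M) (hX : X ≤ M) (k : PiGrp (𝛔 M)ᶜ X) (hp : p.Prime)
    (d : p ∣ ♯X) : p ∈ 𝛕₁ M ∨ p ∈ 𝛕₂ M ∨ p ∈ 𝛕₃ M :=
  (m.partition_pi hp (d.trans (card_dvd hX))).resolve_left (k p hp d)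

theorem SigE.pRank_eq (h : SigE M E) (hp : p ∉ 𝛔 M) : pRank p E = pRank p M := h.hall.pRank_eq hp

theorem SigE.rank_le (h : SigE M E) : rank E ≤ 2 := h.rank_le'

theorem SigE.exists_elem_two (h : SigE M E) (hp : p ∈ 𝛕₂ M) : ∃ A, Elem p 2 A E :=
  exists_elem (by rw [h.pRank_eq (tau2_sigma' hp), tau2_pRank hp])

theorem Mx.tau2_of_elem (m : Mx M) (hp : p ∉ 𝛔 M) (a : Elem p 2 A M) : p ∈ 𝛕₂ M :=
  mem_tau2.mpr ⟨hp, le_antisymm (m.pRank_le_two hp) a.le_pRank⟩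

theorem SigE.tau2_of_elem (h : SigE M E) (a : Elem p 2 A E) : p ∈ 𝛕₂ M :=
  h.mx.tau2_of_elem (a.mem_of_pi h.pi) (a.mono h.le)

theorem SigE.inf_der (h : SigE M E) : E ⊓ ⁅M, M⁆ = ⁅E, E⁆ :=
  (inf_der_of_coprime (O_normal _ M) h.sdprod.sup le_rfl h.coprime).trans
    (inf_eq_right.mpr (der_le E))

theorem SigE.der_sdprod (h : SigE M E) : SDProd (Mσ M) ⁅E, E⁆ ⁅M, M⁆ := by
  have := h.sdprod.inf_of_left_le h.mx.Ms_le_der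
  rwa [h.inf_der, inf_eq_right.mpr (der_le M)] at this

/-- for `p ∉ σ(M)`, `p` divides `|M'|` iff it divides `|E'|` -/
theorem SigE.dvd_der_iff (h : SigE M E) (hp : p.Prime) (hs : p ∉ 𝛔 M) :
    p ∣ ♯⁅E, E⁆ ↔ p ∣ ♯⁅M, M⁆ := by
  rw [← h.der_sdprod.card, hp.dvd_mul]
  exact ⟨Or.inr, fun k => k.resolve_left ((O_pi _ M).not_dvd hp hs)⟩

/-- BG 12.1 (a) -/
theorem SigE.nil_der (h : SigE M E) : Nil ⁅E, E⁆ :=
  (h.mx.nil_qt_Ma.mono (qt_mono _ (der_mono h.le))).of_qt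
    ((der_le E).trans (h.le.trans (O_normal _ M).norm))
    (eq_bot_mono h.sdprod.inf (inf_le_inf h.mx.Ma_le_Ms (der_le E)))

theorem tau1_inf_der (k : PiGrp (𝛕₁ M) X) : X ⊓ ⁅M, M⁆ = ⊥ :=
  inf_eq_bot_of_coprime (coprime_of_primes fun p hp d => (mem_tau1.mp (k p hp d)).2.2)

theorem rank_le_of_tau13 (hX : X ≤ M) (k : PiGrp (𝛕₁ M ∪ 𝛕₃ M) X) : rank X ≤ 1 :=
  rank_le_iff.mpr fun p hp => by
    by_cases d : p ∣ ♯X
    · exact (pRank_mono p hX).trans (mem_tau13.mp (k p hp d)).2.le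
    · rw [pRank_eq_zero.mpr ((piNat_compl_single hp).mpr d)]; exact zero_le_one

/-- BG 12.1 (d) -/
theorem Mx.cyc_of_tau1 (m : Mx M) (hX : X ≤ M) (k : PiGrp (𝛕₁ M) X) : Cyc X :=
  (der_eq_bot.mp (eq_bot_mono (tau1_inf_der k) (le_inf (der_le X) (der_mono hX)))).cyc_iff.mpr
    (rank_le_of_tau13 hX (k.mono Set.subset_union_left))

theorem cyc_of_tau13 (hX : X ≤ M) (k : PiGrp {p} X) (hp : p ∈ 𝛕₁ M ∪ 𝛕₃ M)
    (m : Pr M := by first | assumption | exact Mx.ne_top ‹_› | exact (SigE.mx ‹_›).1 | exact (KapC.mx ‹_›).1 | exact (SigC.toSigE ‹_›).mx.1 | exact (TyP.mx ‹_›).1) : Cyc X :=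
  k.mcycV ((pRank_mono p hX).trans (mem_tau13.mp hp).2.le) (m.mono hX)

/-- a `τ₃(M)`-subgroup of `M` lies in `M'` -/
theorem tau3_le_der (hX : X ≤ M) (k : PiGrp (𝛕₃ M) X)
    (m : Pr M := by first | assumption | exact Mx.ne_top ‹_› | exact (SigE.mx ‹_›).1 | exact (KapC.mx ‹_›).1 | exact (SigC.toSigE ‹_›).mx.1 | exact (TyP.mx ‹_›).1) : X ≤ ⁅M, M⁆ :=
  le_of_forall_syl' fun p hp d P hP => by
    have t := k p hp d
    obtain ⟨S, s, l⟩ := exists_syl_le (hP.le.trans hX) hP.pi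
    refine l.trans ((s.cyc_inf_der (cyc_of_tau13 s.le s.pi (Or.inr t))).resolve_left ?_)
    exact (s.inf_normal (der_normal M)).syl_ne_bot hp (mem_tau3.mp t).2.2

/-- BG 12.1 (b), (d) -/
theorem SigE.tau3_facts (h : SigE M E) (k : Hall (𝛕₃ M) E₃ E) :
    Cyc E₃ ∧ E₃ ≤ ⁅E, E⁆ ∧ E₃ ⊴ E := by
  have l : E₃ ≤ ⁅E, E⁆ := h.inf_der ▸ le_inf k.le (tau3_le_der (k.le.trans h.le) k.pi)
  exact ⟨(h.nil_der.mono l).cyc_of_rank (h.mx.odd' (k.le.trans h.le))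
    (rank_le_of_tau13 (k.le.trans h.le) (k.pi.mono Set.subset_union_right)), l,
    (der_normal E).char l (h.nil_der.hall_norm (k.of_le l (der_le E)))⟩

theorem hall_sup_of_union {ρ : Set ℕ} (k : PiGrp (π ∪ ρ) H) (d : ∀ p ∈ ρ, p ∉ π) (a : Hall π A H)
    (b : Hall ρ B H) : A ⊔ B = H :=
  a.sup_eq (b.congr fun p hp e => ⟨d p, fun n => (k p hp e).resolve_left n⟩)

theorem SigE.exists_sigC1 (h : SigE M E) (k : Hall (𝛕₁ M) E₁ E) :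
    ∃ E₂ E₃, SigC M E E₁ E₂ E₃ := by
  obtain ⟨F, f, l⟩ := h.sol.exists_hall_le k.le (k.pi.mono (Set.subset_union_left (t := 𝛕₂ M)))
  obtain ⟨E₂, e2⟩ := (h.sol.mono f.le).exists_hall (𝛕₂ M)
  obtain ⟨E₃, e3⟩ := h.sol.exists_hall (𝛕₃ M)
  refine ⟨E₂, E₃, h, k, e2.trans f Set.subset_union_right, e3, ?_⟩
  rwa [sup_comm, hall_sup_of_union f.pi (fun _ a b => tau1_not_tau2 b a) (k.of_le l f.le) e2]

theorem SigE.exists_sigC (h : SigE M E) : ∃ E₁ E₂ E₃, SigC M E E₁ E₂ E₃ :=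
  let ⟨E₁, k⟩ := h.sol.exists_hall (𝛕₁ M); ⟨E₁, h.exists_sigC1 k⟩

theorem SigE.exists_sigC_le1 (h : SigE M E) (hX : X ≤ E) (k : PiGrp (𝛕₁ M) X) :
    ∃ E₁ E₂ E₃, SigC M E E₁ E₂ E₃ ∧ X ≤ E₁ :=
  let ⟨E₁, a, l⟩ := h.sol.exists_hall_le hX k
  let ⟨E₂, E₃, b⟩ := h.exists_sigC1 a
  ⟨E₁, E₂, E₃, b, l⟩

theorem SigC.cyc1 (h : SigC M E E₁ E₂ E₃) : Cyc E₁ := h.mx.cyc_of_tau1 (h.h1.le.trans h.le) h.h1.pi
theorem SigC.cyc3 (h : SigC M E E₁ E₂ E₃) : Cyc E₃ := (h.tau3_facts h.h3).1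
theorem SigC.normal3 (h : SigC M E E₁ E₂ E₃) : E₃ ⊴ E := (h.tau3_facts h.h3).2.2
theorem SigC.le_der3 (h : SigC M E E₁ E₂ E₃) : E₃ ≤ ⁅E, E⁆ := (h.tau3_facts h.h3).2.1

theorem pi'_tau1_der (hX : X ≤ ⁅M, M⁆) : PiGrp (𝛕₁ M)ᶜ X := fun _ _ d t =>
  (mem_tau1.mp t).2.2 (d.trans (card_dvd hX))

/-- BG 12.1 (e) -/
theorem SigC.sdprod21 (h : SigC M E E₁ E₂ E₃) : SDProd E₂ E₁ (E₂ ⊔ E₁) := by
  refine SDProd.mk' (le_sup_right.trans (norm_of_der_le le_sup_left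
    ((h.h2.of_le le_sup_left h.h12.le).le_of_normal (der_normal _) fun p hp d => ?_)))
    (h.h2.pi.inf_eq_bot (h.h1.pi.mono fun _ => tau1_not_tau2))
  exact ((h.h12.pi.le (BG.der_le _)) p hp d).resolve_left
    (pi'_tau1_der (der_mono (h.h12.le.trans h.le)) p hp d)

theorem SigC.sdprod3 (h : SigC M E E₁ E₂ E₃) : SDProd E₃ (E₂ ⊔ E₁) E :=
  h.h3.sdprod h.normal3.norm (h.h12.congr fun p hp d =>
    ⟨fun k => k.elim tau1_not_tau3 fun a b => tau3_not_tau2 b a, fun k => by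
      rcases h.partition_pi hp d with a | a | a
      exacts [Or.inl a, Or.inr a, absurd a k]⟩)

theorem SigC.sdprod32 (h : SigC M E E₁ E₂ E₃) : SDProd E₃ E₂ (E₃ ⊔ E₂) :=
  SDProd.mk' (h.h2.le.trans h.normal3.norm)
    (h.h3.pi.inf_eq_bot (h.h2.pi.mono fun _ a b => tau3_not_tau2 b a))

theorem SigC.hall32 (h : SigC M E E₁ E₂ E₃) : Hall (𝛕₁ M)ᶜ (E₃ ⊔ E₂) E :=
  (h.h3.union_sup h.h2 (Or.inr h.sdprod32.norm)).congr fun p hp d =>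
    ⟨fun k => k.elim (fun a b => tau1_not_tau3 b a) fun a b => tau1_not_tau2 b a, fun k => by
      rcases h.partition_pi hp d with a | a | a
      exacts [absurd a k, Or.inr a, Or.inl a]⟩

theorem SigC.der_le (h : SigC M E E₁ E₂ E₃) : ⁅E, E⁆ ≤ E₃ ⊔ E₂ :=
  h.hall32.le_of_normal (der_normal E) (pi'_tau1_der (der_mono h.le))

theorem SigC.normal32 (h : SigC M E E₁ E₂ E₃) : E₃ ⊔ E₂ ⊴ E :=
  normalIn_of_der_le h.hall32.le h.der_le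

theorem SigC.sdprod1 (h : SigC M E E₁ E₂ E₃) : SDProd (E₃ ⊔ E₂) E₁ E :=
  h.hall32.sdprod h.normal32.norm h.h1.compl_compl

theorem SigE.ne_bot (h : SigE M E) : E ≠ ⊥ := by
  rintro rfl
  have := h.sdprod.sup
  rw [sup_bot_eq] at this
  exact h.mx.ne_bot (h.mx.sol.eq_bot_of_le_der (this.ge.trans h.mx.Ms_le_der))

/-- BG 12.1 (c) -/
theorem SigC.ne_bot1 (h : SigC M E E₁ E₂ E₃) (e : E₂ = ⊥) : E₁ ≠ ⊥ := by
  rintro rfl
  have := h.sdprod3.sup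
  rw [e, sup_bot_eq, sup_bot_eq] at this
  exact h.toSigE.ne_bot (h.sol.eq_bot_of_le_der (this.ge.trans h.le_der3))

/-- BG 12.1 (f) -/
theorem SigC.cent3 (h : SigC M E E₁ E₂ E₃) : E₃ ⊓ 𝐂 E = ⊥ := by
  have := (h.sdprod3.comm_eq_of_le_der (h.sdprod3.coprime h.h3) h.cyc3.sol h.le_der3).2
  rw [der_eq_bot.mpr h.cyc3.abel] at this
  exact le_bot_iff.mp ((inf_le_inf_left _ (cent_anti h.h12.le)).trans this)

/-- BG 12.1 (g) -/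
theorem Mx.tau2_not_idl (m : Mx M) (hp : p ∈ 𝛕₂ M) : ¬ Idl G p :=
  m.not_idl_of_sigma' (tau2_sigma' hp) (tau2_pRank hp)

/-- BG 12.2 (a) -/
theorem Mx.sigma_or_tau2 (m : Mx M) (k : PiGrp {p} X) (n : 𝐍 X ≤ M) (w : p ∈ 𝛡 G) : p ∈ 𝛔 M ∨ p ∈ 𝛕₂ M :=
  or_iff_not_imp_left.mpr fun s => mem_tau2.mpr ⟨s, m.pRank_of_norm_le s k n w⟩

/-- BG 12.2 (b) -/
theorem Mx.not_conj_of_norm (m : Mx M) (h : Mx H) (k : PiGrp {p} X) (hX : X ≤ M) (n : 𝐍 X ≤ H)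
    (hp : p ∈ 𝛔 M ∧ H ≠ M ∨ p ∈ 𝛕₁ M ∪ 𝛕₃ M) (w : p ∈ 𝛡 G) : ¬ Conj M H := by
  rintro ⟨g, rfl⟩
  rcases hp with ⟨s, ne⟩ | t
  · have x1 : X ≠ ⊥ := by
      rintro rfl
      exact h.ne_top' (top_le_iff.mp (by simpa using n))
    obtain ⟨c, hc, e⟩ := m.sigma_trans_cj s k x1 ((le_norm_self X).trans n)
      (show X ≤ BG.cj 1 M by rwa [cj_one])
    rw [cj_one, cj_of_mem (n (cent_le_norm X hc))] at e
    exact ne e.symm
  · rcases h.sigma_or_tau2 k n w with s | s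
    · exact (mem_tau13.mp t).1 (by rwa [sigma_cj] at s)
    · exact tau13_not_tau2 t (by rwa [tau2_cj] at s)

theorem comm_le_of_sup_normal (hK : K ≤ H) (hN : N ⊴ H) (n : H ≤ 𝐍 (N ⊔ A)) (hA : A ≤ H)
    (a : A ≤ 𝐍 K) (k : PiGrp π A) (k' : PiGrp πᶜ K) : ⁅K, A⁆ ≤ N := by
  rw [← qt_cent_iff (hK.trans hN.norm) (hA.trans hN.norm)]
  refine cent_symm ((k.qt N).cent_of_norm (k'.qt N) (qt_norm N a) ?_)
  rw [← qt_sup_left (hA.trans hN.norm)]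
  exact qt_norm N (hK.trans n)

/-- BG 12.3 -/
theorem Mx.elem_two_cent (m : Mx M) (h : Mx H) (ne : H ≠ M) (a : Elem p 2 A M) (a0 : Elem p 1 A₀ A)
    (n : 𝐍 A₀ ≤ H) :
    (p ∉ 𝛔 M → A ≤ 𝐂 (Mσ M ⊓ H)) ∧ (p ∉ 𝛂 M → A ≤ 𝐂 (Mα M ⊓ H)) := by
  have aH : A ≤ H := (a.abel.le_norm a0.le).trans n
  have ex : p ∉ 𝛔 H → Exc p H A₀ A := fun s => ⟨h, s, a.of_le aH, a0, n⟩
  have ns : H ≤ 𝐍 (Mσ H ⊔ A) := by
    by_cases s : p ∈ 𝛔 H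
    · rw [sup_eq_left.mpr (h.le_Ms' aH a.pi s)]; exact (O_normal _ H).norm
    · exact (ex s).sup_normal.norm
  have nO : ∀ ρ, A ≤ 𝐍 (𝐎 ρ M ⊓ H) := fun ρ =>
    norm_inf (a.le.trans (O_normal _ M).norm) (norm_of_le aH)
  have key : ∀ ρ, p ∉ ρ → ⁅𝐎 ρ M ⊓ H, A⁆ ≤ 𝐎 ρ M ⊓ Mσ H := fun ρ hp =>
    le_inf ((comm_le_left (nO ρ)).trans inf_le_left) (comm_le_of_sup_normal inf_le_right
      (O_normal _ H) ns aH (nO ρ) a.pi ((O_pi ρ M).inf_left.to_compl_single hp))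
  have k1 : p ∉ 𝛔 M → A ≤ 𝐂 (Mσ M ⊓ H) := fun s => by
    rw [← comm_eq_bot']
    by_cases s' : p ∈ 𝛔 H
    swap
    · exact eq_bot_mono (by_contra fun i => ne ((ex s').eq_of_inf m a.le i).symm) (key _ s)
    have nc : ¬ Conj H M := by
      rintro ⟨g, rfl⟩
      exact s (by rwa [sigma_cj])
    have kK : PiGrp {p}ᶜ (Mσ M ⊓ H) := (O_pi _ M).inf_left.to_compl_single s
    have l1 : ⁅Mσ M ⊓ H, A⁆ ≤ ⁅H, H⁆ := commutator_mono inf_le_right aH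
    have l2 : A ≤ ⁅H, H⁆ := (h.le_Ms' aH a.pi s').trans h.Ms_le_der
    have nH : ⁅H, H⁆ ≤ 𝐍 (Mα H) := (der_le H).trans (O_normal _ H).norm
    have l3 : ⁅⁅Mσ M ⊓ H, A⁆, A⁆ ≤ Mα H := by
      rw [← qt_cent_iff (l1.trans nH) (l2.trans nH)]
      exact cent_symm (h.nil_qt_Ma.cent_of_pi (qt_mono _ l2) (qt_mono _ l1) (a.pi.qt _)
        ((kK.le (comm_le_left (nO _))).qt _))
    rw [comm_comm_eq (nO _) (a.pi.coprime kK) (Or.inl a.abel.sol)] at l3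
    refine eq_bot_mono ((O_pi (𝛔 M) M).inf_eq_bot ((O_pi (𝛂 H) H).mono
      fun q => h.alpha_not_sigma m nc)) (le_inf ((key _ s).trans inf_le_left) l3)
  refine ⟨k1, fun al => ?_⟩
  by_cases s : p ∈ 𝛔 M
  · have nc := m.not_conj_of_norm h a0.pi (a0.le.trans a.le) n (Or.inl ⟨s, ne⟩) (w_of_sigma s)
    rw [← comm_eq_bot']
    exact eq_bot_mono ((O_pi (𝛔 H) H).inf_eq_bot ((O_pi (𝛂 M) M).mono
      fun q => m.alpha_not_sigma h nc)) ((key _ al).trans (inf_comm _ _).le)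
  · exact (k1 s).trans (cent_anti (inf_le_inf_right _ m.Ma_le_Ms))

theorem Mx.Ma_eq_bot (m : Mx M) (r : rank (Mα M) ≤ 2) : Mα M = ⊥ := by
  by_contra e
  obtain ⟨q, hq, d⟩ := exists_prime_dvd_card e
  have a := O_pi _ M q hq d
  have := mem_alpha.mp a
  rw [← m.hall_Ma.pRank_eq a] at this
  have := pRank_le_rank q (Mα M)
  omega

theorem Mx.p2_aux (m : Mx M) (a : Elem p 2 A M) (h : ∀ X, Elem p 1 X A → ¬ UniqIn (𝐍 X) M) :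
    (p ∈ 𝛔 M ∧ Mα M = ⊥ ∧ Nil (Mσ M)) ∧ 𝐂 A ≤ M := by
  have key : ∀ X, Elem p 1 X A → rank (M ⊓ 𝐂 X) ≤ 2 ∧ (p ∉ 𝛔 M → Mσ M ⊓ 𝐂 X ≤ 𝐂 A) ∧
      (p ∉ 𝛂 M → Mα M ⊓ 𝐂 X ≤ 𝐂 A) := by
    intro X x
    obtain ⟨H, mH, n, ne⟩ := exists_ne_of_not_uniqIn' (x.pi.norm_properV x.ne_bot (m.w_of_elem a)) (h X x)
    have c : 𝐂 X ≤ H := (cent_le_norm X).trans n
    obtain ⟨k1, k2⟩ := m.elem_two_cent mH ne a x n
    refine ⟨not_lt.mp fun r => ne ((uniq_of_rank3 (m.proper inf_le_left) r).eq mH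
      (inf_le_right.trans c) m inf_le_left), fun s => ?_, fun s => ?_⟩
    · exact (inf_le_inf_left _ c).trans (cent_symm (k1 s))
    · exact (inf_le_inf_left _ c).trans (cent_symm (k2 s))
  have nO : ∀ ρ, A ≤ 𝐍 (𝐎 ρ M) := fun ρ => a.le.trans (O_normal _ M).norm
  have r : rank (M ⊓ 𝐂 A) ≤ 2 := by
    obtain ⟨X, x⟩ := a.exists_le one_le_two
    exact (rank_mono (inf_le_inf_left _ (cent_anti x.le))).trans (key X x).1
  have s : p ∈ 𝛔 M := by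
    by_contra s
    have c : Mσ M ≤ 𝐂 A := a.le_of_cent (nO _) ((O_pi _ M).to_compl_single s)
      fun X x => (key X x).2.1 s
    have := m.rank_cent_Ms a.le (a.pi.of_single' s)
    rw [inf_eq_left.mpr (cent_symm c), a.rank_eq] at this
    omega
  obtain ⟨P, hP, l⟩ := exists_syl_le a.le a.pi
  have zA : 𝛀 p (𝐙 P) ≤ A := by
    have : MaxElem p A (M ⊓ 𝐂 A) := (a.of_le (le_inf a.le a.abel)).max_of_pRank
      ((pRank_le_rank _ _).trans r)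
    exact this.le_of_cent hP.pi.abelem_Om_center ((Om_le _ _).trans (inf_le_inf hP.le (cent_anti l)))
      ((Om_le _ _).trans (inf_le_right.trans (cent_anti l)))
  have z1 : 𝛀 p (𝐙 P) ≠ ⊥ := hP.pi.inf_left.Om_ne_bot (hP.pi.center_ne_bot (ne_bot_mono a.ne_bot l))
  have al : p ∉ 𝛂 M := by
    obtain ⟨X, x⟩ := hP.pi.abelem_Om_center.pi.exists_elem_one z1
    rw [not_mem_alpha, ← hP.syl_pRank]
    exact (pRank_le_rank _ _).trans ((rank_mono (le_inf hP.le (cent_symm (x.le.trans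
      ((Om_le _ _).trans inf_le_right))))).trans (key X (x.mono zA)).1)
  have c : Mα M ≤ 𝐂 A := a.le_of_cent (nO _) ((O_pi _ M).to_compl_single al)
    fun X x => (key X x).2.2 al
  have e := m.Ma_eq_bot ((rank_mono (le_inf (O_le _ M) c)).trans r)
  have ni : Nil (Mσ M) := (m.nil_der_of_Ma e).mono m.Ms_le_der
  refine ⟨⟨s, e, ni⟩, (cent_anti zA).trans (m.cent_le ?_ z1)⟩
  have lP := m.le_Ms' hP.le hP.pi s
  have : P ⊴ M := (O_normal _ M).char lP (ni.hall_norm (hP.of_le lP (O_le _ M)))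
  exact (this.char inf_le_left (norm_center P)).Om p

/-- BG 12.4 (a) -/
theorem Mx.cent_elem_two_le (m : Mx M) (a : Elem p 2 A M) : 𝐂 A ≤ M := by
  by_cases h : ∀ X, Elem p 1 X A → ¬ UniqIn (𝐍 X) M
  · exact (m.p2_aux a h).2
  · push Not at h
    obtain ⟨X, x, u⟩ := h
    exact (cent_anti x.le).trans ((cent_le_norm X).trans u.le)

/-- BG 12.4 (b) -/
theorem Mx.of_forall_not_uniqIn (m : Mx M) (a : Elem p 2 A M)
    (h : ∀ X, Elem p 1 X A → ¬ UniqIn (𝐍 X) M) : p ∈ 𝛔 M ∧ Mα M = ⊥ ∧ Nil (Mσ M) :=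
  (m.p2_aux a h).1

end CF.BG.Vp
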