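import Cfsg.Agent.Vp.S12a
/-
BG section 12 (12.5 - 12.7): the primes in τ₂(M).
-/
set_option autoImplicit false
set_option linter.unusedSectionVars false

namespace CF.BG.Vp
open Subgroup
open scoped commutatorElement Pointwise

variable {G : Type*} [Group G] [Finite G] [MSO G]
variable {A A₀ A₁ B C D E E₁ E₂ E₃ H K L M N P Q R S T U V W X Y Z : Subgroup G} {p q r : ℕ}
variable {π : Set ℕ} {x y g : G}

theorem SigE.w2 (h : SigE M E) (a : Elem p 2 A E) : p ∈ 𝛡 G := h.mx.w_of_elem (a.mono h.le)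

theorem Mx.exists_exc (m : Mx M) (hp : p ∈ 𝛕₂ M) (a : Elem p 2 A M) : ∃ A₀, Exc p M A₀ A := by
  by_contra e
  exact tau2_sigma' hp (m.of_forall_not_uniqIn a fun X x u =>
    e ⟨X, m, tau2_sigma' hp, a, x, u.le⟩).1

theorem exists_elem_tau2 (hp : p ∈ 𝛕₂ M) : ∃ A, Elem p 2 A M := exists_elem (tau2_pRank hp).ge

/-- BG 12.5 (a) -/
theorem Mx.tau2_nil (m : Mx M) (hp : p ∈ 𝛕₂ M) : Nil (Mσ M) :=
  let ⟨_, a⟩ := exists_elem_tau2 hp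
  let ⟨_, e⟩ := m.exists_exc hp a
  e.nil_Ms

/-- BG 12.5 (b) -/
theorem Mx.tau2_abel (m : Mx M) (hp : p ∈ 𝛕₂ M) (hP : P ≤ M) (k : PiGrp {p} P) : Abel P :=
  let ⟨_, a⟩ := exists_elem_tau2 hp
  let ⟨_, e⟩ := m.exists_exc hp a
  let ⟨_, s, l⟩ := exists_syl_le hP k
  (e.abel_syl s).mono l

/-- BG 12.5 (b) -/
theorem Mx.tau2_Om (m : Mx M) (hp : p ∈ 𝛕₂ M) (a : Elem p 2 A P) (hP : P ≤ M) (k : PiGrp {p} P) :
    𝛀 p P = A :=
  ((m.tau2_abel hp hP k).eq_Om a two_pos ((pRank_mono p hP).trans (tau2_pRank hp).le)).symm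

/-- BG 12.5 (c) -/
theorem Mx.tau2_sup_normal (m : Mx M) (hp : p ∈ 𝛕₂ M) (a : Elem p 2 A M) : Mσ M ⊔ A ⊴ M :=
  let ⟨_, e⟩ := m.exists_exc hp a; e.sup_normal

/-- BG 12.5 (d) -/
theorem Mx.tau2_cent (m : Mx M) (hp : p ∈ 𝛕₂ M) (a : Elem p 2 A M) : Mσ M ⊓ 𝐂 A = ⊥ :=
  let ⟨_, e⟩ := m.exists_exc hp a; e.struct.2.1

/-- BG 12.5 (e) -/
theorem Mx.tau2_inf (m : Mx M) (hp : p ∈ 𝛕₂ M) (a : Elem p 2 A M) (h : Mx H) (l : A ≤ H)
    (ne : H ≠ M) : Mσ M ⊓ H = ⊥ := by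
  refine eq_bot_mono (m.tau2_cent hp a) (le_inf inf_le_left (cent_symm ?_))
  by_cases u : ∀ X, Elem p 1 X A → ¬ UniqIn (𝐍 X) H
  · obtain ⟨s, -, ni⟩ := h.of_forall_not_uniqIn (a.of_le l) u
    have lA := h.le_Ms' l a.pi s
    refine cent_symm (comm_eq_bot.mp (eq_bot_mono (((O_pi (𝛔 M) M).to_compl_single
      (tau2_sigma' hp)).inf_eq_bot' (O_pi {p} (Mσ H))) (le_inf ((comm_le_left (norm_inf
        (a.le.trans (O_normal _ M).norm) (norm_of_le l))).trans inf_le_left) ?_)))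
    exact (commutator_mono inf_le_right (ni.le_O lA a.pi)).trans
      (comm_le_right ((O_normal _ H).O _).norm)
  · push Not at u
    obtain ⟨X, x, u⟩ := u
    exact (m.elem_two_cent h ne a x u.le).1 (tau2_sigma' hp)

/-- BG 12.5 (f) -/
theorem Mx.tau2_exists_reg (m : Mx M) (hp : p ∈ 𝛕₂ M) (a : Elem p 2 A M) :
    ∃ X, Elem p 1 X A ∧ Mσ M ⊓ 𝐂 X = ⊥ :=
  let ⟨_, e⟩ := m.exists_exc hp a
  let ⟨X, _, x, _, _, c, _⟩ := e.struct.2.2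
  ⟨X, x, c⟩

theorem SigE.normal_of_sup (h : SigE M E) (l : A ≤ E) (n : Mσ M ⊔ A ⊴ M) : A ⊴ E := by
  have := n.inf_left h.le
  rwa [inf_sup_right l (Or.inr (l.trans h.norm)), h.sdprod.inf', bot_sup_eq] at this

/-- BG 12.6 (a) -/
theorem SigE.elem_two_normal (h : SigE M E) (a : Elem p 2 A E) : A ⊴ E :=
  h.normal_of_sup a.le (h.mx.tau2_sup_normal (h.tau2_of_elem a) (a.mono h.le))

/-- BG 12.6 (a) -/
theorem SigE.le_elem_two (h : SigE M E) (a : Elem p 2 A E) (x : Elem p 1 X E) : X ≤ A := by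
  obtain ⟨P, s, l⟩ := exists_syl_le x.le x.pi
  rw [← h.mx.tau2_Om (h.tau2_of_elem a) (a.of_le (s.le_of_normal (h.elem_two_normal a) a.pi))
    (s.le.trans h.le) s.pi]
  exact (x.of_le l).le_Om

/-- BG 12.6 (b) -/
theorem SigE.inf_norm_elem_two (h : SigE M E) (a : Elem p 2 A E) : M ⊓ 𝐍 A = E := by
  have := (h.sdprod.inf_of_right_le (h.elem_two_normal a).norm).sup
  rw [inf_norm_eq_inf_cent (a.le.trans h.norm) (eq_bot_mono h.sdprod.inf' (inf_le_inf_right _ a.le)),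
    h.mx.tau2_cent (h.tau2_of_elem a) (a.mono h.le), bot_sup_eq] at this
  exact this.symm

/-- BG 12.6 (b) -/
theorem SigE.cent_elem_two_le (h : SigE M E) (a : Elem p 2 A E) : 𝐂 A ≤ E :=
  h.inf_norm_elem_two a ▸ le_inf (h.mx.cent_elem_two_le (a.mono h.le)) (cent_le_norm A)

/-- BG 12.6 (b) -/
theorem Mx.tau2_norm_not_le (m : Mx M) (hp : p ∈ 𝛕₂ M) (a : Elem p 2 A M) : ¬ 𝐍 A ≤ M := fun n => by
  obtain ⟨P, s, l⟩ := exists_syl_le a.le a.pi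
  refine tau2_sigma' hp (s.mem_sigmaV m.ne_top (le_trans ?_ n) (m.w_of_tau2 hp))
  rw [← m.tau2_Om hp (a.of_le l) s.le s.pi]
  exact norm_Om p P

theorem Mx.tau2_uniqIn_of_le (m : Mx M) (hp : p ∈ 𝛕₂ M) (a : Elem p 2 A M) (l : A ≤ H)
    (t : Pr H) (c : Mσ M ⊓ H ≠ ⊥) : UniqIn H M :=
  uniqIn_of_forall t fun _ mL lL => by_contra fun ne =>
    c (eq_bot_mono (m.tau2_inf hp a mL (l.trans lL) ne) (inf_le_inf_left _ lL))

theorem Mx.tau2_exists_cent (m : Mx M) (hp : p ∈ 𝛕₂ M) (hX : X ≤ M) (k : PiGrp {p} X) :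
    ∃ A, Elem p 2 A M ∧ A ≤ 𝐂 X := by
  obtain ⟨P, s, l⟩ := exists_syl_le hX k
  obtain ⟨A, a⟩ := exists_elem (H := P) (by rw [s.syl_pRank, tau2_pRank hp])
  exact ⟨A, a.mono s.le, (m.tau2_abel hp s.le s.pi).cent a.le l⟩

/-- BG 12.6 (c) -/
theorem Mx.tau2_uniqIn (m : Mx M) (hp : p ∈ 𝛕₂ M) (x : Elem p 1 X M) (c : Mσ M ⊓ 𝐂 X ≠ ⊥) :
    UniqIn (𝐂 X) M :=
  let ⟨_, a, l⟩ := m.tau2_exists_cent hp x.le x.pi
  m.tau2_uniqIn_of_le hp a l (cent_proper x.ne_bot (x.pw (m.w_of_tau2 hp))) c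

/-- BG 12.6 (d), (e) -/
theorem SigE.reg13 (h : SigE M E) (a : Elem p 2 A E) (hX : X ≤ 𝐂 A) (k : PiGrp (𝛕₂ M)ᶜ X) :
    Reg (Mσ M) X := by
  refine reg_of_elem fun q Y y => ?_
  have yE : Y ≤ E := y.le.trans (hX.trans (h.cent_elem_two_le a))
  have t : q ∈ 𝛕₁ M ∪ 𝛕₃ M := by
    rcases h.partition_pi y.prime (y.dvd.trans (card_dvd yE)) with t | t | t
    exacts [Or.inl t, absurd t (y.mem_of_pi k), Or.inr t]
  have w : q ∈ 𝛡 G := y.w_of_le (((a.pw (h.mx.w_of_elem (a.mono h.le))).cent a.ne_bot).le hX)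
  obtain ⟨H, mH, n⟩ := exists_mx_norm y.ne_bot (y.pw w)
  have nc := h.mx.not_conj_of_norm mH y.pi (yE.trans h.le) n (Or.inr t) w
  have c : 𝐂 Y ≤ H := (cent_le_norm Y).trans n
  exact eq_bot_mono (h.mx.tau2_inf (h.tau2_of_elem a) (a.mono h.le) mH
    ((cent_symm (y.le.trans hX)).trans c) (by rintro rfl; exact nc (Conj.refl _)))
    (inf_le_inf_left _ c)

theorem SigC.cent3_elem_two (h : SigC M E E₁ E₂ E₃) (a : Elem p 2 A E) : E₃ ≤ 𝐂 A :=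
  h.normal3.cent_of_inf_eq_bot (h.elem_two_normal a)
    (h.h3.pi.inf_eq_bot (a.pi.of_single' fun t => tau3_not_tau2 t (h.tau2_of_elem a)))

/-- BG 12.6 (d) -/
theorem SigC.reg3 (h : SigC M E E₁ E₂ E₃) (hp : p ∈ 𝛕₂ M) : Reg (Mσ M) E₃ :=
  let ⟨_, a⟩ := h.exists_elem_two hp
  h.reg13 a (h.cent3_elem_two a) (h.h3.pi.mono fun _ => tau3_not_tau2)

/-- BG 12.6 (e) -/
theorem SigC.reg1 (h : SigC M E E₁ E₂ E₃) (a : Elem p 2 A E) : Reg (Mσ M) (E₁ ⊓ 𝐂 A) :=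
  h.reg13 a inf_le_right (h.h1.pi.inf_left.mono fun _ => tau1_not_tau2)

theorem Mx.tau2_maxElem (m : Mx M) (hp : p ∈ 𝛕₂ M) (a : Elem p 2 A M) : MaxElem p A ⊤ :=
  m.maxElem_of_sigma' (tau2_sigma' hp) a

/-- Gaschütz's theorem in ambient form -/
theorem gaschutz_sdprod (hK : K ⊴ E) (a : Abel K) (s : Hall π P E) (k : PiGrp π K)
    (d : SDProd K Y P) : ∃ E₀, SDProd K E₀ E := by
  have := hK.normal
  have := (a.subgroupOf E).comm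
  obtain ⟨H, hH⟩ := CF.Solv.gaschutz_exists (K.subgroupOf E) (P.subgroupOf E)
    (A := Y.subgroupOf E) (by rw [card_subgroupOf' hK.le]; exact k.coprime s.idx)
    (((comap_inf Y K E.subtype).symm.trans (congrArg _ d.inf')).trans (bot_subgroupOf E))
    (by rw [← subgroupOf_sup hK.le (d.right_le.trans s.le), d.sup])
  have := (SDProd.of_isComplement' hH).map E.subtype_injective
  rw [map_subgroupOf hK.le, map_top_subtype] at this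
  exact ⟨_, this⟩

theorem SigE.tau2_eq_of_nonabel (h : SigE M E) (a : Elem p 2 A E) (k : PiGrp {p} P)
    (na : ¬ Abel P) : 𝛕₂ M = {p} := by
  have t := h.tau2_of_elem a
  refine Set.eq_singleton_iff_unique_mem.mpr ⟨t, fun q tq => by_contra fun ne => na ?_⟩
  obtain ⟨B, b⟩ := h.exists_elem_two tq
  have c : B ≤ 𝐂 A := (h.elem_two_normal b).cent_of_inf_eq_bot (h.elem_two_normal a)
    (b.pi.inf_eq_bot (a.pi.of_single_ne (Ne.symm ne)))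
  obtain ⟨Q, mQ, l⟩ := exists_maxInv b.pi (norm_of_cent' c)
  obtain ⟨S, s, -, -, -, k'⟩ := mQ.signalizerV (Ne.symm ne) a.top (h.mx.tau2_maxElem t (a.mono h.le))
    (b.dvd.trans (card_dvd c)) (h.mx.w_of_tau2 t) (h.mx.w_of_tau2 tq)
  have lS : S ≤ M := (k' fun _ => ⟨B, b.of_le l,
    (h.mx.tau2_maxElem tq (b.mono h.le)).of_le l le_top⟩).trans ((cent_anti l).trans
      (h.mx.cent_elem_two_le (b.mono h.le)))
  obtain ⟨g, -, l'⟩ := s.syl_cj_le le_top k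
  exact abel_cj.mp ((h.mx.tau2_abel t lS s.pi).mono l')

theorem SigE.nonabel_aux (h : SigE M E) (a : Elem p 2 A E) (s : Syl p S ⊤) (l : A ≤ S)
    (na : ¬ Abel S) : Elem p 1 (A ⊓ 𝐂 (Mσ M)) A ∧ A ⊓ 𝐂 (Mσ M) ≠ 𝛀 p (𝐙 S) ∧
      ∀ X, Elem p 1 X E → X ≠ A ⊓ 𝐂 (Mσ M) → Mσ M ⊓ 𝐂 X = ⊥ ∧ ¬ 𝐂 X ≤ M := by
  have t := h.tau2_of_elem a
  have aM := a.mono h.le
  obtain ⟨-, -, tr⟩ := (h.mx.tau2_maxElem t aM).structV (a.of_le l) s.pi na (h.mx.w_of_tau2 t)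
  have kM : PiGrp {p}ᶜ (Mσ M) := (O_pi _ M).to_compl_single (tau2_sigma' t)
  have nM : A ≤ 𝐍 (Mσ M) := a.le.trans h.norm
  have zM : ¬ 𝐂 (𝛀 p (𝐙 S)) ≤ M := fun c => na (h.mx.tau2_abel t
    ((cent_symm ((Om_le _ _).trans inf_le_right)).trans c) s.pi)
  obtain ⟨A₀, a0, c0⟩ := a.exists_cent_ne_bot nM kM h.mx.Ms_ne_bot
  have u0 := h.mx.tau2_uniqIn t (a0.mono aM.le) c0
  have ne0 : A₀ ≠ 𝛀 p (𝐙 S) := fun e => zM (e ▸ u0.le)
  have key : ∀ X, Elem p 1 X A → X ≠ A₀ → ¬ 𝐂 X ≤ M := by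
    intro X x ne c
    by_cases e : X = 𝛀 p (𝐙 S)
    · exact zM (e ▸ c)
    obtain ⟨y, hy, rfl⟩ := tr A₀ X a0 ne0 x e
    have yM : y ∈ M := u0.mem_of_cj_le (by rwa [cj_cent])
    have ab : Abel (S ⊓ M) := h.mx.tau2_abel t inf_le_right s.pi.inf_left
    exact ne (cj_of_cent (ab.cent le_rfl (a0.le.trans (le_inf l aM.le)) ⟨hy.1, yM⟩))
  have key2 : ∀ X, Elem p 1 X A → X ≠ A₀ → Mσ M ⊓ 𝐂 X = ⊥ := fun X x ne =>
    by_contra fun c => key X x ne (h.mx.tau2_uniqIn t (x.mono aM.le) c).le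
  have c : Mσ M ≤ 𝐂 A₀ := a.le_of_cent nM kM fun X x => by
    by_cases e : X = A₀
    · exact e ▸ inf_le_right
    · rw [key2 X x e]; exact bot_le
  have e0 : A ⊓ 𝐂 (Mσ M) = A₀ := by
    have l0 : A₀ ≤ A ⊓ 𝐂 (Mσ M) := le_inf a0.le (cent_symm c)
    refine (a0.eq_of_le (a.one_of_lt (lt_of_le_of_ne inf_le_left fun e => h.mx.Ms_ne_bot ?_)
      (ne_bot_mono a0.ne_bot l0)) l0).symm
    rw [← h.mx.tau2_cent t aM, inf_eq_left.mpr (cent_symm (inf_eq_left.mp e))]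
  rw [e0]
  exact ⟨a0, ne0, fun X x ne => ⟨key2 X (x.of_le (h.le_elem_two a x)) ne,
    key X (x.of_le (h.le_elem_two a x)) ne⟩⟩

theorem SigE.cent_Ms_normal (h : SigE M E) (n : A ⊴ E) : A ⊓ 𝐂 (Mσ M) ⊴ M := by
  refine ⟨inf_le_left.trans (n.le.trans h.le), ?_⟩
  conv_lhs => rw [← h.sdprod.sup]
  exact sup_le (norm_of_cent' inf_le_right) (norm_inf_cent n.norm h.norm)

/-- a cyclic `p`-group containing a complemented subgroup of order `p` has order `p` -/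
theorem _root_.CF.BG.Cyc.eq_of_complV (c : Cyc K) (k : PiGrp {p} K) (x : Elem p 1 X K) (d : SDProd X Y P)
    (l : K ≤ P) : K = X := by
  have d' := d.inf_of_left_le x.le
  rw [inf_eq_right.mpr l] at d'
  have e : Y ⊓ K = ⊥ := by_contra fun e =>
    c.inf_ne_bot k x.le inf_le_right x.ne_bot e d'.inf
  rw [← d'.sup, e, sup_bot_eq]

/-- BG 12.7 -/
theorem SigE.nonabel_tau2 (h : SigE M E) (a : Elem p 2 A E) (k : PiGrp {p} P) (na : ¬ Abel P) :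
    𝛕₂ M = {p} ∧ ♯(A ⊓ 𝐂 (Mσ M)) = p ∧ DProd (Mσ M) (A ⊓ 𝐂 (Mσ M)) (𝐅 M) ∧
    (∀ X, Elem p 1 X E → X ≠ A ⊓ 𝐂 (Mσ M) → Mσ M ⊓ 𝐂 X = ⊥ ∧ ¬ 𝐂 X ≤ M) ∧
    ∃ E₀, SDProd (A ⊓ 𝐂 (Mσ M)) E₀ E ∧ ∀ x ∈ Mσ M, x ≠ 1 → PiGrp (𝛕₁ M) (E₀ ⊓ 𝐂₁ x) := by
  have t := h.tau2_of_elem a
  have t2 := h.tau2_eq_of_nonabel a k na
  have aM := a.mono h.le
  obtain ⟨P₁, s1, l1⟩ := exists_syl_le a.le a.pi
  obtain ⟨S, s, lS⟩ := exists_syl_le le_top s1.pi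
  have naS : ¬ Abel S := fun ab => by
    obtain ⟨g, -, l'⟩ := s.syl_cj_le le_top k
    exact na (abel_cj.mp (ab.mono l'))
  obtain ⟨a0, ne0, hX⟩ := h.nonabel_aux a s (l1.trans lS) naS
  obtain ⟨-, ⟨Y, -, -, dY⟩, -⟩ := (h.mx.tau2_maxElem t aM).structV (a.of_le (l1.trans lS)) s.pi naS (h.mx.w_of_tau2 t)
  have eP : S ⊓ 𝐂 A = P₁ := (s1.eq_of_le (le_inf lS ((h.mx.tau2_abel t (s1.le.trans h.le)
    s1.pi).cent le_rfl l1)) (inf_le_right.trans (h.cent_elem_two_le a)) s.pi.inf_left).symm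
  have d := (eP ▸ dY _ a0 ne0).sdprod
  have n0 := h.cent_Ms_normal (h.elem_two_normal a)
  have n0E : A ⊓ 𝐂 (Mσ M) ⊴ E := n0.of_le (a0.le.trans a.le) h.le
  refine ⟨t2, a0.card_one, ?_, hX, ?_⟩
  · have ni := h.mx.tau2_nil t
    have lF : Mσ M ≤ 𝐅 M := le_F (O_normal _ M) ni
    have e1 : 𝐎 (𝛔 M) (𝐅 M) = Mσ M :=
      le_antisymm (O_F_le _ M) ((F_nil M).le_O lF (O_pi _ M))
    have dF := F_dprod (𝛔 M) M
    rw [e1] at dF
    set K := 𝐎 (𝛔 M)ᶜ (𝐅 M)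
    have nK : K ⊴ M := (F_normal M).O _
    have kK : PiGrp {p} K := fun q hq dq => by
      have o1 : 𝐎 {q} K ≠ ⊥ := ((F_nil M).mono dF.right_le).hall_O _ |>.syl_ne_bot hq dq
      have := (h.mx.sigma_or_tau2 (O_pi _ K) (h.mx.norm_le (nK.O _) o1) ((h.mx.pw_of_le_F dF.right_le).mem hq dq)).resolve_left
        (O_pi _ _ q hq dq)
      rwa [t2] at this
    have cK : Cyc K := kK.mcycV (by
      have := h.mx.rank_cent_Ms nK.le (O_pi _ _)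
      rw [inf_eq_left.mpr dF.cent] at this
      exact (pRank_le_rank _ _).trans this) (h.mx.proper nK.le)
    have l0 : A ⊓ 𝐂 (Mσ M) ≤ K :=
      (F_nil M).le_O (le_F n0 a0.pi.nil) (a0.pi.of_single' (tau2_sigma' t))
    rwa [cK.eq_of_complV kK (a0.of_le l0) d
      ((s1.syl_trans h.hall (tau2_sigma' t)).le_of_normal nK kK)] at dF
  · obtain ⟨E₀, d0⟩ := gaschutz_sdprod n0E a0.abel s1 a0.pi d
    refine ⟨E₀, d0, fun x hx x1 q hq dq => ?_⟩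
    obtain ⟨X, e⟩ := exists_elem_one hq dq
    have eE : Elem q 1 X E := e.mono (inf_le_left.trans d0.right_le)
    have c : Mσ M ⊓ 𝐂 X ≠ ⊥ := ne_bot_of_mem ⟨hx, le_cent1_iff.mp (e.le.trans inf_le_right)⟩ x1
    rcases h.partition_pi hq eE.dvd' with t' | t' | t'
    · exact t'
    · obtain rfl : q = p := by rwa [t2] at t'
      exact absurd (hX X eE fun e' => e.ne_bot (eq_bot_mono d0.inf
        (le_inf e'.le (e.le.trans inf_le_left)))).1 c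
    · obtain ⟨E₁, E₂, E₃, sc⟩ := h.exists_sigC
      exact absurd ((sc.reg3 t).cent (sc.h3.le_normal sc.normal3.norm eE.le (e.pi.of_single t'))
        e.ne_bot) c

end CF.BG.Vp
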