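import Cfsg.Agent.Vp.S12a2
/-
BG section 12 (12.8 - 12.11).
-/
set_option autoImplicit false
set_option linter.unusedSectionVars false

namespace CF.BG.Vp
open Subgroup
open scoped commutatorElement Pointwise

variable {G : Type*} [Group G] [Finite G] [MSO G]
variable {A A₀ A₁ B C D E E₁ E₂ E₃ H K L M N P Q R S T U V W X Y Z : Subgroup G} {p q r : ℕ}
variable {π : Set ℕ} {x y g : G}

theorem _root_.CF.BG.Hall.abel_of_abelV (s : Syl p S H) (ab : Abel S) (hP : P ≤ H) (k : PiGrp {p} P) : Abel P :=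
  let ⟨_, _, l⟩ := s.syl_cj_le hP k
  abel_cj.mp (ab.mono l)

theorem _root_.CF.BG.Nil.le_cent_of_abelV (h : Nil H) (hA : A ≤ H) (k : PiGrp π A) (ab : Abel (𝐎 π H)) :
    H ≤ 𝐂 A := by
  conv_lhs => rw [← (h.dprod π).sup]
  exact sup_le (ab.cent le_rfl (h.le_O hA k))
    ((O_compl_cent_O π H).trans (cent_anti (h.le_O hA k)))

theorem F_eq_F_cent (s : Syl p S ⊤) (ab : Abel S) (k : PiGrp {p} A) (n : A ⊴ H) (c : 𝐂 A ≤ H) :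
    𝐅 H = 𝐅 (𝐂 A) :=
  le_antisymm (F_le_F_of_le c ((F_nil H).le_cent_of_abelV (le_F n k.nil) k
    (s.abel_of_abelV ab le_top (O_pi _ _)))) (F_le_F_of_normal ⟨c, norm_cent n.norm⟩)

theorem SigE.Om_syl (h : SigE M E) (a : Elem p 2 A E) (hS : Syl p S ⊤) (l : A ≤ S) (s : Abel S) :
    𝛀 p S = A :=
  h.mx.tau2_Om (h.tau2_of_elem a) (a.of_le l)
    ((s.cent le_rfl l).trans (h.mx.cent_elem_two_le (a.mono h.le))) hS.pi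

theorem SigE.F_eq_F_cent (h : SigE M E) (a : Elem p 2 A E) (hS : Syl p S ⊤) (s : Abel S) :
    𝐅 E = 𝐅 (𝐂 A) :=
  Vp.F_eq_F_cent hS s a.pi (h.elem_two_normal a) (h.cent_elem_two_le a)

/-- BG 12.8 (c) -/
theorem SigE.abel_tau2_le_F (h : SigE M E) (a : Elem p 2 A E) (hS : Syl p S ⊤) (l : A ≤ S)
    (s : Abel S) : S ≤ ⁅𝐍 S, 𝐍 S⁆ ∧ ⁅𝐍 S, 𝐍 S⁆ ≤ 𝐅 E ∧ 𝐅 E ≤ 𝐂 S ∧ 𝐂 S ≤ E := by
  have e : 𝐅 (𝐍 A) = 𝐅 E := (Vp.F_eq_F_cent hS s a.pi (normalIn_norm A) (cent_le_norm A)).trans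
    (h.F_eq_F_cent a hS s).symm
  have n : 𝐍 S ≤ 𝐍 A := h.Om_syl a hS l s ▸ norm_Om p S
  have d : ⁅𝐍 S, 𝐍 S⁆ ≤ 𝐅 E := (der_mono n).trans (e ▸ rank2_der_le_F
    (sol_norm a.ne_bot (a.pw (h.w2 a))) (a.pi.norm_properV a.ne_bot (h.w2 a)).odd (e ▸ (rank_mono (F_le E)).trans h.rank_le))
  exact ⟨hS.le_der_normV (h.w2 a), d, (F_nil E).le_cent_of_abelV ((hS.le_der_normV (h.w2 a)).trans d) hS.pi
    (hS.abel_of_abelV s le_top (O_pi _ _)), (cent_anti l).trans (h.cent_elem_two_le a)⟩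

theorem SigE.abel_tau2_syl (h : SigE M E) (a : Elem p 2 A E) (hS : Syl p S ⊤) (s : Abel S)
    (hq : q ∈ 𝛕₂ M) : ∃ T, Syl q T ⊤ ∧ T ≤ 𝐅 E ∧ 𝐅 E ≤ 𝐂 T := by
  obtain ⟨B, b⟩ := h.exists_elem_two hq
  obtain ⟨T, t, l⟩ := exists_syl_le le_top b.pi
  have ab : Abel T := by_contra fun na => by
    have := h.tau2_of_elem a
    rw [h.tau2_eq_of_nonabel b t.pi na] at this
    obtain rfl : p = q := this
    exact na (hS.abel_of_abelV s le_top t.pi)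
  obtain ⟨h1, h2, h3, -⟩ := h.abel_tau2_le_F b t l ab
  exact ⟨T, t, h1.trans h2, h3⟩

theorem SigE.abel_tau2_aux (h : SigE M E) (a : Elem p 2 A E) (hS : Syl p S ⊤) (s : Abel S)
    (k : Hall (𝛕₂ M) E₂ E) : E₂ = 𝐎 (𝛕₂ M) (𝐅 E) ∧ 𝐅 E ≤ 𝐂 E₂ ∧ Hall (𝛕₂ M) E₂ ⊤ := by
  have key : ∀ q ∈ 𝛕₂ M, ∀ Q, Syl q Q E₂ → Syl q Q ⊤ ∧ Q ≤ 𝐅 E ∧ 𝐅 E ≤ 𝐂 Q := by
    intro q hq Q sQ
    obtain ⟨T, t, l, c⟩ := h.abel_tau2_syl a hS s hq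
    have n : T ⊴ E := (F_normal E).char l ((F_nil E).hall_norm (t.of_le l le_top))
    rw [(t.of_le n.le le_top).eq_of_normal n.norm (sQ.syl_trans k hq)]
    exact ⟨t, l, c⟩
  have l : E₂ ≤ 𝐅 E := le_of_forall_syl' fun q hq d Q sQ => (key q (k.pi q hq d) Q sQ).2.1
  refine ⟨(F_nil E).hall_eq (k.of_le l (F_le E)), cent_symm (le_of_forall_syl' fun q hq d Q sQ =>
    cent_symm (key q (k.pi q hq d) Q sQ).2.2), le_top, k.pi, fun q hq d t => ?_⟩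
  obtain ⟨Q, sQ⟩ := exists_syl q E₂
  exact (key q t Q sQ).1.idx_of_le sQ.le q hq d rfl

/-- BG 12.8 (a), (b) -/
theorem SigE.abel_tau2 (h : SigE M E) (a : Elem p 2 A E) (hS : Syl p S ⊤) (l : A ≤ S)
    (s : Abel S) (k : Hall (𝛕₂ M) E₂ E) : E₂ ⊴ E ∧ Abel E₂ ∧ Hall (𝛕₂ M) E₂ ⊤ := by
  obtain ⟨h1, h2, h3⟩ := h.abel_tau2_aux a hS s k
  exact ⟨h1 ▸ (F_normal E).O _, (h1.le.trans (O_le _ _)).trans h2, h3⟩

theorem SigC.le_F3 (h : SigC M E E₁ E₂ E₃) : E₃ ≤ 𝐅 E := le_F h.normal3 h.cyc3.nil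

/-- BG 12.8 (d) -/
theorem SigC.abel_tau2_norm (h : SigC M E E₁ E₂ E₃) (a : Elem p 2 A E) (hS : Syl p S ⊤) (l : A ≤ S)
    (s : Abel S) : 𝐍 A = 𝐍 S ∧ 𝐍 S = 𝐍 E₂ ∧ 𝐍 S = 𝐍 (E₃ ⊔ E₂) ∧ 𝐍 S = 𝐍 (𝐅 E) := by
  obtain ⟨h1, h2, h3⟩ := h.abel_tau2_aux a hS s h.h2
  obtain ⟨k1, k2, -, k4⟩ := h.abel_tau2_le_F a hS l s
  have l2 : E₂ ≤ 𝐅 E := h1.le.trans (O_le _ _)
  have l32 : E₃ ⊔ E₂ ≤ 𝐅 E := sup_le h.le_F3 l2
  have lS : S ≤ E₂ := h1 ▸ (F_nil E).le_O (k1.trans k2) (hS.pi.of_single (h.tau2_of_elem a))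
  have n1 : 𝐍 (𝐅 E) ≤ 𝐍 (E₃ ⊔ E₂) := (F_nil E).hall_norm (h.hall32.of_le l32 (F_le E))
  have n2 : 𝐍 (E₃ ⊔ E₂) ≤ 𝐍 E₂ :=
    ((F_nil E).mono l32).hall_norm (h3.of_le le_sup_right le_top)
  have n3 : 𝐍 E₂ ≤ 𝐍 S := ((F_nil E).mono l2).hall_norm (hS.of_le lS le_top)
  have n4 : 𝐍 S ≤ 𝐍 A := h.Om_syl a hS l s ▸ norm_Om p S
  have n5 : 𝐍 A ≤ 𝐍 (𝐅 E) := h.F_eq_F_cent a hS s ▸ (norm_le_norm_cent A).trans (norm_F _)
  exact ⟨le_antisymm (n5.trans (n1.trans (n2.trans n3))) n4,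
    le_antisymm (n4.trans (n5.trans (n1.trans n2))) n3,
    le_antisymm (n4.trans (n5.trans n1)) (n2.trans n3),
    le_antisymm (n4.trans n5) (n1.trans (n2.trans n3))⟩

theorem SigE.not_norm_syl_le (h : SigE M E) (a : Elem p 2 A E) (hS : Syl p S ⊤) (l : A ≤ S)
    (s : Abel S) : ¬ 𝐍 S ≤ M := fun n =>
  tau2_sigma' (h.tau2_of_elem a) ((hS.of_le ((le_norm_self S).trans n) le_top).mem_sigmaV
    h.mx.ne_top n (h.w2 a))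

theorem norm_comm_of_der_le (n : N ≤ 𝐍 K) (hX : X ≤ N) (d : ⁅N, N⁆ ≤ 𝐂 K) :
    N ≤ 𝐍 (K ⊓ 𝐂 X) ∧ N ≤ 𝐍 ⁅K, X⁆ := by
  have n1 : N ≤ 𝐍 (⁅N, N⁆ ⊔ X) := norm_of_der_le (sup_le (der_le N) hX) le_sup_left
  constructor
  · have : K ⊓ 𝐂 X = K ⊓ 𝐂 (⁅N, N⁆ ⊔ X) := by
      rw [cent_sup, ← inf_assoc, inf_eq_left.mpr (cent_symm d)]
    exact this ▸ norm_inf_cent n n1
  · have : ⁅K, X⁆ = ⁅K, ⁅N, N⁆ ⊔ X⁆ := by
      rw [commutator_comm K (_ ⊔ _), commutator_comm K X]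
      refine le_antisymm (commutator_mono le_sup_right le_rfl) (comm_sup_le ?_ le_rfl ?_
        (norm_comm_left X K))
      · rw [comm_eq_bot.mpr d]; exact bot_le
      · exact norm_of_cent (d.trans (cent_anti (comm_le_right (hX.trans n))))
    exact this ▸ norm_commutator n n1

/-- BG 12.8 (e) -/
theorem SigE.abel_tau2_center (h : SigE M E) (a : Elem p 2 A E) (hS : Syl p S ⊤) (l : A ≤ S)
    (s : Abel S) (hq : q ∈ 𝛕₁ M) (x : Elem q 1 X E) (c : Mσ M ⊓ 𝐂 X = ⊥) : X ≤ 𝐂 E := by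
  obtain ⟨E₁, E₂, E₃, sc, lX⟩ := h.exists_sigC_le1 x.le (x.pi.of_single hq)
  obtain ⟨h1, h2, -⟩ := h.abel_tau2_aux a hS s sc.h2
  obtain ⟨-, k2, -, -⟩ := h.abel_tau2_le_F a hS l s
  obtain ⟨n1, -, n3, -⟩ := sc.abel_tau2_norm a hS l s
  have c3 : 𝐅 E ≤ 𝐂 E₃ := (F_nil E).le_cent_of_abelV sc.le_F3 sc.h3.pi
    ((F_nil E).hall_eq (sc.h3.of_le sc.le_F3 (F_le E)) ▸ sc.cyc3.abel)
  have cK : 𝐅 E ≤ 𝐂 (E₃ ⊔ E₂) := le_cent_sup c3 h2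
  have l32 : E₃ ⊔ E₂ ≤ 𝐅 E := sup_le sc.le_F3 (h1.le.trans (O_le _ _))
  have nE : E ≤ 𝐍 S := n1 ▸ (h.elem_two_normal a).norm
  obtain ⟨-, -, nM⟩ := h.mx.comm_sigma'_cyc (sc.hall32.le.trans h.le) (h.pi.le sc.hall32.le)
    (tau1_sigma' hq) (x.mono h.le) (x.le.trans sc.normal32.norm) c
    (sc.hall32.pi.to_compl_single' hq) (l32.trans cK)
  have e : ⁅E₃ ⊔ E₂, X⁆ = ⊥ := by_contra fun e => h.not_norm_syl_le a hS l s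
    ((norm_comm_of_der_le n3.le (x.le.trans nE) (k2.trans cK)).2.trans (h.mx.norm_le nM e))
  conv_rhs => rw [← sc.sdprod1.sup]
  exact le_cent_sup (comm_eq_bot'.mp e) (lX.trans sc.cyc1.abel)

/-- BG 12.8 (f) -/
theorem SigE.abel_tau2_normal (h : SigE M E) (a : Elem p 2 A E) (hS : Syl p S ⊤) (l : A ≤ S)
    (s : Abel S) (hX : X ≤ 𝐍 S) : S ⊓ 𝐂 X ⊴ 𝐍 S ∧ ⁅S, X⁆ ⊴ 𝐍 S := by
  obtain ⟨-, k2, k3, -⟩ := h.abel_tau2_le_F a hS l s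
  obtain ⟨n1, n2⟩ := norm_comm_of_der_le le_rfl hX (k2.trans k3)
  exact ⟨⟨inf_le_left.trans (le_norm_self S), n1⟩, ⟨(comm_le_left hX).trans (le_norm_self S), n2⟩⟩

/-- BG 12.9 -/
theorem SigE.tau1_act_tau2 (h : SigE M E) (a : Elem p 2 A E) (hq : q ∈ 𝛕₁ M) (k : Elem q 1 Q E)
    (c : Mσ M ⊓ 𝐂 Q = ⊥) (e : ⁅A, Q⁆ ≠ ⊥) :
    Elem p 1 ⁅A, Q⁆ A ∧ A ⊓ 𝐂 (Mσ M) = ⁅A, Q⁆ ∧ ⁅A, Q⁆ ⊴ M ∧ ¬ Conj (A ⊓ 𝐂 Q) ⁅A, Q⁆ ∧
      Elem p 1 (A ⊓ 𝐂 Q) A ∧ ¬ 𝐂 (A ⊓ 𝐂 Q) ≤ M := by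
  have t := h.tau2_of_elem a
  have aM := a.mono h.le
  have n : Q ≤ 𝐍 A := k.le.trans (h.elem_two_normal a).norm
  have pq : p ≠ q := fun e => tau1_not_tau2 hq (e ▸ t)
  have cp : (♯Q).Coprime (♯A) := k.pi.coprime (a.pi.of_single_ne pq)
  have d := a.abel.dprod_cent_comm n cp
  obtain ⟨c0, cy, n0⟩ := h.mx.comm_sigma'_cyc aM.le (h.pi.le a.le) (tau1_sigma' hq) (k.mono h.le)
    n c (a.pi.of_single_ne pq) a.abel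
  have a0 : Elem p 1 ⁅A, Q⁆ A :=
    a.one_of_lt (lt_of_le_of_ne d.right_le fun e' => a.not_cyc (e' ▸ cy)) e
  have e0 : A ⊓ 𝐂 (Mσ M) = ⁅A, Q⁆ := by
    have l0 : ⁅A, Q⁆ ≤ A ⊓ 𝐂 (Mσ M) := le_inf a0.le c0
    refine (a0.eq_of_le (a.one_of_lt (lt_of_le_of_ne inf_le_left fun e => h.mx.Ms_ne_bot ?_)
      (ne_bot_mono a0.ne_bot l0)) l0).symm
    rw [← h.mx.tau2_cent t aM, inf_eq_left.mpr (cent_symm (inf_eq_left.mp e))]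
  have a1 : Elem p 1 (A ⊓ 𝐂 Q) A := a.one_of_lt (lt_of_le_of_ne inf_le_left fun e' =>
    e (comm_eq_bot.mpr (inf_eq_left.mp e'))) fun e' => by
      have := d.sup
      rw [e', bot_sup_eq] at this
      exact a.not_cyc (this ▸ cy)
  refine ⟨a0, e0, n0, ?_, a1, fun l => ?_⟩
  · rintro ⟨g, eg⟩
    have c1 : BG.cj g Q ≤ 𝐂 ⁅A, Q⁆ := eg ▸ cj_cent_iff.mpr (cent_symm inf_le_right)
    obtain ⟨u, hu, eu⟩ := ((k.cj g).of_le (c1.trans (h.mx.cent_le n0 e))).conj_of_pRankV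
      (k.mono h.le) (tau1_pRank hq).le
    have c2 : Q ≤ 𝐂 ⁅A, Q⁆ := eu.le.trans (cj_le_of_norm (norm_cent n0.norm hu) c1)
    exact e (eq_bot_mono d.inf (le_inf (le_inf a0.le (cent_symm c2)) le_rfl))
  · obtain ⟨S, s, lS⟩ := exists_syl_le le_top a.pi
    by_cases ab : Abel S
    · exact e (comm_eq_bot'.mpr ((h.abel_tau2_center a s lS ab hq k c).trans (cent_anti a.le)))
    · refine ((h.nonabel_tau2 a s.pi ab).2.2.2.1 _ (a1.mono a.le) fun e' => a1.ne_bot ?_).2 l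
      rw [← d.inf, ← e0, ← e', inf_idem]

theorem _root_.CF.BG.Nil.abel_of_forallV (n : Nil N) (h : ∀ p : ℕ, p.Prime → p ∣ ♯N → Abel (𝐎 {p} N)) : Abel N :=
  cent_symm (n.le_of_forall fun p hp d =>
    cent_symm (n.le_cent_of_abelV (O_le _ N) (O_pi _ N) (h p hp d)))

theorem Mx.abel_of_sigma' (m : Mx M) (hp : p ∉ 𝛔 M) (hP : P ≤ M) (k : PiGrp {p} P) : Abel P := by
  by_cases t : p ∈ 𝛕₂ M
  · exact m.tau2_abel t hP k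
  · have a := m.pRank_le_two hp
    have b : pRank p M ≠ 2 := fun e => t (mem_tau2.mpr ⟨hp, e⟩)
    exact (k.mcycV ((pRank_mono p hP).trans (by omega)) (m.proper hP)).abel

/-- BG 12.10 (a) -/
theorem Mx.abel_of_nil (m : Mx M) (hN : N ≤ M) (k : PiGrp (𝛔 M)ᶜ N) (n : Nil N) : Abel N :=
  n.abel_of_forallV fun p hp d => m.abel_of_sigma' (k p hp d) ((O_le _ N).trans hN) (O_pi _ N)

/-- BG 12.10 (b) -/
theorem SigE.abel_der (h : SigE M E) : Abel ⁅E, E⁆ :=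
  h.mx.abel_of_nil ((der_le E).trans h.le) (h.pi.le (der_le E)) h.nil_der

/-- BG 12.10 (b) -/
theorem Mx.abel_of_tau2 (m : Mx M) (hX : X ≤ M) (k : PiGrp (𝛕₂ M) X) : Abel X := by
  by_cases x1 : X = ⊥
  · exact x1 ▸ abel_bot
  obtain ⟨p, hp, d⟩ := exists_prime_dvd_card x1
  obtain ⟨E, h, l⟩ := m.exists_sigE hX (k.mono (tau2_sub M))
  obtain ⟨E₂, e2, l2⟩ := h.sol.exists_hall_le l k
  obtain ⟨A, a⟩ := h.exists_elem_two (k p hp d)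
  obtain ⟨S, s, lS⟩ := exists_syl_le le_top a.pi
  by_cases ab : Abel S
  · exact (h.abel_tau2 a s lS ab e2).2.1.mono l2
  · exact m.tau2_abel (k p hp d) hX (h.tau2_eq_of_nonabel a s.pi ab ▸ k)

/-- BG 12.10 (c) -/
theorem SigC.le_cent_elem_two (h : SigC M E E₁ E₂ E₃) (a : Elem p 2 A E) : E₃ ⊔ E₂ ≤ 𝐂 A :=
  sup_le (h.cent3_elem_two a) ((h.mx.abel_of_tau2 (h.h2.le.trans h.le) h.h2.pi).cent le_rfl
    (h.h2.le_of_normal (h.elem_two_normal a) (a.pi.of_single (h.tau2_of_elem a))))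

/-- BG 12.10 (c) -/
theorem SigE.tau1_cent_elem_two (h : SigE M E) (a : Elem p 2 A E) :
    PiNat (𝛕₁ M) ((𝐂 A).relIndex E) :=
  let ⟨_, _, _, sc⟩ := h.exists_sigC
  (sc.hall32.idx_of_le (sc.le_cent_elem_two a)).of_compl_compl

/-- BG 12.10 (d) -/
theorem Mx.norm_le_of_not_cyc (m : Mx M) (hp : p ∈ 𝛔 M) (k : PiGrp {p} P) (hP : P ≤ M)
    (c : ¬ Cyc P) : 𝐍 P ≤ M := by
  obtain ⟨A, a⟩ := k.exists_elem_two (m.odd' hP) c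
  rw [← m.sigma_norm_eq hp k (ne_bot_mono a.ne_bot a.le) hP]
  exact sup_le inf_le_left ((cent_anti a.le).trans (m.cent_elem_two_le (a.mono hP)))

/-- BG 12.10 (e) -/
theorem Mx.tau2_uniqIn1 (m : Mx M) (hx : x ∈ M) (x1 : x ≠ 1) (k : PiElt (𝛕₂ M) x)
    (c : Mσ M ⊓ 𝐂₁ x ≠ ⊥) : UniqIn (𝐂₁ x) M := by
  obtain ⟨p, hp, d⟩ := exists_prime_dvd_card (ne_bot_of_mem (mem_zpowers x) x1)
  have t := k.zpowers p hp d
  obtain ⟨H, hH, l⟩ := m.sol.exists_hall_le (zpowers_le.mpr hx) k.zpowers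
  obtain ⟨A, a⟩ := exists_elem (H := H) (by rw [hH.pRank_eq t, tau2_pRank t])
  exact m.tau2_uniqIn_of_le t (a.mono hH.le) (le_cent1_iff.mpr
    ((m.abel_of_tau2 hH.le hH.pi).cent l a.le (mem_zpowers x))) (cent1_proper x1 (elt_of_Ms_cent1 c)) c

/-- BG 12.11 (a) -/
theorem Mx.tau2_sub_sigma (m : Mx M) (hp : p ∈ 𝛕₂ M) (a : Elem p 2 A M) (h : Mx H) (n : 𝐍 A ≤ H)
    (hq : q ∈ 𝛕₂ M) : q ∈ 𝛔 H ∧ q ∉ 𝛃 H := by
  refine ⟨by_contra fun s => ?_, not_beta_of_not_idl (m.tau2_not_idl hq)⟩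
  obtain ⟨K, hK, l⟩ := m.sol.exists_hall_le a.le (a.pi.of_single hp)
  obtain ⟨B, b⟩ := exists_elem (H := K) (by rw [hK.pRank_eq hq, tau2_pRank hq])
  have c : B ≤ 𝐂 A := (m.abel_of_tau2 hK.le hK.pi).cent b.le l
  have bH : B ≤ H := c.trans ((cent_le_norm A).trans n)
  obtain ⟨F, f, lF⟩ := h.exists_sigE bH (b.pi.of_single' s)
  have aF := a.of_le ((cent_symm c).trans (f.cent_elem_two_le (b.of_le lF)))
  exact h.tau2_norm_not_le (f.tau2_of_elem aF) (aF.mono f.le) n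

theorem _root_.CF.BG.NPC.cent_of_leV (h : NPC p N) (n : N ⊴ H) (hA : A ≤ H) (k : PiGrp {p} A) (hQ : Q ≤ N)
    (k' : PiGrp {p}ᶜ Q) (nA : Q ≤ 𝐍 A) : Q ≤ 𝐂 A :=
  comm_eq_bot.mp (eq_bot_mono (k.inf_eq_bot (O_pi {p}ᶜ N)) (le_inf (comm_le_right nA)
    ((commutator_mono (h.le_O hQ k') hA).trans (comm_le_left (n.O _).norm))))

/-- BG 12.11 (b) -/
theorem SigE.pi_qt_cent (h : SigE M E) (a : Elem p 2 A E) (k : Mx H) (n : 𝐍 A ≤ H) :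
    PiNat (𝛕₁ H ∪ 𝛕₂ H) ((𝐂 A).relIndex E) := by
  intro q hq d
  have t := h.tau2_of_elem a
  have nA := (h.elem_two_normal a).norm
  have qp : q ≠ p := fun e => tau1_not_tau2 (h.tau1_cent_elem_two a q hq d) (e ▸ t)
  obtain ⟨Q, s⟩ := exists_syl q E
  have l : Q ≤ H := s.le.trans (nA.trans n)
  have nd : ¬ Q ≤ ⁅H, H⁆ := fun l' => s.idx_of_le ((k.npc_der (not_beta_of_not_idl
    (h.mx.tau2_not_idl t))).cent_of_leV (der_normal H) ((le_norm_self A).trans n) a.pi l'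
      (s.pi.of_single_ne qp) (s.le.trans nA)) q hq d rfl
  rcases k.partition_pi hq (((d.trans (relIndex_dvd_card _ _)).trans (card_dvd (nA.trans n))))
    with s' | s' | s' | s'
  · exact absurd ((k.le_Ms' l s.pi s').trans k.Ms_le_der) nd
  · exact Or.inl s'
  · exact Or.inr s'
  · exact absurd (tau3_le_der l (s.pi.of_single s')) nd

/-- BG 12.11 (c) -/
theorem SigE.pi_qt_cent_cent (h : SigE M E) (a : Elem p 2 A E) (k : Mx H) (n : 𝐍 A ≤ H)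
    (hq : q.Prime) (d : q ∣ (𝐂 A).relIndex E) (d' : q ∣ ♯(𝐂 A)) :
    q ∈ 𝛕₂ H ∧ (∃ P, Syl p P ⊤ ∧ P ⊴ H) ∧ ∃ Q, Syl q Q ⊤ ∧ Q ≤ H ∧ Abel Q := by
  have t := h.tau2_of_elem a
  have nA := (h.elem_two_normal a).norm
  have t1 := h.tau1_cent_elem_two a q hq d
  have qp : q ≠ p := fun e => tau1_not_tau2 t1 (e ▸ t)
  obtain ⟨Q₀, x⟩ := exists_elem_one hq d'
  obtain ⟨Q, s, l0⟩ := exists_syl_le (x.le.trans (h.cent_elem_two_le a)) x.pi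
  have cy : Cyc Q := cyc_of_tau13 (s.le.trans h.le) s.pi (Or.inl t1)
  have nc : ¬ Q ≤ 𝐂 A := fun c => s.idx_of_le c q hq d rfl
  have wq : q ∈ 𝛡 G := x.w_of_le ((a.pw (h.w2 a)).cent a.ne_bot)
  obtain ⟨L, mL, nL⟩ := exists_mx_norm x.ne_bot (x.pw wq)
  have lQ : Q ≤ L := (cy.abel.le_norm l0).trans nL
  have lA : A ≤ L := (norm_of_cent' x.le).trans nL
  have tq : q ∈ 𝛕₂ L := (mL.sigma_or_tau2 x.pi nL wq).resolve_left fun s' => nc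
    ((mL.npc_der (not_beta_of_not_idl (h.mx.tau2_not_idl t))).cent_of_leV (der_normal L) lA a.pi
      ((mL.le_Ms' lQ s.pi s').trans mL.Ms_le_der) (s.pi.of_single_ne qp) (s.le.trans nA))
  have sp : p ∈ 𝛔 L := by_contra fun s' => nc ((mL.abel_of_tau2 (sup_le lA lQ)
    ((a.pi.of_single (mL.tau2_of_elem s' (a.of_le lA))).sup (s.pi.of_single tq)
      (Or.inr (s.le.trans nA)))).cent le_sup_right le_sup_left)
  have ni := mL.tau2_nil tq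
  obtain rfl : H = L := by_contra fun ne => mL.sigma_not_sigma_of_nil k
    (mL.not_conj_of_norm k a.pi lA n (Or.inl ⟨sp, ne⟩) (h.w2 a)) ni sp
    (h.mx.tau2_sub_sigma t (a.mono h.le) k n t).1
  refine ⟨tq, ⟨_, ((ni.hall_O {p}).syl_trans k.hall_Ms sp).syl_top_of_sigmaV sp,
    (O_normal _ H).O _⟩, ?_⟩
  obtain ⟨T, sT, lT⟩ := exists_syl_le le_top x.pi
  have ab : Abel T := by_contra fun na => by
    obtain ⟨F, f, lF⟩ := k.exists_sigE lQ (s.pi.of_single' (tau2_sigma' tq))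
    obtain ⟨B, b⟩ := f.exists_elem_two tq
    obtain ⟨-, -, -, hX, F₀, d0, -⟩ := f.nonabel_tau2 b sT.pi na
    have e : Q₀ = B ⊓ 𝐂 (Mσ H) := by_contra fun e =>
      (hX Q₀ (x.of_le (l0.trans lF)) e).2 ((cent_le_norm _).trans nL)
    rw [← e] at d0
    exact nc (cy.eq_of_complV s.pi (x.of_le l0) d0 lF ▸ x.le)
  exact ⟨T, sT, (ab.le_norm lT).trans nL, ab⟩

end CF.BG.Vp
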