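import Cfsg.Agent.Vp.S12
/-
BG section 12, second part (12.13 - 12.19).
-/
set_option autoImplicit false
set_option linter.unusedSectionVars false

namespace CF.BG.Vp
open Subgroup
open scoped commutatorElement Pointwise

variable {G : Type*} [Group G] [Finite G] [MSO G]
variable {A A₀ A₁ B C D E E₁ E₂ E₃ H K L M N P Q R S T U V W X Y Z : Subgroup G} {p q r : ℕ}
variable {π : Set ℕ} {x y g : G}

theorem Mx.sigma_of_not_abel (m : Mx M) (hP : P ≤ M) (k : PiGrp {p} P) (na : ¬ Abel P) :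
    p ∈ 𝛔 M := by_contra fun s => na (m.abel_of_sigma' s hP k)

theorem le_of_cent_center (k : PiGrp {p} S) (na : ¬ Abel S) (l : logn p (♯S) = 3)
    (e : ∀ x ∈ S, x ^ p = 1) (n : S ≤ 𝐍 K) (k' : PiGrp {p}ᶜ K) (h : Mx H) (lS : S ≤ H) :
    K ⊓ 𝐂 (𝐙 S) ≤ H := by
  obtain ⟨z, l2, d⟩ := k.center_facts na l
  have nZ := center_normal S
  have b : Elem p 2 (qt (𝐙 S) S) ⊤ := ⟨le_top, (k.abelem_qt_iff nZ.norm).mpr
    (k.Phi_le_iff.mpr ⟨d.le, fun x hx => e x hx ▸ one_mem _⟩), l2⟩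
  have n' : S ≤ 𝐍 (K ⊓ 𝐂 (𝐙 S)) := norm_inf_cent n nZ.norm
  rw [← qt_le_qt_iff' (norm_of_cent inf_le_right) (z.le.trans lS)]
  refine b.le_of_cent (qt_norm _ n') (k'.inf_left.qt _) fun B b' => ?_
  have lB : qp (𝐙 S) B ≤ S := qp_le_of_le_qt nZ b'.le
  have c : ♯(qp (𝐙 S) B) = p ^ 2 := by rw [card_qp, z.card_one, b'.card_one, sq]
  have kB := k.le lB
  have a : Elem p 2 (qp (𝐙 S) B) H := elem_of_card z.prime (lB.trans lS) ⟨kB,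
    kB.abel_of_logn (by rw [c, logn_pow z.prime]), fun x hx => e x (lB hx)⟩ c
  rw [← qt_qp B, ← qt_inf_cent (qp_le_norm B) (lB.trans n')
    (kB.coprime k'.inf_left.inf_left) (Or.inl kB.sol)]
  exact qt_mono _ (inf_le_right.trans (h.cent_elem_two_le a))

theorem Mx.nonabel_aux (m : Mx M) (h : Mx H) (ne : H ≠ M) (hP : Syl p P ⊤) (nM : 𝐍 P ≤ M)
    (nH : 𝐍 P ≤ H) (r : pRank p P ≤ 2) (lS : S ≤ P) (na : ¬ Abel S) (l : logn p (♯S) = 3)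
    (e : ∀ x ∈ S, x ^ p = 1) (a : Elem p 2 A M) :
    ∃ X, Elem p 1 X A ∧ X ≠ 𝐙 S ∧ UniqIn (𝐍 X) M := by
  obtain ⟨h1, h2⟩ := m.Mb_sup_inf h ne hP nH nM (m.w_of_elem a)
  have lM : P ≤ M := (le_norm_self P).trans nM
  have lH : P ≤ H := (le_norm_self P).trans nH
  have kb : PiGrp {p}ᶜ (Mβ M) := (O_pi _ M).to_compl_single fun b => by
    have := mem_alpha.mp (beta_sub_alpha M b)
    rw [← (hP.of_le lM le_top).syl_pRank] at this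
    omega
  have k := hP.pi.le lS
  by_contra hn
  push Not at hn
  have e1 := (m.of_forall_not_uniqIn a fun X x u => ?_).2.1
  · rw [← h2, e1, bot_sup_eq] at h1
    exact ne (m.eq h (h1.ge.trans inf_le_left)).symm
  refine hn X x ?_ u
  rintro rfl
  have := inf_norm_of_coprime (O_normal _ M) h1 (inf_le_left.trans (lS.trans (le_inf lH lM)))
    (x.pi.coprime kb) (Or.inl x.pi.sol)
  rw [inf_eq_right.mpr u.le] at this
  exact ne (u.uniq H h (this.ge.trans (sup_le (le_of_cent_center k na l e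
    (lS.trans (lM.trans (O_normal _ M).norm)) kb h (lS.trans lH)) (inf_le_left.trans inf_le_left))))

/-- BG 12.13 -/
theorem _root_.CF.BG.PiGrp.uniq_of_not_abelV (k : PiGrp {p} P) (na : ¬ Abel P) (w : p ∈ 𝛡 G) : Uniq P := by
  by_contra u
  obtain ⟨P, -, ⟨k, na, u⟩, mx⟩ :=
    exists_maximal (P := fun P : Subgroup G => PiGrp {p} P ∧ ¬ Abel P ∧ ¬ Uniq P) ⟨k, na, u⟩
  obtain ⟨M, m, lM⟩ := exists_mx (k.properV w)
  obtain ⟨H, h, lH, ne⟩ := exists_ne_of_not_uniqIn m lM fun v => u v.toUniq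
  have nL : ∀ L, Mx L → P ≤ L → 𝐍 P ≤ L := fun L mL l =>
    mL.norm_le_of_not_cyc (mL.sigma_of_not_abel l k na) k l fun c => na c.abel
  have nM := nL M m lM
  have nH := nL H h lH
  have s : Syl p P ⊤ := syl_of_syl_norm le_top (syl_of_max (le_inf le_top (le_norm_self P)) k
    fun Q lQ kQ l => mx Q ⟨kQ, fun ab => na (ab.mono l), fun v => ne
      (v.eq h (lQ.trans (inf_le_right.trans nH)) m (lQ.trans (inf_le_right.trans nM)))⟩ l)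
  have r : pRank p P ≤ 2 := not_lt.mp fun r => u (uniq_of_pRank3 (k.properV w) r)
  obtain ⟨S, C, e, c, naS, l3, ex, cy, eZ⟩ := s.cprod_of_rank2V r na w
  have lS : S ≤ P := e ▸ le_sup_left
  obtain ⟨A, a⟩ := k.exists_elem_two (k.oddV w) fun c => na c.abel
  obtain ⟨X, x, nX, uX⟩ := m.nonabel_aux h ne s nM nH r lS naS l3 ex (a.mono lM)
  obtain ⟨Y, y, nY, uY⟩ := h.nonabel_aux m ne.symm s nH nM r lS naS l3 ex (a.mono lH)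
  obtain ⟨z, -, tr⟩ := (a.top.max_of_pRank (s.syl_pRank ▸ r)).structV a k na w
  obtain ⟨z', -⟩ := (k.le lS).center_facts naS l3
  have eZ' : 𝐙 S = 𝛀 p (𝐙 P) := z'.eq_of_le z (Elem.le_Om (z'.of_le (le_inf (z'.le.trans lS) (by
    rw [← e]
    exact le_cent_sup inf_le_right (eZ ▸ (Om_le p C).trans cy.abel)))))
  obtain ⟨g, hg, rfl⟩ := tr X Y x (eZ' ▸ nX) y (eZ' ▸ nY)
  have := uX.cj g
  rw [cj_norm, cj_of_mem (lM hg.1)] at this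
  exact ne (uY.eq this)

theorem Mx.uniq_cent_der (m : Mx M) (x : Elem p 1 X M) (h : p ∈ 𝛃 M ∨ X ≤ ⁅Mσ M, Mσ M⁆)
    (s : p ∈ 𝛔 M) (hP : Syl p P (Mσ M)) (l : X ≤ P) : Uniq (P ⊓ 𝐂 X) := by
  by_contra u
  have w := w_of_sigma s
  have r : pRank p (P ⊓ 𝐂 X) ≤ 2 := not_lt.mp fun r => u (uniq_of_pRank3 (hP.pi.inf_left.properV w) r)
  have sM := hP.syl_trans m.hall_Ms s
  have sG := sM.syl_top_of_sigmaV s
  have nr : Narrow p P := fun r' =>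
    (hP.pi.narrow_iff (hP.pi.oddV w) r').mpr ⟨X, x.of_le l, r⟩ r'
  have b : p ∉ 𝛃 M := fun b => (idl_iff sG).mp (idl_of_beta b) nr
  have d : X ≤ ⁅P, P⁆ := (le_inf l (h.resolve_left b)).trans ((m.npc_Ms b).inf_der_le hP)
  have na : ¬ Abel P := fun ab => x.ne_bot (eq_bot_mono (der_eq_bot.mpr ab) d)
  by_cases r' : 2 < pRank p P
  · obtain ⟨-, T, -, -, -, -, k⟩ := nr.struct hP.pi (hP.pi.oddV w) r'
    exact x.ne_bot (eq_bot_mono (k X (x.of_le l) r).2.1 (le_inf le_rfl d))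
  obtain ⟨S, C, e, c, naS, l3, -, cy, eZ⟩ := sG.cprod_of_rank2V (not_lt.mp r') na w
  obtain ⟨-, -, d'⟩ := (hP.pi.le (e ▸ le_sup_left : S ≤ P)).center_facts naS l3
  have cP : C ≤ 𝐂 P := e ▸ le_cent_sup c cy.abel
  have : ⁅P, P⁆ ≤ C := by
    have n : P ≤ 𝐍 C := norm_of_cent' cP
    rw [← abel_qt_iff n, ← e, qt_sup_right (le_sup_left.trans (e ▸ n)),
      abel_qt_iff (le_sup_left.trans (e ▸ n)), d', ← eZ]
    exact Om_le p C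
  rw [inf_eq_left.mpr (cent_symm (d.trans (this.trans cP)))] at u
  exact u (hP.pi.uniq_of_not_abelV na w)

/-- BG 12.14 -/
theorem Mx.uniqIn_cent_der (m : Mx M) (x : Elem p 1 X M) (h : p ∈ 𝛃 M ∨ X ≤ ⁅Mσ M, Mσ M⁆) :
    UniqIn (𝐂 X) M ∧ ∀ P, Syl p P (Mσ M) → UniqIn P M := by
  have s : p ∈ 𝛔 M := h.elim (fun b => m.beta_sub_sigma b) fun l =>
    (x.of_le (l.trans (der_le _))).mem_of_pi (O_pi _ M)
  obtain ⟨P, hP, l⟩ := exists_syl_le (m.le_Ms' x.le x.pi s) x.pi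
  have lP := hP.le.trans (O_le _ M)
  have u := (m.uniq_cent_der x h s hP l).uniqIn m (inf_le_left.trans lP)
  refine ⟨u.mono inf_le_right (cent_proper x.ne_bot (x.pw (w_of_sigma s))), fun Q hQ => ?_⟩
  obtain ⟨g, hg, rfl⟩ := hP.syl_conj hQ
  have := (u.of_le inf_le_left lP).cj g
  rwa [cj_of_mem (O_le _ M hg)] at this

/-- BG 12.15 (a), (b), (c) -/
theorem Mx.sigma_embed (m : Mx M) (hq : q ∈ 𝛔 M) (hX : X ≤ M) (k : PiGrp {q} X) (h : Mx H)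
    (n : 𝐍 X ≤ H) (ne : H ≠ M) (hS : Syl q S (M ⊓ H)) (l : X ≤ S) :
    ¬ Conj M H ∧ 𝐍 S ≤ M ∧ Syl q S H := by
  have nS : 𝐍 S ≤ M := by
    by_cases c : Cyc S
    · exact (hS.syl_of_inf_norm ((c.norm_le l).trans n)).norm_le_of_sigmaV hq
    · exact m.norm_le_of_not_cyc hq hS.pi (hS.le.trans inf_le_left) c
  exact ⟨m.not_conj_of_norm h k hX n (Or.inl ⟨hq, ne⟩) (w_of_sigma hq), nS,
    Hall.syl_of_inf_norm (inf_comm M H ▸ hS) nS⟩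

/-- BG 12.15 (d) -/
theorem Mx.sigma_embed_sigma (m : Mx M) (hq : q ∈ 𝛔 M) (hX : X ≤ M) (k : PiGrp {q} X) (h : Mx H)
    (n : 𝐍 X ≤ H) (ne : H ≠ M) (hq' : q ∈ 𝛔 H) :
    Mβ H ⊔ (M ⊓ H) = H ∧ 𝛕₁ H ⊆ 𝛕₁ M ∪ 𝛂 M ∧ Mβ M = Mα M ∧ Mα M ≠ ⊥ := by
  obtain ⟨S, s, l⟩ := exists_syl_le (le_inf hX ((le_norm_self X).trans n)) k
  obtain ⟨-, nM, sH⟩ := m.sigma_embed hq hX k h n ne s l
  have sG := sH.syl_top_of_sigmaV hq'
  have nH := sH.norm_le_of_sigmaV hq'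
  obtain ⟨h1, h2⟩ := m.Mb_sup_inf h ne sG nH nM (w_of_sigma hq)
  obtain ⟨h3, -⟩ := h.Mb_sup_inf m ne.symm sG nM nH (w_of_sigma hq)
  refine ⟨h3, fun r t => or_iff_not_imp_right.mpr fun a => ?_, by rw [h2], fun e => ?_⟩
  · obtain ⟨R, sR⟩ := exists_syl r (M ⊓ H)
    have kM : PiGrp {r}ᶜ (Mβ M) := (O_pi _ M).to_compl_single (h2 ▸ a)
    have sRH := sR.of_sup_normal (O_normal _ H) h3
      ((O_pi _ H).to_compl_single fun b => tau1_sigma' t (h.beta_sub_sigma b))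
    rw [inf_comm] at sR
    have sRM := sR.of_sup_normal (O_normal _ M) h1 kM
    have r1 : pRank r M = 1 := by rw [← sRM.syl_pRank, sRH.syl_pRank, tau1_pRank t]
    have hr : r.Prime := prime_of_pRank_pos (r1 ▸ one_pos)
    have i : R ⊓ ⁅M, M⁆ = ⊥ := by
      rw [inf_der_of_coprime (O_normal _ M) h1 sR.le (sR.pi.coprime kM)]
      exact eq_bot_mono (tau1_inf_der (sR.pi.of_single t)) (inf_le_inf_left _ (der_mono inf_le_left))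
    have nd : ¬ r ∣ ♯⁅M, M⁆ := ((sRM.inf_normal (der_normal M)).syl_eq_bot_iff hr).mp i
    exact mem_tau1.mpr ⟨fun s => nd (((m.dvd_Ms_iff hr).mpr s).trans (card_dvd m.Ms_le_der)), r1, nd⟩
  · rw [← h2, e, bot_sup_eq] at h1
    exact ne (m.eq h (h1.ge.trans inf_le_left)).symm

/-- BG 12.15 (e) -/
theorem Mx.sigma_embed_tau2 (m : Mx M) (hq : q ∈ 𝛔 M) (hX : X ≤ M) (k : PiGrp {q} X) (h : Mx H)
    (n : 𝐍 X ≤ H) (ne : H ≠ M) (hq' : q ∉ 𝛔 H) :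
    q ∈ 𝛕₂ H ∧ (∀ p, p ∣ ♯M → p ∈ 𝛔 H → p ∈ 𝛃 H) ∧ SigE H (M ⊓ H) := by
  obtain ⟨S, s, l⟩ := exists_syl_le (le_inf hX ((le_norm_self X).trans n)) k
  obtain ⟨-, nM, sH⟩ := m.sigma_embed hq hX k h n ne s l
  have t := (h.sigma_or_tau2 k n (w_of_sigma hq)).resolve_left hq'
  obtain ⟨A, a⟩ := exists_elem (H := S) (by rw [sH.syl_pRank, tau2_pRank t])
  have aM : A ≤ M := a.le.trans (s.le.trans inf_le_left)
  have aH := a.mono sH.le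
  obtain ⟨F, f, lF⟩ := h.exists_sigE aH.le (a.pi.of_single' hq')
  have aF := a.of_le lF
  have nA := m.norm_le_of_not_cyc hq a.pi aM a.not_cyc
  have e : M ⊓ H = F := by
    have := (f.sdprod.inf_of_right_le ((f.elem_two_normal aF).norm.trans nA)).sup
    rw [h.tau2_inf t aH m aM ne.symm, bot_sup_eq] at this
    rw [inf_comm, ← this]
  refine ⟨t, fun p d sp => by_contra fun b => ?_, e ▸ f⟩
  have hp := prime_of_sigma sp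
  have ip : ¬ Idl G p := fun i => b (h.mem_beta_iff.mpr ⟨sp, i⟩)
  have iq := h.tau2_not_idl t
  have nd : ¬ p ∣ ♯(𝐂 A) := (f.pi.le (f.cent_elem_two_le aF)).not_dvd' hp sp
  rcases lt_trichotomy p q with lt | rfl | lt
  · obtain ⟨⟨P, sP, c⟩, -⟩ := h.beta'_cent_syl b (not_beta_of_not_idl iq) a.pi (Or.inr ⟨lt, aH.le⟩)
    exact nd ((sP.prime_dvd hp rfl ((h.dvd_Ms_iff hp).mpr sp)).trans (card_dvd (cent_symm c)))
  · exact hq' sp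
  · obtain ⟨Y, y⟩ := exists_elem_one hp d
    obtain ⟨⟨Q, sQ, c⟩, -⟩ := m.beta'_cent_syl (not_beta_of_not_idl iq) (not_beta_of_not_idl ip)
      y.pi (Or.inr ⟨lt, y.le⟩)
    obtain ⟨g, -, lg⟩ := sQ.syl_le_cj (m.le_Ms' aM a.pi hq) a.pi
    exact nd ((y.cj g).dvd.trans (card_dvd ((cj_cent_iff.mpr c).trans (cent_anti lg))))

theorem Mx.proper_of_sigma (m : Mx M) (k : PiGrp (𝛔 M) Y) : Pr Y := (pw_of_sigma k).pr

theorem Mx.sigma_aux (m : Mx M) (hq : q ∈ 𝛔 M) (hX : X ≤ M) (k : PiGrp {q} X) (h : Mx L)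
    (n : 𝐍 X ≤ L) (ne : L ≠ M) : ¬ Conj M L ∧ ∃ K, K ⊴ L ∧ K ⊔ (M ⊓ L) = L ∧ PiGrp (𝛔 M)ᶜ K ∧
      ∀ p, p ∣ ♯M → ¬ Idl G p → PiGrp {p}ᶜ K := by
  have nc := m.not_conj_of_norm h k hX n (Or.inl ⟨hq, ne⟩) (w_of_sigma hq)
  refine ⟨nc, ?_⟩
  by_cases s : q ∈ 𝛔 L
  · exact ⟨_, O_normal _ L, (m.sigma_embed_sigma hq hX k h n ne s).1, (O_pi _ L).mono fun p b =>
      h.alpha_not_sigma m (fun c => nc c.symm) (beta_sub_alpha L b),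
      fun p _ i => (O_pi _ L).to_compl_single (not_beta_of_not_idl i)⟩
  · obtain ⟨t, b, f⟩ := m.sigma_embed_tau2 hq hX k h n ne s
    exact ⟨_, O_normal _ L, f.sdprod.sup, (O_pi _ L).mono fun p =>
      h.sigma_not_sigma_of_nil m (fun c => nc c.symm) (h.tau2_nil t),
      fun p d i => (O_pi _ L).to_compl_single fun s => not_beta_of_not_idl i (b p d s)⟩

theorem Mx.exists_sigma_O (m : Mx M) (k : PiGrp (𝛔 M) Y) (y1 : Y ≠ ⊥) :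
    ∃ q g, q ∈ 𝛔 M ∧ 𝐎 {q} Y ≠ ⊥ ∧ 𝐎 {q} Y ≤ Mσ (BG.cj g M) := by
  obtain ⟨q, -, o1⟩ := (mSol (m.proper_of_sigma k)).exists_O_ne_bot y1
  have s : q ∈ 𝛔 M := (O_pi _ Y).mem_of_ne_bot o1 (k.le (O_le _ Y))
  obtain ⟨Q, sQ⟩ := exists_syl q (Mσ M)
  obtain ⟨g, -, l⟩ := (sQ.syl_trans m.hall_Ms_top s).syl_le_cj le_top (O_pi {q} Y)
  exact ⟨q, g, s, o1, l.trans (cj_Ms g M ▸ cj_mono g sQ.le)⟩

/-- BG 12.16 (a) -/
theorem Mx.exists_cj_le_Ms (m : Mx M) (k : PiGrp (𝛔 M) Y) : ∃ g, BG.cj g Y ≤ Mσ M := by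
  by_cases y1 : Y = ⊥
  · exact ⟨1, by simp [y1]⟩
  obtain ⟨q, g, s, o1, l⟩ := m.exists_sigma_O k y1
  suffices ∃ u, BG.cj u Y ≤ Mσ (BG.cj g M) by
    obtain ⟨u, hu⟩ := this
    exact ⟨g⁻¹ * u, by rwa [← cj_Ms, le_cj_iff, cj_cj] at hu⟩
  rw [← sigma_cj g] at s k
  replace m := m.cj g
  generalize BG.cj g M = M at m s k l
  obtain ⟨L, mL, n⟩ := exists_mx_norm o1 ((O_pi _ Y).pw (w_of_sigma s))
  have lY : Y ≤ L := (O_normal _ Y).norm.trans n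
  by_cases e : L = M
  · exact ⟨1, by rw [cj_one]; exact m.le_Ms (e ▸ lY) k⟩
  obtain ⟨-, K, nK, eK, kK, -⟩ := m.sigma_aux s (l.trans (O_le _ M)) (O_pi _ Y) mL n e
  obtain ⟨H, hH⟩ := (m.sol' (inf_le_left : M ⊓ L ≤ M)).exists_hall (𝛔 M)
  obtain ⟨u, -, lu⟩ := (hH.of_sup_normal nK eK kK).cj_le mL.sol lY k
  exact ⟨u, lu.trans (m.le_Ms (hH.le.trans inf_le_left) hH.pi)⟩

/-- BG 12.16 (b) -/
theorem Mx.sigma_norm_facts (m : Mx M) (k : PiGrp (𝛔 M) Y) (y1 : Y ≠ ⊥) (hp : p ∉ 𝛔 M)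
    (d : p ∣ ♯M) (b : ¬ Idl G p) (h : Mx H) (hY : Y ≤ H) (nc : ¬ Conj M H) :
    pRank p (H ⊓ 𝐍 Y) ≤ 1 ∧ (p ∈ 𝛕₁ M → ¬ p ∣ ♯⁅H ⊓ 𝐍 Y, H ⊓ 𝐍 Y⁆) := by
  obtain ⟨q, g, s, o1, l⟩ := m.exists_sigma_O k y1
  rw [← sigma_cj g] at s k hp
  rw [← card_cj g] at d
  rw [← conj_cj_left (g := g)] at nc
  rw [← tau1_cj g]
  replace m := m.cj g
  generalize BG.cj g M = M at m s k l hp d nc
  have pre : ∀ H, Mx H → Y ≤ H → ¬ Conj M H → pRank p (M ⊓ H) ≤ 1 := fun H h hY nc =>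
    not_lt.mp fun r => by
      obtain ⟨A, a⟩ := exists_elem (n := 2) r
      have aM := a.mono inf_le_left
      exact o1 (eq_bot_mono (m.tau2_inf (m.tau2_of_elem hp aM) aM h (a.le.trans inf_le_right)
        (by rintro rfl; exact nc (Conj.refl _))) (le_inf l ((O_le _ Y).trans hY)))
  obtain ⟨L, mL, n⟩ := exists_mx_norm o1 ((O_pi _ Y).pw (w_of_sigma s))
  have nY : 𝐍 Y ≤ L := (BG.norm_O _ Y).trans n
  by_cases e : L = M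
  · subst e
    exact ⟨(pRank_mono p (le_inf (inf_le_right.trans nY) inf_le_left)).trans (pre H h hY nc),
      fun t d => (mem_tau1.mp t).2.2 (d.trans (card_dvd (der_mono (inf_le_right.trans nY))))⟩
  obtain ⟨nc', K, nK, eK, -, kK⟩ := m.sigma_aux s (l.trans (O_le _ M)) (O_pi _ Y) mL n e
  replace kK := kK p d b
  obtain ⟨P, sP⟩ := exists_syl p (M ⊓ L)
  have sL := sP.of_sup_normal nK eK kK
  refine ⟨(pRank_mono p (inf_le_right.trans nY)).trans ?_, fun t d => ?_⟩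
  · rw [← sL.syl_pRank, sP.syl_pRank]
    exact pre L mL ((le_norm_self Y).trans nY) nc'
  · refine (sL.inf_normal (der_normal L)).syl_ne_bot t.1
      (d.trans (card_dvd (der_mono (inf_le_right.trans nY)))) ?_
    rw [inf_der_of_coprime nK eK sP.le (sP.pi.coprime kK)]
    exact eq_bot_mono (tau1_inf_der (sP.pi.of_single t)) (inf_le_inf_left _ (der_mono inf_le_left))

/-- BG 12.17 -/
theorem SigE.cent_le_der (h : SigE M E) : Mσ M ⊓ 𝐂 E ≤ ⁅Mσ M, Mσ M⁆ ∧ ⁅Mσ M, E⁆ = Mσ M :=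
  (h.sdprod.comm_eq_of_le_der h.coprime.symm (h.mx.sol' (O_le _ M)) h.mx.Ms_le_der).symm

/-- BG 12.17 -/
theorem Mx.Ms_inf_cj (m : Mx M) (hg : g ∉ M) :
    Cyc (Mσ M ⊓ BG.cj g M) ∧ PiGrp (𝛃 M)ᶜ (Mσ M ⊓ BG.cj g M) ∧
      Mσ M ⊓ BG.cj g M ⊓ ⁅Mσ M, Mσ M⁆ = ⊥ := by
  have key : ∀ p n X, Elem p (n + 1) X (Mσ M ⊓ BG.cj g M) → ¬ 𝐂 X ≤ M := fun p n X x c =>
    hg (inv_mem_iff.mp (m.sigma_tame (x.mem_of_pi (O_pi _ M).inf_left) x.pi x.ne_bot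
      (x.le.trans (inf_le_left.trans (O_le _ M))) c (le_cj_iff.mp (x.le.trans inf_le_right))))
  have lM : Mσ M ⊓ BG.cj g M ≤ M := inf_le_left.trans (O_le _ M)
  have i : Mσ M ⊓ BG.cj g M ⊓ ⁅Mσ M, Mσ M⁆ = ⊥ := by_contra fun e => by
    obtain ⟨p, X, x⟩ := exists_prime_elem_one e
    exact key p 0 X (x.mono inf_le_left) (m.uniqIn_cent_der (x.mono (inf_le_left.trans lM))
      (Or.inr (x.le.trans inf_le_right))).1.le
  refine ⟨(der_eq_bot.mp (eq_bot_mono i (le_inf (der_le _) (der_mono inf_le_left)))).cyc_iff.mpr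
    (not_lt.mp fun r => ?_), fun p hp d b => ?_, i⟩
  · obtain ⟨p, A, -, a⟩ := exists_elem_of_le_rank (n := 2) r
    exact key p 1 A a (m.cent_elem_two_le (a.mono lM))
  · obtain ⟨X, x⟩ := exists_elem_one hp d
    exact key p 0 X x (m.uniqIn_cent_der (x.mono lM) (Or.inl b)).1.le

theorem Mx.uniqIn_norm_of_uniq (m : Mx M) (u : Uniq (M ⊓ 𝐂 X)) (x1 : X ≠ ⊥) (t : Pw X) :
    UniqIn (𝐍 X) M :=
  (u.uniqIn m inf_le_left).mono (inf_le_right.trans (cent_le_norm X)) (norm_proper x1 t)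

/-- BG 12.18 (a) -/
theorem Mx.cent_Ma_tau1 (m : Mx M) (hp : p ∈ 𝛕₁ M) (a : Elem p 1 P M) (q1 : Q ≠ ⊥)
    (n : P ≤ 𝐍 Q) (c : Q ⊓ 𝐂 P = ⊥) (u : ¬ UniqIn (𝐍 Q) M) (a1 : Mα M ≠ ⊥) (hq : q ∉ 𝛂 M)
    (k : PiGrp {q} Q) (hQ : Q ≤ M) : Mα M ⊓ 𝐂 P ≠ ⊥ ∧ Mα M ⊓ 𝐂 (P ⊔ Q) = ⊥ := by
  have ap : p ∉ 𝛂 M := fun b => tau1_sigma' hp (m.alpha_sub_sigma b)
  have kP := a.pi.of_single' ap
  have kQ := k.of_single' hq
  have rQ : rank (Mα M ⊓ 𝐂 Q) ≤ 1 := not_lt.mp fun r =>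
    u (m.uniqIn_norm_of_uniq (m.uniq_cent_alpha' hQ kQ r) q1
      (m.pw_Ma.of_inf_cent (rank_pos.mp (by omega))))
  have rP : rank (Mα M ⊓ 𝐂 P) ≤ 1 := not_lt.mp fun r =>
    have w : Pw P := m.pw_Ma.of_inf_cent (rank_pos.mp (by omega))
    (m.sigma_or_tau2 a.pi (m.uniqIn_norm_of_uniq (m.uniq_cent_alpha' a.le kP r) a.ne_bot
      w).le (a.w_of w)).elim (tau1_sigma' hp) (tau1_not_tau2 hp)
  have rg : Reg Q P := a.reg c
  have nM := (O_normal (𝛂 M) M).norm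
  have fpf : ∀ V, V ≤ Mα M → P ≤ 𝐍 V → Q ≤ 𝐍 V → V ⊓ 𝐂 P = ⊥ → Q ≤ 𝐂 V := fun V l nP nQ e =>
    rg.cent_of_fpf n (m.sol' (l.trans (O_le _ M))) nP nQ (kQ.coprime' ((O_pi _ M).le l))
      (kP.coprime' ((O_pi _ M).le l)) e
  refine ⟨fun e => a1 (m.Ma_eq_bot ?_), by_contra fun e => ?_⟩
  · rw [inf_eq_left.mpr (cent_symm (fpf _ le_rfl (a.le.trans nM) (hQ.trans nM) e))] at rQ
    omega
  obtain ⟨r, R₀, x⟩ := exists_prime_elem_one e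
  have ar : r ∈ 𝛂 M := x.mem_of_pi (O_pi _ M).inf_left
  have c0 : R₀ ≤ 𝐂 (P ⊔ Q) := x.le.trans inf_le_right
  have kPQ : PiGrp (𝛂 M)ᶜ (P ⊔ Q) := kP.sup kQ (Or.inl n)
  obtain ⟨R, sR, nR, l0⟩ := exists_syl_inv_le ((sup_le a.le hQ).trans nM) (kPQ.coprime' (O_pi _ M))
    (Or.inl (m.sol' (sup_le a.le hQ))) (x.le.trans inf_le_left) x.pi (norm_of_cent' c0)
  have om : ∀ Y, Y ≤ P ⊔ Q → rank (Mα M ⊓ 𝐂 Y) ≤ 1 → R₀ = 𝛀 r (R ⊓ 𝐂 Y) := fun Y l rY =>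
    (sR.pi.inf_left.mcycV ((pRank_le_rank _ _).trans ((rank_mono
      (inf_le_inf_right _ sR.le)).trans rY)) (sR.pi.inf_left.properV (m.w_of_alpha ar))).eq_Om (x.of_le (le_inf l0 (c0.trans (cent_anti l))))
  have oP := om P le_sup_left rP
  have oQ := om Q le_sup_right rQ
  obtain ⟨R₁, l1, -, n1, -, e1, c1⟩ := sR.pi.exists_critical (sR.pi.oddV (m.w_of_alpha ar)) (ne_bot_mono x.ne_bot l0)
  have nc : ¬ Q ≤ 𝐂 R₁ := fun c => by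
    have c' := c1 Q (le_sup_right.trans nR) (kQ.coprime' ((O_pi _ M).le sR.le)) c
    have := (pRank_le_rank r _).trans ((rank_mono (le_inf sR.le (cent_symm c'))).trans rQ)
    rw [(sR.syl_trans m.hall_Ma ar).syl_pRank] at this
    have := mem_alpha.mp ar
    omega
  have n1' : P ⊔ Q ≤ 𝐍 R₁ := nR.trans n1
  have le0 : ∀ V Y : Subgroup G, V ≤ R₁ → R₀ = 𝛀 r (R ⊓ 𝐂 Y) → V ⊓ 𝐂 Y ≤ R₀ := fun V Y l e v hv =>
    e ▸ mem_Om ⟨l1 (l hv.1), hv.2⟩ (e1 v (l hv.1))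
  have l01 : R₀ ≤ R₁ := by
    have := eq_of_prime_of_ne_bot x.card_prime (le0 R₁ P le_rfl oP) fun e =>
      nc (fpf R₁ (l1.trans sR.le) (le_sup_left.trans n1') (le_sup_right.trans n1') e)
    exact this.ge.trans inf_le_left
  have n0 : P ⊔ Q ≤ 𝐍 R₀ := norm_of_cent' c0
  have nV : P ⊔ Q ≤ 𝐍 (R₁ ⊓ 𝐍 R₀) := norm_inf n1' (n0.trans (norm_le_norm_norm R₀))
  have lV : R₁ ⊓ 𝐍 R₀ ≤ Mα M := inf_le_left.trans (l1.trans sR.le)
  have kV := (O_pi _ M).le lV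
  have cV : qt R₀ Q ≤ 𝐂 (qt R₀ (R₁ ⊓ 𝐍 R₀)) := (rg.qt n R₀).cent_of_fpf (qt_norm _ n)
    ((m.sol' (lV.trans (O_le _ M))).qt _) (qt_norm _ (le_sup_left.trans nV))
    (qt_norm _ (le_sup_right.trans nV)) (coprime_qt _ (kQ.coprime' kV))
    (coprime_qt _ (kP.coprime' kV)) (by
      rw [← qt_inf_cent (le_sup_left.trans n0) (le_sup_left.trans nV) (kP.coprime' kV.inf_left)
        (Or.inl a.pi.sol)]
      exact qt_of_le (le0 _ P inf_le_left oP))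
  rw [qt_cent_iff (le_sup_right.trans n0) inf_le_right, commutator_comm] at cV
  have cV' := cent_of_stable (kQ.coprime' (x.pi.of_single ar)) cV
    (le_sup_right.trans (cent_symm c0))
  have := (sR.pi.le l1).nil.eq_of_inf_norm_le l01
    ((le_inf le_rfl (cent_symm cV')).trans (le0 _ Q inf_le_left oQ))
  exact nc (this ▸ le_sup_right.trans (cent_symm c0))

/-- BG 12.18 (b) -/
theorem Mx.cent_Ma_tau1_syl (m : Mx M) (hp : p ∈ 𝛕₁ M) (a : Elem p 1 P M) (q1 : Q ≠ ⊥)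
    (n : P ≤ 𝐍 Q) (c : Q ⊓ 𝐂 P = ⊥) (u : ¬ UniqIn (𝐍 Q) M) (hQ : Syl q Q M) :
    𝛂 M = 𝛃 M ∧ Mα M ≠ ⊥ ∧ q ∉ 𝛂 M ∧ Mα M ⊓ 𝐂 P ≠ ⊥ ∧ Mα M ⊓ 𝐂 (P ⊔ Q) = ⊥ := by
  have d : Q ≤ ⁅M, M⁆ := ((a.reg c).comm_eq n a.ne_bot).ge.trans (commutator_mono hQ.le a.le)
  have aq : q ∉ 𝛂 M := fun b => u (((uniq_of_pRank3 (m.proper hQ.le) (hQ.syl_pRank ▸
    mem_alpha.mp b)).uniqIn m hQ.le).mono (le_norm_self Q) (hQ.pi.norm_properV q1 (m.w_of_alpha b)))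
  have a1 : Mα M ≠ ⊥ := fun e => u (m.uniqIn_norm ((der_normal M).char d
    ((m.nil_der_of_Ma e).hall_norm (hQ.of_le d (der_le M)))) q1)
  refine ⟨Set.Subset.antisymm (fun r ar => by_contra fun b => u ?_) (beta_sub_alpha M), a1, aq,
    m.cent_Ma_tau1 hp a q1 n c u a1 aq hQ.pi hQ.le⟩
  obtain ⟨⟨R, sR, cR⟩, k, -⟩ := m.beta'_cent_syl b (fun b' => aq (beta_sub_alpha M b')) hQ.pi
    (Or.inl ⟨fun e => aq (e ▸ ar), d⟩)
  have sr := m.alpha_sub_sigma ar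
  exact m.uniqIn_norm_of_uniq (k ar) q1 ((sR.pi.pw (w_of_sigma sr)).of_cent
    ((sR.syl_trans m.hall_Ms sr).ne_bot_of_sigmaV sr) cR)

/-- BG 12.19 -/
theorem SigE.der_cent_beta' (h : SigE M E) : ∃ H, Hall (𝛃 M)ᶜ H (Mσ M) ∧ ⁅E, E⁆ ≤ 𝐂 H := by
  have k := h.pi.le (der_le E)
  obtain ⟨H, hH, l⟩ := (h.mx.sol' (der_le M)).exists_hall_le (der_mono h.le)
    (k.mono (Set.compl_subset_compl.mpr h.mx.beta_sub_sigma))
  exact ⟨_, hH.inf_normal ((O_normal _ M).of_le h.mx.Ms_le_der (der_le M)),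
    (h.mx.nil_of_beta' hH.le hH.pi).cent_of_coprime l inf_le_left (k.coprime' (O_pi _ M).inf_right)⟩

end CF.BG.Vp
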