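import Cfsg.Agent.Vp.S14a
/-
BG section 14, first part (14.1 - 14.6).
-/
set_option autoImplicit false
set_option linter.unusedSectionVars false

namespace CF.BG.Vp
open Subgroup
open scoped commutatorElement Pointwise

variable {G : Type*} [Group G] [Finite G] [MSO G]
variable {A A₀ A₁ B C D E E₁ E₂ E₃ H K L M N P Q R S T U V W X Y Z : Subgroup G} {p q r : ℕ}
variable {π : Set ℕ} {x y g : G}

theorem SigMx.pi (h : SigMx x M) : PiElt (𝛔 M) x := (O_pi _ M).elt h.mem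

theorem SigMx.w (h : SigMx x M) : PiElt (𝛡 G) x := elt_of_mem_Ms h.mem
theorem Ell1.w (h : Ell1 x) : PiElt (𝛡 G) x := let ⟨_, s⟩ := h.2; s.w

theorem SigMx.mem' (h : SigMx x M) : x ∈ M := O_le _ M h.mem

theorem Mx.sigMx (m : Mx M) (hx : x ∈ M) (k : PiElt (𝛔 M) x) : SigMx x M :=
  ⟨m, m.hall_Ms.mem_normal (O_normal _ M).norm hx k⟩

theorem exists_prime_orderOf (x1 : x ≠ 1) : ∃ p : ℕ, p.Prime ∧ p ∣ orderOf x :=
  Nat.exists_prime_and_dvd (by simpa using x1)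

theorem _root_.CF.BG.Conj.sigma_eqV (h : Conj M H) : 𝛔 H = 𝛔 M := by obtain ⟨g, rfl⟩ := h; exact sigma_cj g M

theorem Mx.sigma_eq_or (m : Mx M) (h : Mx H) : 𝛔 H = 𝛔 M ∨ 𝛔 H ⊆ (𝛔 M)ᶜ :=
  (em (Conj M H)).imp Conj.sigma_eqV fun nc _ a b => m.sigma_partition h nc b a

theorem Mx.conj_of_elt (m : Mx M) (h : Mx H) (x1 : x ≠ 1) (a : PiElt (𝛔 M) x) (b : PiElt (𝛔 H) x) :
    Conj M H :=
  let ⟨p, hp, d⟩ := exists_prime_orderOf x1; m.conj_of_sigma h (a p hp d) (b p hp d)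

theorem SigMx.conj (h : SigMx x M) (k : SigMx x L) (x1 : x ≠ 1) : Conj M L :=
  h.mx.conj_of_elt k.mx x1 h.pi k.pi

theorem SigMany.exists_ne (h : SigMany x) (M : Subgroup G) : ∃ L, SigMx x L ∧ L ≠ M := by
  obtain ⟨A, B, a, b, ne⟩ := h
  by_cases e : A = M
  · exact ⟨B, b, fun e' => ne (e.trans e'.symm)⟩
  · exact ⟨A, a, e⟩

theorem SigMany.ell1 (h : SigMany x) (x1 : x ≠ 1) : Ell1 x := let ⟨_, _, a, _⟩ := h; a.ell1 x1

theorem SigMany.core (h : SigMany x) (x1 : x ≠ 1) : ∃ N, UniqIn (𝐂₁ x) N ∧ PiElt (𝛕₂ N) x ∧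
    Mσ N ⊓ 𝐂₁ x ≠ ⊥ ∧ ∀ M, SigMx x M → (𝛕₂ N ⊆ 𝛔 M ∧ (∀ p, p ∣ ♯M → p ∈ 𝛔 N → p ∈ 𝛃 N) ∧
      SigE N (M ⊓ N)) ∧ ∀ L, SigMx x L → ∃ u ∈ Mσ N ⊓ 𝐂₁ x, L = cj u M := by
  obtain ⟨q, X, e⟩ := exists_prime_elem_one (ne_bot_of_mem (mem_zpowers x) x1)
  obtain ⟨N, n, lN⟩ := exists_mx_norm e.ne_bot ((h.ell1 x1).w.zpowers.le e.le)
  have cN : 𝐂 X ≤ N := (cent_le_norm X).trans lN
  have xN : x ∈ N := cN (cent_anti e.le (cent_zpowers x ▸ self_mem_cent1 x))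
  have lX : ∀ {M}, SigMx x M → X ≤ M := fun s => e.le.trans (zpowers_le.mpr s.mem')
  have qs : ∀ {M}, SigMx x M → q ∈ 𝛔 M := fun s => e.mem_of_pi s.pi.zpowers
  have tr : ∀ {M L}, SigMx x M → SigMx x L → ∃ c ∈ 𝐂 X, L = cj c M := fun {M L} s t => by
    obtain ⟨g, rfl⟩ := s.conj t x1
    simpa using s.mx.sigma_trans_cj (qs s) e.pi e.ne_bot (a := 1) (by simpa using lX s) (lX t)
  have emb : ∀ {M}, SigMx x M →
      q ∈ 𝛕₂ N ∧ (∀ p, p ∣ ♯M → p ∈ 𝛔 N → p ∈ 𝛃 N) ∧ SigE N (M ⊓ N) := fun {M} s => by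
    have ne : N ≠ M := by
      rintro rfl
      obtain ⟨L, t, ne⟩ := h.exists_ne N
      obtain ⟨c, hc, rfl⟩ := tr s t
      exact ne (cj_of_mem (cN hc))
    obtain ⟨S, hS, l⟩ := exists_syl_le (le_inf (lX s) ((le_norm_self X).trans lN)) e.pi
    exact s.mx.sigma_embed_tau2 (qs s) (lX s) e.pi n lN ne (s.mx.sigma_partition n
      (s.mx.sigma_embed (qs s) (lX s) e.pi n lN ne hS l).1 (qs s))
  have tr' : ∀ {M L}, SigMx x M → SigMx x L → ∃ u ∈ Mσ N ⊓ 𝐂₁ x, L = cj u M := fun {M L} s t => by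
    obtain ⟨c, hc, rfl⟩ := tr s t
    have sd := (emb s).2.2.sdprod
    obtain ⟨u, hu, a, ha, rfl⟩ := sd.exists_mul (cN hc)
    rw [← cj_cj, cj_of_mem ha.1] at t ⊢
    refine ⟨u, ⟨hu, mem_cent1.mpr ?_⟩, rfl⟩
    have uN := O_le _ N hu
    have h1 : x⁻¹ * (u⁻¹ * x * u) = 1 := eq_one_of_mem_bot sd.inf ⟨by
      simpa [mul_assoc] using mul_mem ((O_normal _ N).conj_mem' xN (inv_mem hu)) hu,
      M.mul_mem (M.inv_mem s.mem') (mem_cj.mp t.mem'),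
      N.mul_mem (N.inv_mem xN) (N.mul_mem (N.mul_mem (N.inv_mem uN) xN) uN)⟩
    rw [inv_mul_eq_one, mul_assoc, eq_inv_mul_iff_mul_eq] at h1
    exact h1
  obtain ⟨M, s⟩ := (h.ell1 x1).2
  obtain ⟨L, t, ne⟩ := h.exists_ne M
  obtain ⟨u, hu, rfl⟩ := tr' s t
  have u1 : u ≠ 1 := by rintro rfl; simp at ne
  have k := n.pi_of_cent_sigma hu.1 u1 xN (mem_cent1_comm.mp hu.2) x1
    ((emb s).2.2.pi.elt ⟨s.mem', xN⟩)
  obtain ⟨k1, -, k2⟩ := k.resolve_left fun k =>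
    kappa_not_tau2 (e.mem_of_pi k.1.zpowers) (emb s).1
  refine ⟨N, k2, k1, ne_bot_of_mem hu u1, fun M s => ⟨⟨fun r a => ?_, (emb s).2⟩, fun L => tr' s⟩⟩
  obtain ⟨A, a2⟩ := (emb s).2.2.exists_elem_two (emb s).1
  exact (n.tau2_sub_sigma (emb s).1 (a2.mono inf_le_right) s.mx (s.mx.norm_le_of_not_cyc (qs s)
    a2.pi (a2.le.trans inf_le_left) a2.not_cyc) a).1

theorem SigMany.sigN_eq (h : SigMany x) (u : UniqIn (𝐂₁ x) N) : sigN x = N :=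
  let k := sigN_spec h ⟨N, u.mx, u.le⟩; u.uniq _ k.1 k.2

theorem Mx.tyF_or_tyP2 (m : Mx M) (h : ¬ PiGrp (𝛔 M ∪ 𝛋 M) M) : TyF M ∨ TyP2 M :=
  m.tyF_or.imp_right (⟨·, h⟩)

theorem not_pi_of_tau2 (hp : p ∈ 𝛕₂ M) : ¬ PiGrp (𝛔 M ∪ 𝛋 M) M := fun k => by
  have := pRank_pos.mp (show 0 < pRank p M by rw [tau2_pRank hp]; omega)
  exact (k p this.1 this.2).elim (tau2_sigma' hp) fun a => kappa_not_tau2 a hp

/-- BG 14.4 -/
theorem SigMany.facts (h : SigMany x) (x1 : x ≠ 1) :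
    UniqIn (𝐂₁ x) (sigN x) ∧ sigR x ≠ ⊥ ∧ PiElt (𝛕₂ (sigN x)) x ∧
      (TyF (sigN x) ∨ TyP2 (sigN x)) ∧
      ∀ M, SigMx x M → 𝛕₂ (sigN x) ⊆ 𝛔 M ∧ (∀ p, p ∣ ♯M → p ∈ 𝛔 (sigN x) → p ∈ 𝛃 (sigN x)) ∧
        SigE (sigN x) (M ⊓ sigN x) := by
  obtain ⟨N, u, t, c, k⟩ := h.core x1
  obtain ⟨p, hp, d⟩ := exists_prime_orderOf x1
  rw [sigR, h.sigN_eq u]
  exact ⟨u, c, t, u.mx.tyF_or_tyP2 (not_pi_of_tau2 (t p hp d)), fun M s => (k M s).1⟩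

theorem SigMany.uniqIn (h : SigMany x) (x1 : x ≠ 1) : UniqIn (𝐂₁ x) (sigN x) := (h.facts x1).1
theorem SigMany.mx (h : SigMany x) (x1 : x ≠ 1) : Mx (sigN x) := (h.uniqIn x1).mx
theorem SigMany.tau2 (h : SigMany x) (x1 : x ≠ 1) : PiElt (𝛕₂ (sigN x)) x := (h.facts x1).2.2.1
theorem SigMany.mem (h : SigMany x) (x1 : x ≠ 1) : x ∈ sigN x := (h.uniqIn x1).le (self_mem_cent1 x)
theorem SigMany.sigE (h : SigMany x) (x1 : x ≠ 1) (s : SigMx x M) : SigE (sigN x) (M ⊓ sigN x) :=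
  ((h.facts x1).2.2.2.2 M s).2.2

theorem SigMany.not_conj (h : SigMany x) (x1 : x ≠ 1) (s : SigMx x M) : ¬ Conj M (sigN x) :=
  fun c => x1 (s.pi.eq_one (c.sigma_eqV ▸ (h.tau2 x1).mono (tau2_sub _)))

theorem SigMany.sigma_sub (h : SigMany x) (x1 : x ≠ 1) (s : SigMx x M) : 𝛔 (sigN x) ⊆ (𝛔 M)ᶜ :=
  fun _ a b => s.mx.sigma_partition (h.mx x1) (h.not_conj x1 s) b a

theorem SigMany.trans (h : SigMany x) (x1 : x ≠ 1) (s : SigMx x M) (t : SigMx x L) :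
    ∃ u ∈ sigR x, L = cj u M := by
  obtain ⟨N, u, -, -, k⟩ := h.core x1
  rw [sigR, h.sigN_eq u]
  exact (k M s).2 L t

theorem sigMany_of_mem {r : G} (hr : r ∈ sigR x) (r1 : r ≠ 1) : SigMany x :=
  by_contra fun n => r1 (eq_one_of_mem_bot (sigR_of_not n) hr)

theorem sigR_pi (x : G) : PiGrp (𝛔 (sigN x)) (sigR x) := (O_pi _ _).inf_left

theorem SigMx.sigR_pi' (s : SigMx x M) (x1 : x ≠ 1) : PiGrp (𝛔 M)ᶜ (sigR x) := by
  by_cases h : SigMany x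
  · exact (sigR_pi x).mono (h.sigma_sub x1 s)
  · exact sigR_of_not h ▸ piGrp_bot _

theorem SigMx.sdprod (s : SigMx x M) (x1 : x ≠ 1) : SDProd (sigR x) (M ⊓ 𝐂₁ x) (𝐂₁ x) := by
  by_cases h : SigMany x
  · have xN := h.mem x1
    have := (h.sigE x1 s).sdprod.inf_cent1 ((O_normal _ _).norm xN) (le_norm_self _ ⟨s.mem', xN⟩)
    rwa [inf_assoc, inf_eq_right.mpr (h.uniqIn x1).le] at this
  · rw [sigR_of_not h, inf_eq_right.mpr (s.cent1_le h)]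
    exact ⟨by simp, bot_sup_eq _, bot_inf_eq _⟩

theorem SigMx.sigR_inf (s : SigMx x M) (x1 : x ≠ 1) : sigR x ⊓ M = ⊥ :=
  eq_bot_mono (s.sdprod x1).inf
    (le_inf inf_le_left (le_inf inf_le_right (inf_le_left.trans (sigR_le x))))

theorem SigMx.exists_unique (s : SigMx x M) (t : SigMx x L) (x1 : x ≠ 1) :
    ∃! r, r ∈ sigR x ∧ L = BG.cj r M := by
  have ex : ∃ r ∈ sigR x, L = BG.cj r M := by
    by_cases h : SigMany x
    · exact h.trans x1 s t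
    · exact ⟨1, one_mem _, by_contra fun e => h ⟨L, M, t, s, by simpa using e⟩⟩
  obtain ⟨r, hr, rfl⟩ := ex
  refine ⟨r, ⟨hr, rfl⟩, fun r' ⟨hr', e⟩ => ?_⟩
  exact inv_mul_eq_one.mp (eq_one_of_mem_bot (s.sigR_inf x1)
    ⟨(sigR x).mul_mem (inv_mem hr') hr, s.mx.cj_eq_iff.mp e⟩)

theorem Ell1.sigR_hall (h : Ell1 x) : Hall (𝛔 (sigN x)) (sigR x) (𝐂₁ x) ∨ sigR x = ⊥ := by
  refine (em (SigMany x)).imp (fun k => ?_) sigR_of_not
  exact (k.mx h.1).hall_Ms.inf_of_norm' (k.uniqIn h.1).le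
    ((k.uniqIn h.1).le.trans (O_normal _ _).norm)

/-- BG 14.4, general part -/
theorem Ell1.sigR_facts (h : Ell1 x) :
    (∀ M L, SigMx x M → SigMx x L → ∃! r, r ∈ sigR x ∧ L = cj r M) ∧ sigR x ⊴ 𝐂₁ x ∧
      (♯(sigR x)).Coprime ((sigR x).relIndex (𝐂₁ x)) ∧
      ∀ M, SigMx x M → SDProd (sigR x) (M ⊓ 𝐂₁ x) (𝐂₁ x) := by
  obtain ⟨M, s⟩ := h.2
  refine ⟨fun M L s t => s.exists_unique t h.1, (s.sdprod h.1).normal, ?_, fun M s => s.sdprod h.1⟩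
  rcases h.sigR_hall with k | k
  · exact k.coprime
  · simp [k]

theorem sigMany_conj_iff : SigMany (g * x * g⁻¹) ↔ SigMany x :=
  ⟨fun h => by simpa [mul_assoc] using h.conj g⁻¹, fun h => h.conj g⟩

theorem sigN_conj (h : Ell1 x) (g : G) : sigN (g * x * g⁻¹) = cj g (sigN x) := by
  by_cases k : SigMany x
  · exact (k.conj g).sigN_eq (cj_cent1 g x ▸ (k.uniqIn h.1).cj g)
  · rw [sigN_of_not k, sigN_of_not (mt sigMany_conj_iff.mp k), cj_bot]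

theorem sigR_conj (h : Ell1 x) (g : G) : sigR (g * x * g⁻¹) = cj g (sigR x) := by
  rw [sigR, sigR, sigN_conj h, cj_inf, cj_Ms, cj_cent1]

theorem sigR_comm {r : G} (hr : r ∈ sigR x) : x * r = r * x := (mem_cent1.mp (sigR_le x hr)).symm

theorem SigMx.constt_mul (s : SigMx x M) (x1 : x ≠ 1) {r : G} (hr : r ∈ sigR x) :
    constt (𝛔 M) (x * r) = x := constt_eq s.pi ((s.sigR_pi' x1).elt hr) (sigR_comm hr)

/-- the `σ`-decomposition of an element of `x R(x)` -/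
theorem Ell1.constt_cases (h : Ell1 x) {r : G} (hr : r ∈ sigR x) (m : Mx M)
    (c : constt (𝛔 M) (x * r) ≠ 1) : constt (𝛔 M) (x * r) = x ∨ constt (𝛔 M) (x * r) = r := by
  obtain ⟨L, s⟩ := h.2
  rcases m.sigma_eq_or s.mx with e | e
  · exact .inl (e ▸ s.constt_mul h.1 hr)
  have kx := s.pi.mono e
  by_cases r1 : r = 1
  · exact (c (by rw [r1, mul_one]; exact constt_of_pi' kx)).elim
  rcases m.sigma_eq_or ((sigMany_of_mem hr r1).mx h.1) with e' | e'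
  · rw [sigR_comm hr]
    exact .inr (constt_eq (e' ▸ (sigR_pi x).elt hr) kx (sigR_comm hr).symm)
  · exact (c (constt_of_pi' (kx.mul (((sigR_pi x).elt hr).mono e') (sigR_comm hr)))).elim

/-- BG 14.5 (a) -/
theorem sigR_disjoint (hx : Ell1 x) (hy : Ell1 y) {r s : G} (hr : r ∈ sigR x) (hs : s ∈ sigR y)
    (e : x * r = y * s) : x = y := by
  obtain ⟨M, t⟩ := hy.2
  have e1 := t.constt_mul hy.1 hs
  rw [← e] at e1
  rcases hx.constt_cases hr t.mx (e1 ▸ hy.1) with k | k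
  · exact k.symm.trans e1
  obtain rfl : r = y := k.symm.trans e1
  obtain rfl : x = s := mul_left_cancel ((sigR_comm hr).symm.trans e)
  have a := sigMany_of_mem hr hy.1
  exact (hx.1 (eq_one_of_mem_bot (SigMx.sigR_inf ⟨a.mx hx.1, hr.1⟩ hy.1) ⟨hs, a.mem hx.1⟩)).elim

theorem mem_Tilde (m : Mx M) : g ∈ Tilde M ↔
    ∃ x, x ≠ 1 ∧ (∃ y, SigMx x (cj y M)) ∧ ∃ r ∈ sigR x, g = x * r := by
  constructor
  · rintro ⟨x, hx, x1, r, hr, y, rfl⟩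
    have s : SigMx x M := ⟨m, hx⟩
    refine ⟨y * x * y⁻¹, ((s.ell1 x1).conj y).1, ⟨y, s.cj y⟩, y * r * y⁻¹, ?_, by group⟩
    rw [sigR_conj (s.ell1 x1)]; exact conj_mem_cj.mpr hr
  · rintro ⟨x, x1, ⟨y, s⟩, r, hr, rfl⟩
    have s' := s.cj y⁻¹
    rw [cj_inv_cj] at s'
    refine ⟨_, s'.mem, ((s.ell1 x1).conj y⁻¹).1, y⁻¹ * r * y⁻¹⁻¹, ?_, y, by group⟩
    rw [sigR_conj (s.ell1 x1)]; exact conj_mem_cj.mpr hr

theorem Tilde_conj (a : g ∈ Tilde M) (y : G) : y * g * y⁻¹ ∈ Tilde M := by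
  obtain ⟨x, hx, x1, r, hr, z, rfl⟩ := a
  exact ⟨x, hx, x1, r, hr, y * z, by group⟩

/-- BG 14.5 (b) -/
theorem Mx.tilde_disjoint (m : Mx M) (h : Mx H) (nc : ¬ Conj M H) (a : g ∈ Tilde M) :
    g ∉ Tilde H := fun b => by
  obtain ⟨x, x1, ⟨u, s⟩, r, hr, rfl⟩ := (mem_Tilde m).mp a
  obtain ⟨y, y1, ⟨v, t⟩, r', hr', e⟩ := (mem_Tilde h).mp b
  obtain rfl := sigR_disjoint (s.ell1 x1) (t.ell1 y1) hr hr' e
  exact nc (conj_cj_right.mp (conj_cj_left.mp (s.conj t x1)))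

theorem Mx.card_conj (m : Mx M) : Nat.card {L : Subgroup G // Conj M L} = M.index := by
  let f : G ⧸ M → {L : Subgroup G // Conj M L} := Quotient.lift (fun g => ⟨BG.cj g M, conj_cj M g⟩)
    fun a b e => Subtype.ext (m.cj_eq_iff.mpr (QuotientGroup.leftRel_apply.mp e)).symm
  refine (Nat.card_eq_of_bijective f ⟨?_, ?_⟩).symm
  · intro a b
    induction a using QuotientGroup.induction_on
    induction b using QuotientGroup.induction_on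
    exact fun e => QuotientGroup.eq.mpr (m.cj_eq_iff.mp (congrArg Subtype.val e).symm)
  · rintro ⟨L, g, rfl⟩
    exact ⟨g, rfl⟩

theorem SigMx.card_sigR (s : SigMx x M) (x1 : x ≠ 1) :
    ♯(sigR x) = Nat.card {L : Subgroup G // SigMx x L} := by
  refine Nat.card_eq_of_bijective (fun r => ⟨BG.cj r M, by
    have := s.cj r
    rwa [← sigR_comm r.2, mul_inv_cancel_right] at this⟩) ⟨fun a b e => ?_, fun ⟨L, t⟩ => ?_⟩
  · have e' : BG.cj (a : G) M = BG.cj (b : G) M := congrArg Subtype.val e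
    exact Subtype.ext (inv_mul_eq_one.mp (eq_one_of_mem_bot (s.sigR_inf x1)
      ⟨(sigR x).mul_mem (inv_mem a.2) b.2, s.mx.cj_eq_iff.mp e'.symm⟩))
  · obtain ⟨r, ⟨hr, e⟩, -⟩ := s.exists_unique t x1
    exact ⟨⟨r, hr⟩, Subtype.ext e.symm⟩

theorem card_ne_one (H : Subgroup G) : Nat.card {x : G // x ∈ H ∧ x ≠ 1} = ♯H - 1 := by
  have : {x : G | x ∈ H ∧ x ≠ 1} = (H : Set G) \ {1} := rfl
  change Nat.card {x : G | x ∈ H ∧ x ≠ 1} = _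
  rw [this, Nat.card_coe_set_eq, Set.ncard_sdiff_singleton_of_mem H.one_mem]
  rfl

/-- BG 14.5 (c) -/
theorem Mx.card_tilde (m : Mx M) : (Tilde M).ncard = (♯(Mσ M) - 1) * M.index := by
  classical
  let S := {x : G // x ≠ 1 ∧ ∃ y, SigMx x (BG.cj y M)}
  let T := {L : Subgroup G // Conj M L}
  have e1 : Nat.card (Σ x : S, sigR (x : G)) = Nat.card (Tilde M) := by
    refine Nat.card_eq_of_bijective (fun a => ⟨a.1 * a.2, (mem_Tilde m).mpr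
      ⟨_, a.1.2.1, a.1.2.2, _, a.2.2, rfl⟩⟩) ⟨?_, ?_⟩
    · rintro ⟨⟨x, x1, u, s⟩, r, hr⟩ ⟨⟨y, y1, v, t⟩, r', hr'⟩ e
      have e' : x * r = y * r' := congrArg Subtype.val e
      obtain rfl := sigR_disjoint (s.ell1 x1) (t.ell1 y1) hr hr' e'
      obtain rfl := mul_left_cancel e'
      rfl
    · rintro ⟨g, a⟩
      obtain ⟨x, x1, s, r, hr, rfl⟩ := (mem_Tilde m).mp a
      exact ⟨⟨⟨x, x1, s⟩, r, hr⟩, rfl⟩
  have e2 : Nat.card (Σ x : S, {L : Subgroup G // SigMx (x : G) L}) =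
      Nat.card (Σ L : T, {x : G // x ∈ Mσ (L : Subgroup G) ∧ x ≠ 1}) := by
    refine Nat.card_eq_of_bijective (fun a => ⟨⟨a.2, by
      obtain ⟨y, s⟩ := a.1.2.2
      exact conj_cj_left.mp (s.conj a.2.2 a.1.2.1)⟩, a.1, a.2.2.mem, a.1.2.1⟩) ⟨?_, ?_⟩
    · rintro ⟨⟨x, hx⟩, L, s⟩ ⟨⟨y, hy⟩, L', t⟩ e
      obtain rfl : L = L' := congrArg (fun a => (a.1 : Subgroup G)) e
      obtain rfl : x = y := congrArg (fun a => (a.2 : G)) e
      rfl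
    · rintro ⟨⟨L, y, rfl⟩, x, hx, x1⟩
      exact ⟨⟨⟨x, x1, y, m.cj y, hx⟩, _, m.cj y, hx⟩, rfl⟩
  have := Fintype.ofFinite S
  have := Fintype.ofFinite T
  rw [← Nat.card_coe_set_eq, ← e1, Nat.card_sigma, Finset.sum_congr rfl fun x _ =>
    x.2.2.choose_spec.card_sigR x.2.1, ← Nat.card_sigma, e2, Nat.card_sigma,
    Finset.sum_congr rfl (g := fun _ => ♯(Mσ M) - 1), Finset.sum_const, Finset.card_univ,
    ← Nat.card_eq_fintype_card, m.card_conj, smul_eq_mul, mul_comm]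
  rintro ⟨L, y, rfl⟩ -
  rw [card_ne_one, ← cj_Ms, card_cj]

theorem eq_one_of_constt (h : ∀ M : Subgroup G, Mx M → constt (𝛔 M) g = 1) (w : PiElt (𝛡 G) g) : g = 1 := by
  by_contra g1
  obtain ⟨p, hp, d⟩ := exists_prime_orderOf g1
  obtain ⟨M, m, s⟩ := exists_mx_sigma hp (d.trans (orderOf_dvd_natCard g)) (w p hp d)
  exact constt_eq_one.mp (h M m) p hp d s

theorem mem_cent1_constt (π : Set ℕ) (g : G) : g ∈ 𝐂₁ (constt π g) :=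
  cent1_le_cent1_constt π g (self_mem_cent1 g)

/-- BG 14.6 -/
theorem sigma_dichotomy (g1 : g ≠ 1) (w : PiElt (𝛡 G) g) :
    Xor' (∃ x, Ell1 x ∧ x⁻¹ * g ∈ sigR x)
      (∃ y M, y ≠ 1 ∧ SigMx y M ∧ y⁻¹ * g ∈ M ⊓ 𝐂₁ y ∧ y⁻¹ * g ≠ 1 ∧ PiElt (𝛋 M) (y⁻¹ * g)) := by
  by_cases a : ∃ x, Ell1 x ∧ x⁻¹ * g ∈ sigR x
  · refine .inl ⟨a, ?_⟩
    obtain ⟨x, hx, hr⟩ := a
    rintro ⟨y, M, y1, s, hz, z1, k⟩
    obtain ⟨r, rfl⟩ : ∃ r, g = x * r := ⟨x⁻¹ * g, by group⟩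
    obtain ⟨z, e⟩ : ∃ z, x * r = y * z := ⟨y⁻¹ * (x * r), by group⟩
    rw [inv_mul_cancel_left] at hr
    rw [e, inv_mul_cancel_left] at hz z1 k
    have k' := k.mono (kappa_sub M)
    have c : 𝐂₁ y ≤ M := ((s.mx.pi_of_cent_sigma s.mem y1 hz.1 hz.2 z1 k').resolve_right
      fun t => z1 (t.1.eq_one (k.mono fun _ => kappa_not_tau2))).2
    have e1 := constt_eq s.pi k' (mem_cent1.mp hz.2).symm
    rw [← e] at e1
    rcases hx.constt_cases hr s.mx (e1 ▸ y1) with t | t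
    · obtain rfl : x = y := t.symm.trans e1
      obtain rfl := mul_left_cancel e
      exact z1 (eq_one_of_mem_bot (s.sigR_inf y1) ⟨hr, hz.1⟩)
    · obtain rfl : r = y := t.symm.trans e1
      obtain rfl : x = z := mul_left_cancel ((sigR_comm hr).symm.trans e)
      have b := sigMany_of_mem hr y1
      obtain ⟨u, ⟨hu, e'⟩, -⟩ := s.exists_unique ⟨b.mx z1, hr.1⟩ y1
      rw [cj_of_mem (c (sigR_le _ hu))] at e'
      exact z1 ((e' ▸ b.tau2 z1).eq_one (k.mono fun _ => kappa_not_tau2))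
  refine .inr ⟨by_contra fun b => g1 ?_, a⟩
  have key : ∀ M : Subgroup G, Mx M → g ∈ M → constt (𝛔 M) g = 1 := fun M m hg => by
    by_contra x1
    have s := m.sigMx (constt_mem_of_mem _ hg) (constt_pi _ g)
    have e : (constt (𝛔 M) g)⁻¹ * g = constt (𝛔 M)ᶜ g :=
      inv_mul_eq_iff_eq_mul.mpr (constt_mul_constt _ g).symm
    have z1 : constt (𝛔 M)ᶜ g ≠ 1 := fun z1 => a ⟨_, s.ell1 x1, by rw [e, z1]; exact one_mem _⟩
    have hz := constt_mem_of_mem (𝛔 M)ᶜ hg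
    have c : constt (𝛔 M)ᶜ g ∈ 𝐂₁ (constt (𝛔 M) g) := mem_cent1.mpr (constt_comm _ _ g)
    rcases m.pi_of_cent_sigma s.mem x1 hz c z1 (constt_pi _ g) with t | ⟨t, l, u⟩
    · exact b ⟨_, M, x1, s, e ▸ ⟨hz, c⟩, e ▸ z1, e ▸ t.1⟩
    have mn : SigMany (constt (𝛔 M)ᶜ g) := by
      by_contra n
      obtain ⟨L, s'⟩ := l.2
      obtain rfl := u.uniq L s'.mx (s'.cent1_le n)
      exact z1 (s'.pi.eq_one (constt_pi _ g))
    refine a ⟨_, l, ?_⟩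
    rw [inv_mul_eq_iff_eq_mul.mpr ((constt_mul_constt (𝛔 M) g).symm.trans (constt_comm _ _ g)),
      sigR, mn.sigN_eq u]
    exact ⟨s.mem, mem_cent1_comm.mp c⟩
  refine eq_one_of_constt (fun M m => by_contra fun x1 => ?_) w
  obtain ⟨u, s⟩ := m.ell1_of_sigma x1 (constt_pi _ g)
  have c := mem_cent1_constt (𝛔 M) g
  by_cases n : SigMany (constt (𝛔 M) g)
  · have gN := (n.uniqIn x1).le c
    obtain ⟨v, -, l⟩ := (n.sigE x1 s).hall.conj_mem (n.mx x1).sol gN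
      (constt_eq_one.mp (key _ (n.mx x1) gN))
    have := key _ (s.mx.cj v⁻¹) (mem_cj_inv.mpr l.1)
    rw [sigma_cj, sigma_cj] at this
    exact x1 this
  · have := key _ s.mx (s.cent1_le n c)
    rw [sigma_cj] at this
    exact x1 this

end CF.BG.Vp
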