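import Cfsg.Agent.Vp.S13
/-
BG section 14: 14.1 - 14.3.
-/
set_option autoImplicit false
set_option linter.unusedSectionVars false

namespace CF.BG.Vp
open Subgroup
open scoped commutatorElement Pointwise

variable {G : Type*} [Group G] [Finite G] [MSO G]
variable {A A₀ A₁ B C D E E₁ E₂ E₃ H K L M N P Q R S T U V W X Y Z : Subgroup G} {p q r : ℕ}
variable {π : Set ℕ} {x y g : G}

theorem exists_mx_sigma (hp : p.Prime) (d : p ∣ Nat.card G) (w : p ∈ 𝛡 G) : ∃ M : Subgroup G, Mx M ∧ p ∈ 𝛔 M := by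
  obtain ⟨P, hP⟩ := exists_syl p (⊤ : Subgroup G)
  obtain ⟨M, m, -, s, -⟩ := hP.exists_mx_sigmaV (hP.syl_ne_bot hp (card_top' (G := G) ▸ d)) w
  exact ⟨M, m, s⟩

theorem Mx.exists_kapC_le (m : Mx M) (k : Hall (𝛋 M) K M) (e : SigE M E) (l : K ≤ E) :
    ∃ U, KapC M U K ∧ U ⊔ K = E := by
  obtain ⟨U, hU⟩ := e.sol.exists_hall (𝛋 M)ᶜ
  have s : U ⊔ K = E := hU.sup_eq (k.of_le l e.le).compl_compl
  refine ⟨U, ⟨m, ?_, k, s ▸ e.hall⟩, s⟩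
  have h1 : Hall (𝛔 M ∪ 𝛋 M)ᶜ U E := hU.congr fun p hp d =>
    ⟨fun a b => b.elim (e.pi p hp d) a, fun a b => a (.inr b)⟩
  exact h1.trans e.hall (Set.compl_subset_compl.mpr Set.subset_union_left)

theorem Mx.exists_kapC (m : Mx M) (k : Hall (𝛋 M) K M) : ∃ U, KapC M U K := by
  obtain ⟨E, e, l⟩ := m.exists_sigE k.le (k.pi.mono (kappa_sub M))
  obtain ⟨U, h, -⟩ := m.exists_kapC_le k e l
  exact ⟨U, h⟩

theorem Mx.exists_kapC' (m : Mx M) : ∃ U K, KapC M U K := by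
  obtain ⟨K, k⟩ := m.sol.exists_hall (𝛋 M)
  obtain ⟨U, h⟩ := m.exists_kapC k
  exact ⟨U, K, h⟩

theorem Mx.tau13_reg_of_not_kappa (hp : p ∈ 𝛕₁ M ∪ 𝛕₃ M) (hk : p ∉ 𝛋 M) (x : Elem p 1 X M) :
    Mσ M ⊓ 𝐂 X = ⊥ := by_contra fun c => hk (mem_kappa_of hp x c)

/-- BG 14.1 -/
theorem Mx.sigma'_kappa' (m : Mx M) (hS : Syl p S M) (s1 : S ≠ ⊥) (hs : p ∉ 𝛔 M) (hk : p ∉ 𝛋 M) :
    logn p (♯(𝛀 p S)) ≤ 2 ∧ Mσ M ⊓ 𝐂 (𝛀 p S) = ⊥ ∧ Nil (Mσ M) := by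
  have hp := hS.pi.prime s1
  have d := (hS.pi.dvd_card s1).trans (card_dvd hS.le)
  by_cases t : p ∈ 𝛕₂ M
  · obtain ⟨A, a⟩ := exists_elem (p := p) (n := 2) (H := S) (by rw [hS.syl_pRank, tau2_pRank t])
    rw [m.tau2_Om t a hS.le hS.pi]
    exact ⟨a.log.le, m.tau2_cent t (a.mono hS.le), m.tau2_nil t⟩
  have t13 : p ∈ 𝛕₁ M ∪ 𝛕₃ M := by
    rcases m.partition_pi hp d with a | a | a | a
    exacts [(hs a).elim, .inl a, (t a).elim, .inr a]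
  have x := ((cyc_of_tau13 hS.le hS.pi t13).elem_Om' hS.pi s1).mono hS.le
  have c := Mx.tau13_reg_of_not_kappa t13 hk x
  exact ⟨by rw [x.log]; omega, c,
    x.nil_of_fpf (x.le.trans (O_normal _ M).norm) (m.sol' (O_le _ M)) c⟩

theorem Mx.nil_Ms_of_not_pi (m : Mx M) (h : ¬ PiGrp (𝛔 M ∪ 𝛋 M) M) : Nil (Mσ M) := by
  obtain ⟨p, h⟩ := not_forall.mp h
  push Not at h
  obtain ⟨S, hS⟩ := exists_syl p M
  exact (m.sigma'_kappa' hS (hS.syl_ne_bot h.1 h.2.1) (fun a => h.2.2 (.inl a))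
    fun a => h.2.2 (.inr a)).2.2

theorem TyF.not_pi (h : TyF M) : ¬ PiGrp (𝛔 M ∪ 𝛋 M) M := by
  intro k
  rw [h.kappa, Set.union_empty] at k
  obtain ⟨E, e⟩ := h.mx.exists_sigE'
  exact e.ne_bot ((k.le e.le).eq_bot e.pi)

theorem TyF.nil_Ms (h : TyF M) : Nil (Mσ M) := h.mx.nil_Ms_of_not_pi h.not_pi

theorem TyP2.nil_Ms (h : TyP2 M) : Nil (Mσ M) := h.mx.nil_Ms_of_not_pi h.not_pi

theorem KapC.hallK (h : KapC M U K) : Hall (𝛋 M) K (U ⊔ K) := h.hK.of_le le_sup_right h.hUK.le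

theorem KapC.hallU (h : KapC M U K) : Hall (𝛋 M)ᶜ U (U ⊔ K) :=
  (h.hU.of_le le_sup_left h.hUK.le).congr fun p hp d =>
    ⟨fun a b => a (.inr b), fun a b => b.elim (h.hUK.pi p hp d) a⟩

theorem KapC.pi'U (h : KapC M U K) : PiGrp (𝛔 M)ᶜ U := h.hUK.pi.le le_sup_left

theorem _root_.CF.BG.Hall.kappa_sigma'V (k : Hall (𝛋 M) K M) : PiGrp (𝛔 M)ᶜ K := k.pi.mono (kappa_sub M)

theorem _root_.CF.BG.Hall.kappa_nonregV (k : Hall (𝛋 M) K M) (x : Elem p 1 X K) : Mσ M ⊓ 𝐂 X ≠ ⊥ :=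
  kappa_nonreg (x.mem_of_pi k.pi) (x.mono k.le)

/-- the two cases of the proof of BG 14.2 -/
theorem KapC.cases (h : KapC M U K) (k1 : K ≠ ⊥) :
    (U = ⊥ ∧ (𝛋 M ∩ 𝛕₃ M).Nonempty ∧ PrimeAct (Mσ M) K ∧ ∀ p X, Elem p 1 X K → X ⊴ K) ∨
    (𝛋 M = 𝛕₁ M ∧ ∃ E₂ E₃, SigC M (U ⊔ K) K E₂ E₃ ∧ U = E₃ ⊔ E₂ ∧ Reg (Mσ M) E₃) := by
  have e := h.sigE
  by_cases t : (𝛋 M ∩ 𝛕₃ M).Nonempty
  · obtain ⟨E₁, E₂, E₃, c⟩ := e.exists_sigC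
    obtain ⟨p, pk, p3⟩ := t
    obtain ⟨X, x⟩ := exists_elem_one (prime_of_kappa pk) (c.h3.prime_dvd (prime_of_kappa pk) p3
      (e.hall.prime_dvd (prime_of_kappa pk) (kappa_sigma' pk) (dvd_of_kappa pk)))
    have nx := kappa_nonreg pk (x.mono (c.h3.le.trans e.le))
    have r : ¬ Reg (Mσ M) E₃ := fun r => nx (r.cent x.le x.ne_bot)
    obtain ⟨-, -, pa, nE⟩ := c.tau13_nonreg r
    have e2 := c.eq_bot2 r
    have kE : PiGrp (𝛋 M) (U ⊔ K) := fun q hq d => by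
      obtain ⟨Y, y⟩ := exists_elem_one hq d
      refine mem_kappa_of ?_ (y.mono e.le) ?_
      · rcases e.partition_pi hq d with a | a | a
        exacts [.inl a, (c.h2.ne_bot hq a d e2).elim, .inr a]
      · rwa [pa.cent y.le y.ne_bot, ← pa.cent (x.le.trans c.h3.le) x.ne_bot]
    have kk := h.hallK.eq_of_pi kE
    refine .inl ⟨h.hallU.eq_bot kE.compl_compl, ⟨p, pk, p3⟩, pa.mono_right le_sup_right,
      fun q Y y => ?_⟩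
    exact (nE q Y (y.mono le_sup_right)).of_le y.le le_sup_right
  have k1' : 𝛋 M ⊆ 𝛕₁ M := fun p a => (kappa_tau13 a).resolve_right fun b => t ⟨p, a, b⟩
  obtain ⟨E₁, E₂, E₃, c, l⟩ := e.exists_sigC_le1 le_sup_right (h.hK.pi.mono k1')
  have pa := h.mx.primeAct1 (c.h1.le.trans e.le) c.h1.pi
  obtain ⟨p, X, x⟩ := exists_prime_elem_one k1
  have t1 : 𝛕₁ M ⊆ 𝛋 M := fun q a => by
    have hq : q.Prime := a.1
    obtain ⟨Y, y⟩ := exists_elem_one hq (c.h1.prime_dvd hq a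
      (e.hall.prime_dvd hq (tau1_sigma' a) a.2.2.1))
    refine mem_kappa_of (.inl a) (y.mono (c.h1.le.trans e.le)) ?_
    rw [pa.cent y.le y.ne_bot, ← pa.cent (x.le.trans l) x.ne_bot]
    exact h.hK.kappa_nonregV x
  have ek : 𝛋 M = 𝛕₁ M := k1'.antisymm t1
  obtain rfl : K = E₁ := h.hallK.eq_of_le l c.h1.le (ek ▸ c.h1.pi)
  refine .inr ⟨ek, E₂, E₃, c, c.hall32.eq_of_normal c.normal32.norm (ek ▸ h.hallU), ?_⟩
  refine reg_of_elem fun q Y y => Mx.tau13_reg_of_not_kappa (.inr (y.mem_of_pi c.h3.pi))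
    (fun a => t ⟨q, a, y.mem_of_pi c.h3.pi⟩) (y.mono (c.h3.le.trans e.le))

/-- BG 14.2 (a) -/
theorem KapC.context (h : KapC M U K) :
    SDProd U K (U ⊔ K) ∧ PrimeAct (Mσ M) K ∧ Reg U K ∧ (K ≠ ⊥ → Abel U) := by
  by_cases k1 : K = ⊥
  · subst k1
    exact ⟨SDProd.mk' bot_le (inf_bot_eq _), primeAct_bot _, reg_bot _, fun e => (e rfl).elim⟩
  rcases h.cases k1 with ⟨rfl, -, pa, -⟩ | ⟨ek, E₂, E₃, c, e, r3⟩
  · exact ⟨SDProd.mk' (by simp) (bot_inf_eq _), pa, bot_reg _, fun _ => abel_bot⟩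
  have pa := h.mx.primeAct1 h.hK.le c.h1.pi
  have sd : SDProd U K (U ⊔ K) := by have := c.sdprod1; rwa [← e] at this
  have r : Reg U K := by
    refine e ▸ Reg.sup_of_norm ?_ ?_ (c.h1.le.trans c.normal3.norm) c.sdprod21.norm
      (.inr (c.h2.le.trans c.normal3.norm)) (c.sol.mono (inf_le_left.trans c.h3.le))
    · by_cases e3 : E₃ = ⊥
      · exact e3 ▸ bot_reg _
      by_contra nr
      have pa' := c.primeAct13 nr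
      obtain ⟨p, X, x⟩ := exists_prime_elem_one k1
      refine h.hK.kappa_nonregV x ?_
      rw [pa'.cent (x.le.trans le_sup_right) x.ne_bot, ← pa'.cent le_sup_left e3]
      exact r3.cent le_rfl e3
    · refine reg_of_elem fun p X x => by_contra fun n => ?_
      obtain ⟨q, Y, y⟩ := exists_prime_elem_one n
      obtain ⟨A, a⟩ := c.exists_elem_two ((y.mono inf_le_left).mem_of_pi c.h2.pi)
      refine h.hK.kappa_nonregV x (c.tau12_reg (x.mem_of_pi c.h1.pi) (x.mono c.h1.le) a ?_)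
      exact ne_bot_mono y.ne_bot (le_inf
        (c.le_elem_two a (y.mono (inf_le_left.trans c.h2.le))) (y.le.trans inf_le_right))
  exact ⟨sd, pa, r, fun _ => h.mx.abel_of_nil h.hU.le h.pi'U
    (r.nil sd.norm k1 (h.mx.sol' h.hU.le))⟩

theorem KapC.sd (h : KapC M U K) : SDProd U K (U ⊔ K) := h.context.1
theorem KapC.reg (h : KapC M U K) : Reg U K := h.context.2.2.1
theorem KapC.abel (h : KapC M U K) (k1 : K ≠ ⊥) : Abel U := h.context.2.2.2 k1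
theorem KapC.frob (h : KapC M U K) (k1 : K ≠ ⊥) (u1 : U ≠ ⊥) : Frob U K (U ⊔ K) :=
  ⟨h.sd, u1, k1, h.reg⟩

/-- BG 14.2 (a) -/
theorem Mx.kappa_primeAct (m : Mx M) (k : Hall (𝛋 M) K M) : PrimeAct (Mσ M) K :=
  let ⟨_, h⟩ := m.exists_kapC k; h.context.2.1

theorem KapC.sd_Ms (h : KapC M U K) : SDProd (Mσ M) U (Mσ M ⊔ U) :=
  SDProd.mk' (h.hU.le.trans (O_normal _ M).norm) ((O_pi _ M).inf_eq_bot h.pi'U)

theorem KapC.sd_MsU (h : KapC M U K) : SDProd (Mσ M ⊔ U) K M := by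
  refine ⟨norm_sup (h.hK.le.trans (O_normal _ M).norm) h.sd.norm,
    by rw [sup_assoc, h.sigE.sdprod.sup], ?_⟩
  have : PiGrp (𝛋 M)ᶜ (Mσ M ⊔ U) := PiGrp.sup ((O_pi _ M).mono fun p a b => kappa_sigma' b a)
    h.hallU.pi (.inr h.sd_Ms.norm)
  exact this.inf_eq_bot' h.hK.pi

theorem Mx.kappa_norm_elem (m : Mx M) (k : Hall (𝛋 M) K M) (x : Elem p 1 X K) : K ≤ 𝐍 X := by
  obtain ⟨U, h⟩ := m.exists_kapC k
  rcases h.cases (ne_bot_mono x.ne_bot x.le) with ⟨-, -, -, n⟩ | ⟨-, E₂, E₃, c, -⟩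
  · exact (n p X x).norm
  · exact c.cyc1.abel.le_norm x.le

theorem KapC.MsU_cent (h : KapC M U K) (l : X ≤ K) (x1 : X ≠ ⊥) :
    (Mσ M ⊔ U) ⊓ 𝐂 X = Mσ M ⊓ 𝐂 K := by
  rw [sup_inf_cent_of_inf_bot ((l.trans h.hK.le).trans (O_normal _ M).norm) (l.trans h.sd.norm)
    (.inr h.sd_Ms.norm) h.sd_Ms.inf, h.reg.cent l x1, sup_bot_eq, h.context.2.1.cent l x1]

theorem Mx.kappa_inf_norm (m : Mx M) (k : Hall (𝛋 M) K M) (l : X ≤ K) (x1 : X ≠ ⊥) (n : K ≤ 𝐍 X) :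
    M ⊓ 𝐍 X = K ⊔ (Mσ M ⊓ 𝐂 K) := by
  obtain ⟨U, h⟩ := m.exists_kapC k
  have s := h.sd_MsU
  have e := (s.inf_of_right_le n).sup
  rw [inf_norm_eq_inf_cent (l.trans s.norm) (eq_bot_mono s.inf' (inf_le_inf_right _ l)),
    h.MsU_cent l x1] at e
  rw [← e, sup_comm]

theorem Mx.kappa_dprod (k : Hall (𝛋 M) K M) : DProd K (Mσ M ⊓ 𝐂 K) (K ⊔ (Mσ M ⊓ 𝐂 K)) :=
  DProd.mk' inf_le_right (k.kappa_sigma'V.inf_eq_bot' (O_pi _ M).inf_left)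

/-- BG 14.2 (b1) -/
theorem TyP.dprod_norm (h : TyP M) (k : Hall (𝛋 M) K M) : DProd K (Mσ M ⊓ 𝐂 K) (M ⊓ 𝐍 K) :=
  h.mx.kappa_inf_norm k le_rfl (h.ne_bot k) (le_norm_self K) ▸ Mx.kappa_dprod k

/-- BG 14.2 (b1) -/
theorem TyP.norm_elem (h : TyP M) (k : Hall (𝛋 M) K M) (x : Elem p 1 X K) :
    M ⊓ 𝐍 X = K ⊔ (Mσ M ⊓ 𝐂 K) :=
  h.mx.kappa_inf_norm k x.le x.ne_bot (h.mx.kappa_norm_elem k x)

/-- BG 14.2 (b2) -/
theorem TyP.le_Ms_of_norm (h : TyP M) (k : Hall (𝛋 M) K M) (x : Elem p 1 X K) (m : Mx H)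
    (n : 𝐍 X ≤ H) : X ≤ Mσ H :=
  m.le_Ms' ((le_norm_self X).trans n) x.pi (h.mx.tau13_nonreg_sigma
    (kappa_tau13 (x.mem_of_pi k.pi)) (x.mono k.le) (k.kappa_nonregV x) m n)

theorem Mx.kappa_cent_eq (m : Mx M) (k : Hall (𝛋 M) K M) (l : X ≤ K) (x1 : X ≠ ⊥) :
    Mσ M ⊓ 𝐂 X = Mσ M ⊓ 𝐂 K := (m.kappa_primeAct k).cent l x1

/-- BG 14.2 (c) -/
theorem TyP.Kstar_ne_bot (h : TyP M) (k : Hall (𝛋 M) K M) : Mσ M ⊓ 𝐂 K ≠ ⊥ := by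
  obtain ⟨p, X, x⟩ := exists_prime_elem_one (h.ne_bot k)
  exact h.mx.kappa_cent_eq k x.le x.ne_bot ▸ k.kappa_nonregV x

theorem TyP.uniqIn_aux (h : TyP M) (k : Hall (𝛋 M) K M) (x : Elem p 1 X (Mσ M ⊓ 𝐂 K)) :
    UniqIn (𝐂 X) M ∧ ∀ S, Syl p S (Mσ M) → UniqIn S M := by
  obtain ⟨q, Y, y⟩ := exists_prime_elem_one (h.ne_bot k)
  exact h.mx.uniqIn_cent_tau13 (kappa_tau13 (y.mem_of_pi k.pi)) (y.mono k.le)
    (x.mono (inf_le_inf_left _ (cent_anti y.le)))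

/-- BG 14.2 (c) -/
theorem TyP.uniqIn_cent (h : TyP M) (k : Hall (𝛋 M) K M) (x : Elem p 1 X (Mσ M ⊓ 𝐂 K)) :
    UniqIn (𝐂 X) M := (h.uniqIn_aux k x).1

theorem TyP.uniqIn_cent' (h : TyP M) (k : Hall (𝛋 M) K M) (l : X ≤ Mσ M ⊓ 𝐂 K) (x1 : X ≠ ⊥) :
    𝐂 X ≤ M := by
  obtain ⟨p, Y, y⟩ := exists_prime_elem_one x1
  exact (cent_anti y.le).trans (h.uniqIn_cent k (y.mono l)).le

theorem TyP.cent1_le (h : TyP M) (k : Hall (𝛋 M) K M) (hx : x ∈ Mσ M ⊓ 𝐂 K) (x1 : x ≠ 1) :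
    𝐂₁ x ≤ M :=
  cent_zpowers x ▸ h.uniqIn_cent' k (zpowers_le.mpr hx) (ne_bot_of_mem (mem_zpowers x) x1)

/-- BG 14.2 (d) -/
theorem TyP.Kstar_inf_cj (h : TyP M) (k : Hall (𝛋 M) K M) (hg : g ∉ M) :
    Mσ M ⊓ 𝐂 K ⊓ BG.cj g M = ⊥ := by
  by_contra n
  obtain ⟨p, X, x⟩ := exists_prime_elem_one n
  have x' := x.mono (inf_le_left.trans inf_le_left)
  exact hg (inv_mem_iff.mp (h.mx.sigma_tame (x'.mem_of_pi (O_pi _ M)) x.pi x.ne_bot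
    (x'.le.trans (O_le _ M)) (h.uniqIn_cent k (x.mono inf_le_left)).le
    (le_cj_iff.mp (x.le.trans inf_le_right))))

/-- BG 14.2 (d) -/
theorem TyP.K_inf_cj (h : TyP M) (k : Hall (𝛋 M) K M) (hg : g ∈ M) (hg' : g ∉ 𝐍 K) :
    K ⊓ BG.cj g K = ⊥ := by
  by_contra n
  obtain ⟨p, X, x⟩ := exists_prime_elem_one n
  have k' := k.cj_of_mem hg
  have l : BG.cj g K ≤ M ⊓ 𝐍 K := by
    rw [← (h.dprod_norm k).sup, ← h.norm_elem k (x.mono inf_le_left)]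
    exact le_inf k'.le (h.mx.kappa_norm_elem k' (x.mono inf_le_right))
  exact hg' (mem_norm_of_cj_le (k.le_of_norm k'.le k'.pi (.inl (l.trans inf_le_right))))

/-- BG 14.2 (e) -/
theorem TyP.uniqIn_syl (h : TyP M) (k : Hall (𝛋 M) K M) (hp : p.Prime) (d : p ∣ ♯(Mσ M ⊓ 𝐂 K))
    (hS : Syl p S (Mσ M)) : UniqIn S M ∧ ¬ S ≤ Mσ M ⊓ 𝐂 K := by
  obtain ⟨X, x⟩ := exists_elem_one hp d
  have u := (h.uniqIn_aux k x).2 S hS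
  refine ⟨u, fun l => ?_⟩
  obtain ⟨q, Y, y⟩ := exists_prime_elem_one (h.ne_bot k)
  have n : 𝐍 Y ≤ M := u.le_of_proper (norm_of_cent (cent_mono inf_le_right l y.le))
    (y.pi.norm_properV y.ne_bot (w_of_kappa (y.mem_of_pi k.pi)))
  exact y.ne_bot (((O_pi _ M).le (h.le_Ms_of_norm k y h.mx n)).eq_bot (k.kappa_sigma'V.le y.le))

/-- BG 14.2 (f) -/
theorem TyP.le_Ms (h : TyP M) (k : Hall (𝛋 M) K M) (y : PiGrp (𝛔 M) Y) (i : Y ⊓ (Mσ M ⊓ 𝐂 K) ≠ ⊥) :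
    Y ≤ Mσ M := by
  obtain ⟨g, l⟩ := h.mx.exists_cj_le_Ms y
  have l' : Y ≤ BG.cj g⁻¹ M := cj_le_iff.mp (l.trans (O_le _ M))
  have hg : g⁻¹ ∈ M := by_contra fun n =>
    i (eq_bot_mono (h.Kstar_inf_cj k n) (le_inf inf_le_right (inf_le_left.trans l')))
  exact h.mx.le_Ms (cj_of_mem hg ▸ l') y

theorem KapC.Ms_inf_cent (h : KapC M U K) (u1 : U ≠ ⊥) : Mσ M ⊓ 𝐂 U = ⊥ := by
  obtain ⟨p, hp, d⟩ := exists_prime_dvd_card u1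
  obtain ⟨S, hS⟩ := exists_syl p U
  have pU := h.hU.pi p hp d
  exact eq_bot_mono (h.mx.sigma'_kappa' (hS.syl_trans h.hU pU) (hS.syl_ne_bot hp d)
    (fun a => pU (.inl a)) fun a => pU (.inr a)).2.1
    (inf_le_inf_left _ (cent_anti ((Om_le p S).trans hS.le)))

theorem KapC.comm_eq (h : KapC M U K) (k1 : K ≠ ⊥) : ⁅U, K⁆ = U := h.reg.comm_eq h.sd.norm k1

theorem KapC.le_der (h : KapC M U K) (k1 : K ≠ ⊥) : U ≤ ⁅U ⊔ K, U ⊔ K⁆ :=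
  (h.comm_eq k1).ge.trans (commutator_mono le_sup_left le_sup_right)

/-- BG 14.2 (g) -/
theorem TyP2.facts (h : TyP2 M) (k : Hall (𝛋 M) K M) :
    𝛔 M = 𝛃 M ∧ (♯K).Prime ∧ TIIn (Mσ M) M := by
  obtain ⟨U, c⟩ := h.mx.exists_kapC k
  have u1 := h.ne_bot c
  have k1 := h.toTyP.ne_bot k
  obtain ⟨H, hH, l⟩ := c.sigE.der_cent_beta'
  obtain rfl : H = ⊥ := eq_bot_mono (c.Ms_inf_cent u1)
    (le_inf hH.le (cent_symm ((c.le_der k1).trans l)))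
  have b : PiGrp (𝛃 M) (Mσ M) := hH.pi'_of_eq_bot.of_compl_compl
  refine ⟨Set.Subset.antisymm (fun p a => b p a.1 ((h.mx.dvd_Ms_iff a.1).mpr a))
    h.mx.beta_sub_sigma, ?_, tiIn_of_inf_cj fun g hg => ?_⟩
  · exact ((c.frob k1 u1).primeAct c.sigE.sol (h.mx.odd' c.sigE.le) c.sigE.norm c.sigE.coprime h.nil_Ms
      h.mx.Ms_ne_bot c.context.2.1 (c.Ms_inf_cent u1)).1
  · exact eq_bot_mono (b.inf_left.eq_bot (h.mx.Ms_inf_cj hg).2.1)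
      (inf_le_inf_left _ (cj_mono g (O_le _ M)))

theorem Mx.ell1_of_sigma (m : Mx M) (x1 : x ≠ 1) (k : PiElt (𝛔 M) x) :
    ∃ g, SigMx x (BG.cj g M) := by
  obtain ⟨g, l⟩ := m.exists_cj_le_Ms k.zpowers
  exact ⟨g⁻¹, m.cj _, cj_Ms g⁻¹ M ▸ cj_le_iff.mp l (mem_zpowers x)⟩

theorem Mx.ell1_of_tau2 (m : Mx M) (y1 : y ≠ 1) (k : PiElt (𝛕₂ M) y) : Ell1 y := by
  obtain ⟨q, X, x⟩ := exists_prime_elem_one (ne_bot_of_mem (mem_zpowers y) y1)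
  have t := x.mem_of_pi k.zpowers
  obtain ⟨A, a⟩ := exists_elem_tau2 t
  obtain ⟨H, h, n⟩ := exists_mx_norm a.ne_bot (a.pw (m.w_of_tau2 t))
  obtain ⟨g, s⟩ := h.ell1_of_sigma y1 (k.mono fun r b => (m.tau2_sub_sigma t a h n b).1)
  exact s.ell1 y1

/-- BG 14.3 -/
theorem Mx.pi_of_cent_sigma (m : Mx M) (hx : x ∈ Mσ M) (x1 : x ≠ 1) (hy : y ∈ M) (c : y ∈ 𝐂₁ x)
    (y1 : y ≠ 1) (k : PiElt (𝛔 M)ᶜ y) :
    (PiElt (𝛋 M) y ∧ 𝐂₁ x ≤ M) ∨ (PiElt (𝛕₂ M) y ∧ Ell1 y ∧ UniqIn (𝐂₁ y) M) := by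
  have xc : x ∈ Mσ M ⊓ 𝐂₁ y := ⟨hx, mem_cent1_comm.mp c⟩
  by_cases t : PiElt (𝛕₂ M) y
  · exact .inr ⟨t, m.ell1_of_tau2 y1 t, m.tau2_uniqIn1 hy y1 t (ne_bot_of_mem xc x1)⟩
  obtain ⟨p, t⟩ := not_forall.mp t
  push Not at t
  obtain ⟨hp, d, t⟩ := t
  have ly := zpowers_le.mpr hy
  obtain ⟨X, e⟩ := exists_elem_one (H := zpowers y) hp (by rwa [Nat.card_zpowers])
  have t13 : p ∈ 𝛕₁ M ∪ 𝛕₃ M := by
    rcases m.partition_pi' ly k.zpowers hp e.dvd' with a | a | a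
    exacts [.inl a, (t a).elim, .inr a]
  have xX : x ∈ Mσ M ⊓ 𝐂 X := ⟨hx, cent_anti e.le (cent_zpowers y ▸ xc.2)⟩
  have pk := mem_kappa_of t13 (e.mono ly) (ne_bot_of_mem xX x1)
  obtain ⟨K, hK, l⟩ := m.sol.exists_hall_le (e.le.trans ly) (e.pi.of_single pk)
  have h : TyP M := ⟨m, p, pk⟩
  have d := Mx.kappa_dprod hK
  refine .inl ⟨hK.pi.elt ?_, h.cent1_le hK (m.kappa_cent_eq hK l e.ne_bot ▸ xX) x1⟩
  refine (d.symm.sdprod.hall_right (π := (𝛔 M)ᶜ) (O_pi _ M).inf_left.compl_compl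
    hK.kappa_sigma'V).mem_normal d.normal_left.norm ?_ k
  rw [← h.norm_elem hK (e.of_le l)]
  exact ⟨hy, (abel_zpowers y).le_norm e.le (mem_zpowers y)⟩

end CF.BG.Vp
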