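import Cfsg.Agent.Vp.S14
/-
BG section 14: the counting argument of 14.7.
-/
set_option autoImplicit false
set_option linter.unusedSectionVars false

namespace CF.BG.Vp
open Subgroup
open scoped commutatorElement Pointwise

section count
variable {G : Type*} [Group G] [Finite G] [MSO G] {L K : Subgroup G} {A : Set G} {x y g : G}

end count

variable {G : Type*} [Group G] [Finite G] [MSO G]
variable {A A₀ A₁ B C D E E₁ E₂ E₃ H K K' L M N P Q R S T U V W X Y Z : Subgroup G} {p q r : ℕ}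
variable {π : Set ℕ} {x y g : G}

/-- `M` is of type `P` with Hall `κ(M)`-subgroup `K` and `Z = K K*` -/
structure ZP (M K Z : Subgroup G) : Prop where
  tyP : TyP M
  hall : Hall (𝛋 M) K M
  sup : K ⊔ (Mσ M ⊓ 𝐂 K) = Z

namespace ZP

theorem mx (h : ZP M K Z) : Mx M := h.tyP.mx
theorem dprod (h : ZP M K Z) : DProd K (Mσ M ⊓ 𝐂 K) Z := h.sup ▸ Mx.kappa_dprod h.hall
theorem le (h : ZP M K Z) : Z ≤ M := h.sup ▸ sup_le h.hall.le (inf_le_left.trans (O_le _ M))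
theorem pw (h : ZP M K Z) : Pw Z := h.sup ▸ PiGrp.sup (pw_of_kappa h.hall.pi) (pw_Ms M).inf_left
  (.inr (norm_of_cent inf_le_right))
theorem norm_eq (h : ZP M K Z) : M ⊓ 𝐍 K = Z := (h.tyP.dprod_norm h.hall).sup.symm.trans h.sup
theorem norm_elem (h : ZP M K Z) (x : Elem p 1 X K) : M ⊓ 𝐍 X = Z :=
  (h.tyP.norm_elem h.hall x).trans h.sup
theorem K_ne (h : ZP M K Z) : K ≠ ⊥ := h.tyP.ne_bot h.hall
theorem Ks_ne (h : ZP M K Z) : Mσ M ⊓ 𝐂 K ≠ ⊥ := h.tyP.Kstar_ne_bot h.hall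
theorem hallK (h : ZP M K Z) : Hall (𝛔 M)ᶜ K Z :=
  h.dprod.sdprod.hall_left h.hall.kappa_sigma'V (O_pi _ M).inf_left.compl_compl
theorem hallKs (h : ZP M K Z) : Hall (𝛔 M) (Mσ M ⊓ 𝐂 K) Z :=
  h.dprod.sdprod.hall_right h.hall.kappa_sigma'V (O_pi _ M).inf_left
theorem leK (h : ZP M K Z) (l : Y ≤ Z) (k : PiGrp (𝛔 M)ᶜ Y) : Y ≤ K :=
  h.hallK.le_normal h.dprod.normal_left.norm l k
theorem leKs (h : ZP M K Z) (l : Y ≤ Z) (k : PiGrp (𝛔 M) Y) : Y ≤ Mσ M ⊓ 𝐂 K :=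
  h.hallKs.le_normal h.dprod.normal_right.norm l k
theorem memK (h : ZP M K Z) (l : y ∈ Z) (k : PiElt (𝛔 M)ᶜ y) : y ∈ K :=
  h.hallK.mem_normal h.dprod.normal_left.norm l k
theorem memKs (h : ZP M K Z) (l : y ∈ Z) (k : PiElt (𝛔 M) y) : y ∈ Mσ M ⊓ 𝐂 K :=
  h.hallKs.mem_normal h.dprod.normal_right.norm l k

theorem eq_K (h : ZP M K Z) (k : ZP M K' Z) : K = K' :=
  le_antisymm (k.leK h.dprod.left_le h.hallK.pi) (h.leK k.dprod.left_le k.hallK.pi)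

theorem not_conj (h : ZP M K Z) (x : Elem p 1 X K) (m : Mx L) (n : 𝐍 X ≤ L) : ¬ Conj M L :=
  h.mx.not_conj_of_norm m x.pi (x.le.trans h.hall.le) n (.inr (kappa_tau13 (x.mem_of_pi h.hall.pi)))
    (w_of_kappa (x.mem_of_pi h.hall.pi))

theorem le_of_norm (h : ZP M K Z) (x : Elem p 1 X K) (n : 𝐍 X ≤ L) : Z ≤ L :=
  h.norm_elem x ▸ inf_le_right.trans n

theorem kappa_Ks (h : ZP M K Z) (x : Elem p 1 X K) (m : Mx L) (n : 𝐍 X ≤ L) :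
    PiGrp (𝛋 L) (Mσ M ⊓ 𝐂 K) := by
  have nc := h.not_conj x m n
  obtain ⟨a, a1, ha, -⟩ := x.exists_gen
  refine piGrp_of_forall_elt fun y hy => ?_
  by_cases y1 : y = 1
  · exact y1 ▸ piElt_one _
  refine ((m.pi_of_cent_sigma (h.tyP.le_Ms_of_norm h.hall x m n ha) a1
    (h.le_of_norm x n (h.dprod.right_le hy)) (cent_le_cent1 (x.le ha) hy.2) y1
    (((O_pi _ M).elt hy.1).mono fun q a => h.mx.sigma_partition m nc a)).resolve_right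
    fun t => nc ?_).1
  exact t.2.2.uniq M h.mx (h.tyP.cent1_le h.hall hy y1) ▸ Conj.refl M

theorem step_le (h : ZP M K Z) (x : Elem p 1 X K) (m : Mx L) (n : 𝐍 X ≤ L) (k : Hall (𝛋 L) K' L)
    (l : Mσ M ⊓ 𝐂 K ≤ K') : Z ≤ K' ⊔ (Mσ L ⊓ 𝐂 K') ∧ X ≤ Mσ L ⊓ 𝐂 K' := by
  obtain ⟨q, Y, y⟩ := exists_prime_elem_one h.Ks_ne
  have t := m.tyP_of k (ne_bot_mono h.Ks_ne l)
  have cY : K ≤ 𝐂 Y := cent_symm (y.le.trans inf_le_right)
  refine ⟨?_, ?_⟩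
  · rw [← t.norm_elem k (y.mono l)]
    exact le_inf (h.le_of_norm x n) (h.sup ▸ sup_le (norm_of_cent cY)
      (l.trans (m.kappa_norm_elem k (y.mono l))))
  · rw [← m.kappa_cent_eq k (y.le.trans l) y.ne_bot]
    exact le_inf (h.tyP.le_Ms_of_norm h.hall x m n) (x.le.trans cY)

theorem step (h : ZP M K Z) (x : Elem p 1 X K) (m : Mx L) (n : 𝐍 X ≤ L) :
    ∃ K', ZP L K' Z ∧ p ∈ 𝛔 L := by
  obtain ⟨K', k, l⟩ := m.sol.exists_hall_le (h.dprod.right_le.trans (h.le_of_norm x n))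
    (h.kappa_Ks x m n)
  obtain ⟨l1, l2⟩ := h.step_le x m n k l
  have t := m.tyP_of k (ne_bot_mono h.Ks_ne l)
  refine ⟨K', ⟨t, k, le_antisymm ?_ l1⟩, (x.of_le l2).mem_of_pi (O_pi _ L).inf_left⟩
  have h' : ZP L K' _ := ⟨t, k, rfl⟩
  obtain ⟨q, Y, y⟩ := exists_prime_elem_one h.Ks_ne
  have nY : 𝐍 Y ≤ M := ((h.tyP.uniqIn_cent h.hall y).norm_of_cent ((pw_Ms M).inf_left.le y.le)).le
  obtain ⟨K'', k', l'⟩ := h.mx.sol.exists_hall_le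
    (h'.dprod.right_le.trans (h'.le_of_norm (y.mono l) nY)) (h'.kappa_Ks (y.mono l) h.mx nY)
  rw [← h.norm_elem x, h.tyP.norm_elem k' (x.of_le (l2.trans l'))]
  exact (h'.step_le (y.mono l) h.mx nY k' l').1

theorem eq_of_sigma (h : ZP M K Z) (k : ZP L K' Z) (a : p ∈ 𝛔 M) (b : p ∈ 𝛔 L) : M = L := by
  have e := (h.mx.conj_of_sigma k.mx a b).sigma_eqV
  obtain ⟨q, Y, y⟩ := exists_prime_elem_one h.Ks_ne
  exact (h.tyP.uniqIn_cent h.hall y).eq (k.tyP.uniqIn_cent k.hall (y.mono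
    (k.leKs h.dprod.right_le (e ▸ h.hallKs.pi))))

theorem not_conj_of_ne (h : ZP M K Z) (k : ZP L K' Z) (ne : M ≠ L) : ¬ Conj M L := fun c => by
  obtain ⟨p, hp, d⟩ := exists_prime_dvd_card h.Ks_ne
  exact ne (h.eq_of_sigma k (h.hallKs.pi p hp d) (c.sigma_eqV ▸ h.hallKs.pi p hp d))

theorem Ks_le (h : ZP M K Z) (k : ZP L K' Z) (ne : M ≠ L) : Mσ L ⊓ 𝐂 K' ≤ K :=
  h.leK k.dprod.right_le (k.hallKs.pi.mono fun _ b a => ne (h.eq_of_sigma k a b))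

theorem exists_sigma' (h : ZP M K Z) (hp : p.Prime) (d : p ∣ ♯K) :
    ∃ L K', ZP L K' Z ∧ p ∈ 𝛔 L := by
  obtain ⟨X, x⟩ := exists_elem_one hp d
  obtain ⟨L, m, n⟩ := exists_mx_norm x.ne_bot ((pw_of_kappa h.hall.pi).le x.le)
  exact ⟨L, h.step x m n⟩

theorem exists_sigma (h : ZP M K Z) (hp : p.Prime) (d : p ∣ ♯Z) : ∃ L K', ZP L K' Z ∧ p ∈ 𝛔 L := by
  rw [← h.dprod.card] at d
  exact (hp.dvd_mul.mp d).elim (h.exists_sigma' hp) fun d => ⟨M, K, h, h.hallKs.pi p hp d⟩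

theorem exists_ne (h : ZP M K Z) : ∃ L K', ZP L K' Z ∧ M ≠ L := by
  obtain ⟨p, hp, d⟩ := exists_prime_dvd_card h.K_ne
  obtain ⟨L, K', k, s⟩ := h.exists_sigma' hp d
  exact ⟨L, K', k, by rintro rfl; exact h.hallK.pi p hp d s⟩

theorem comm (hx : x ∈ K) (hy : y ∈ Mσ M ⊓ 𝐂 K) : x * y = y * x := hy.2 x hx

theorem constt_eq (h : ZP M K Z) (hx : x ∈ K) (hy : y ∈ Mσ M ⊓ 𝐂 K) :
    constt (𝛔 M) (x * y) = y ∧ constt (𝛔 M)ᶜ (x * y) = x := by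
  rw [comm hx hy]
  exact ⟨BG.constt_eq (h.hallKs.pi.elt hy) (h.hallK.pi.elt hx) (comm hx hy).symm,
    constt_eq' (h.hallKs.pi.elt hy) (h.hallK.pi.elt hx) (comm hx hy).symm⟩

theorem not_mem_cj (h : ZP M K Z) (hg : g ∉ M) {z : G} (hz : z ∈ Zhat K (Mσ M ⊓ 𝐂 K)) :
    z ∉ cj g M := fun a => by
  obtain ⟨x, hx, -, y, hy, y1, rfl⟩ := h.dprod.mem_Zhat.mp hz
  exact y1 (eq_one_of_mem_bot (h.tyP.Kstar_inf_cj h.hall hg)
    ⟨hy, (h.constt_eq hx hy).1 ▸ constt_mem_of_mem _ a⟩)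

theorem ti (h : ZP M K Z) {z : G} (hz : z ∈ Zhat K (Mσ M ⊓ 𝐂 K)) (a : g * z * g⁻¹ ∈ Z) : g ∈ Z := by
  have gM : g ∈ M := by_contra fun n =>
    h.not_mem_cj (mt M.inv_mem_iff.mp n) hz (mem_cj_inv.mpr (h.le a))
  obtain ⟨x, hx, x1, y, hy, y1, rfl⟩ := h.dprod.mem_Zhat.mp hz
  refine h.norm_eq ▸ ⟨gM, by_contra fun n => x1 ?_⟩
  have b := h.memK (constt_mem_of_mem (𝛔 M)ᶜ a) (constt_pi _ _)
  rw [constt_conj, (h.constt_eq hx hy).2] at b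
  simpa [mul_inv_eq_one] using
    eq_one_of_mem_bot (h.tyP.K_inf_cj h.hall gM n) ⟨b, conj_mem_cj.mpr hx⟩

theorem not_mem_tilde (h : ZP M K Z) (n : Mx N) {z : G} (hz : z ∈ Zhat K (Mσ M ⊓ 𝐂 K)) :
    z ∉ Tilde N := fun a => by
  obtain ⟨x, hx, x1, y, hy, y1, e⟩ := h.dprod.mem_Zhat.mp hz
  obtain ⟨u, u1, ⟨v, s⟩, r, hr, e'⟩ := (mem_Tilde n).mp a
  have z1 : z ≠ 1 := by rintro rfl; exact (mem_Zhat.mp hz).2.1 (one_mem _)
  have e2 : y⁻¹ * z = x := by rw [e, comm hx hy, inv_mul_cancel_left]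
  rcases sigma_dichotomy z1 (h.pw.elt (h.sup ▸ (mem_Zhat.mp hz).1)) with ⟨-, k⟩ | ⟨-, k⟩
  · exact k ⟨y, M, y1, ⟨h.mx, hy.1⟩, e2 ▸ ⟨h.hall.le hx, mem_cent1.mpr (comm hx hy)⟩, e2 ▸ x1,
      e2 ▸ h.hall.pi.elt hx⟩
  · exact k ⟨u, s.ell1 u1, by rwa [e', inv_mul_cancel_left]⟩

theorem not_mem_tilde' (h : ZP M K Z) (n : Mx N) (a : g ∈ clSupp (Zhat K (Mσ M ⊓ 𝐂 K)) ⊤) :
    g ∉ Tilde N := fun b => by
  obtain ⟨y, z, hz, rfl⟩ := mem_clSupp_top.mp a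
  exact h.not_mem_tilde n hz (by simpa [mul_assoc] using Tilde_conj b y⁻¹)

theorem lt (h : ZP M K Z) : Z < M := by
  refine lt_of_le_of_ne h.le fun e => ?_
  obtain ⟨p, hp, d⟩ := exists_prime_dvd_card h.Ks_ne
  obtain ⟨S, hS⟩ := exists_syl p (Mσ M)
  exact (h.tyP.uniqIn_syl h.hall hp d hS).2
    (h.leKs (e ▸ hS.le.trans (O_le _ M)) ((O_pi _ M).le hS.le))

theorem tilde_ge (h : ZP M K Z) (t : TyP1 M) :
    2 * ((♯(Mσ M ⊓ 𝐂 K) - 1) * Z.index) + Z.index ≤ 2 * (Tilde M).ncard := by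
  obtain ⟨U, c⟩ := h.mx.exists_kapC h.hall
  have s := c.sd_MsU
  rw [t.eq_bot c, sup_bot_eq] at s
  have e1 := s.card
  have e2 := card_mul_relIndex h.le
  have e3 := relIndex_mul_index h.le
  have e4 : Z.relIndex M ≠ 1 := fun e => h.lt.not_ge (relIndex_eq_one.mp e)
  have e5 := relIndex_pos Z M
  rw [← h.dprod.card, ← e1, mul_comm _ (♯K), mul_assoc] at e2
  rw [h.mx.card_tilde, ← Nat.eq_of_mul_eq_mul_left (card_pos' K) e2, ← e3]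
  obtain ⟨k, e⟩ : ∃ k, ♯(Mσ M ⊓ 𝐂 K) = k + 1 := ⟨_, (Nat.sub_add_cancel (card_pos' _)).symm⟩
  obtain ⟨b, e'⟩ : ∃ b, Z.relIndex M = b + 2 := ⟨Z.relIndex M - 2, by omega⟩
  rw [e, e', show (k + 1) * (b + 2) - 1 = k * (b + 2) + b + 1 by ring_nf; omega, Nat.add_sub_cancel]
  nlinarith [Nat.zero_le (b * M.index)]

theorem one_not_mem_tilde (m : Mx M) : (1 : G) ∉ Tilde M := fun a => by
  obtain ⟨x, x1, ⟨y, s⟩, r, hr, e⟩ := (mem_Tilde m).mp a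
  have := s.constt_mul x1 hr
  rw [← e, constt_of_pi (piElt_one _)] at this
  exact x1 this.symm

theorem exists_p2 (h : ZP M K Z) : ∃ L K', ZP L K' Z ∧ TyP2 L := by
  classical
  by_contra hn
  have p1 : ∀ {L K'}, ZP L K' Z → TyP1 L := fun k =>
    k.tyP.one_or_two.resolve_right fun t => hn ⟨_, _, k, t⟩
  let s : Finset (Subgroup G × Subgroup G) := (Set.toFinite {a | ZP a.1 a.2 Z}).toFinset
  have hs : ∀ {a}, a ∈ s ↔ ZP a.1 a.2 Z := by simp [s]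
  let T : Set G := {z | z ∈ Z ∧ ∀ L K', ZP L K' Z → z ∉ Mσ L ⊓ 𝐂 K'}
  have T1 : 1 ∉ T := fun a => a.2 M K h (one_mem _)
  have hT : ∀ z ∈ T, ∃ L K', ZP L K' Z ∧ z ∈ Zhat K' (Mσ L ⊓ 𝐂 K') := fun z a => by
    obtain ⟨p, hp, d⟩ := exists_prime_orderOf (x := z) (by rintro rfl; exact T1 a)
    obtain ⟨L, K', k, t⟩ := h.exists_sigma hp (d.trans (orderOf_dvd_card' a.1))
    exact ⟨L, K', k, mem_Zhat.mpr ⟨k.sup.symm ▸ a.1, fun b => k.hallK.pi.elt b p hp d t,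
      a.2 L K' k⟩⟩
  have c1 : (clSupp T ⊤).ncard = T.ncard * Z.index := TIIn.ncard_clSupp
    (fun z a _ g b => let ⟨_, _, k, t⟩ := hT z a; k.ti t b.1)
    (fun g hg z a => ⟨(NormalIn.refl Z).conj_mem hg a.1, fun L K' k b => a.2 L K' k (by
      simpa [mul_assoc] using k.dprod.normal_right.conj_mem' hg b)⟩) T1
  have c2 : ♯Z - 1 ≤ T.ncard + ∑ a ∈ s, (♯(Mσ a.1 ⊓ 𝐂 a.2) - 1) := by
    rw [← ncard_diff_one, ← Finset.sum_congr rfl fun a _ => ncard_diff_one (Mσ a.1 ⊓ 𝐂 a.2)]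
    refine le_trans (Set.ncard_le_ncard ?_) ((Set.ncard_union_le _ _).trans
      (Nat.add_le_add_left (Finset.set_ncard_biUnion_le s _) _))
    rintro z ⟨a, z1⟩
    by_cases b : z ∈ T
    · exact .inl b
    simp only [T, Set.mem_ofPred_eq, not_and, not_forall, not_not] at b
    obtain ⟨L, K', k, b⟩ := b a
    exact .inr (Set.mem_biUnion (x := (L, K')) (hs.mpr k) ⟨b, z1⟩)
  have c3 : ∑ a ∈ s, (Tilde a.1).ncard ≤ ((((⊤ : Subgroup G) : Set G) \ {1}) \ clSupp T ⊤).ncard := by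
    refine sum_ncard_le s _ _ (fun a ha b hb ne z => (hs.mp ha).mx.tilde_disjoint (hs.mp hb).mx
      ((hs.mp ha).not_conj_of_ne (hs.mp hb) fun e => ne (Prod.ext e ?_))) fun a ha z hz => ?_
    · exact (hs.mp ha).eq_K (e ▸ hs.mp hb)
    refine ⟨⟨trivial, by rintro rfl; exact one_not_mem_tilde (hs.mp ha).mx hz⟩, fun b => ?_⟩
    obtain ⟨y, w, hw, rfl⟩ := mem_clSupp_top.mp b
    obtain ⟨L, K', k, t⟩ := hT w hw
    exact k.not_mem_tilde' (hs.mp ha).mx (clSupp_conj (mem_clSupp_self t) y) hz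
  have c4 := Set.ncard_sdiff_add_ncard_of_subset (s := clSupp T ⊤)
    (t := ((⊤ : Subgroup G) : Set G) \ {1}) fun z b => ⟨trivial, by
      obtain ⟨y, w, hw, e⟩ := mem_clSupp_top.mp b
      rintro rfl
      obtain rfl : w = 1 := by simpa [eq_comm, mul_inv_eq_one] using e
      exact T1 hw⟩
  have c5 := Finset.sum_le_sum fun a (ha : a ∈ s) => (hs.mp ha).tilde_ge (p1 (hs.mp ha))
  rw [Finset.sum_add_distrib, ← Finset.mul_sum, ← Finset.mul_sum, ← Finset.sum_mul,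
    Finset.sum_const, smul_eq_mul] at c5
  have c6 : 1 < s.card := by
    obtain ⟨L, K', k, ne⟩ := h.exists_ne
    exact Finset.one_lt_card.mpr ⟨(M, K), hs.mpr h, (L, K'), hs.mpr k, fun e => ne (congrArg Prod.fst e)⟩
  rw [ncard_diff_one, card_top', ← Z.card_mul_index, c1] at c4
  obtain ⟨z, e⟩ : ∃ k, ♯Z = k + 1 := ⟨_, (Nat.sub_add_cancel (card_pos' _)).symm⟩
  have i0 := Nat.pos_of_ne_zero (index_ne_zero_of_finite (H := Z))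
  rw [e] at c2 c4
  have c7 := Nat.mul_le_mul_right Z.index c2
  have c8 := Nat.mul_le_mul_right Z.index c6
  rw [Nat.add_sub_cancel, add_mul] at c7
  rw [add_mul, one_mul] at c4
  rw [Nat.succ_eq_add_one] at c8
  omega

theorem pair_of_prime (h : ZP M K Z) (hp : (♯K).Prime) : ∃ N, M ≠ N ∧ ZP N (Mσ M ⊓ 𝐂 K) Z ∧
    Mσ N ⊓ 𝐂 (Mσ M ⊓ 𝐂 K) = K ∧ ∀ L K', ZP L K' Z → L = M ∨ L = N := by
  have key : ∀ {L K'}, ZP L K' Z → M ≠ L → Mσ L ⊓ 𝐂 K' = K := fun k ne =>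
    eq_of_prime_of_ne_bot hp (h.Ks_le k ne) k.Ks_ne
  obtain ⟨N, K', k, ne⟩ := h.exists_ne
  have e := key k ne
  obtain rfl : Mσ M ⊓ 𝐂 K = K' := by
    refine eq_of_card_eq (k.Ks_le h ne.symm) (Nat.eq_of_mul_eq_mul_left (card_pos' K) ?_)
    rw [h.dprod.card, mul_comm, ← k.dprod.card, e]
  refine ⟨N, ne, k, e, fun L K' l => or_iff_not_imp_left.mpr fun ne' => ?_⟩
  exact l.eq_of_sigma k ((key l (Ne.symm ne') ▸ l.hallKs.pi) _ hp dvd_rfl)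
    ((e ▸ k.hallKs.pi) _ hp dvd_rfl)

theorem pair (h : ZP M K Z) : ∃ N, M ≠ N ∧ ZP N (Mσ M ⊓ 𝐂 K) Z ∧ Mσ N ⊓ 𝐂 (Mσ M ⊓ 𝐂 K) = K ∧
    (TyP2 M ∧ (♯K).Prime ∨ TyP2 N ∧ (♯(Mσ M ⊓ 𝐂 K)).Prime) := by
  obtain ⟨L, K', k, t⟩ := h.exists_p2
  have hp := (t.facts k.hall).2.1
  obtain ⟨N, ne, k', e, a⟩ := k.pair_of_prime hp
  rcases a M K h with rfl | rfl
  · obtain rfl := h.eq_K k
    exact ⟨N, ne, k', e, .inl ⟨t, hp⟩⟩
  · obtain rfl := h.eq_K k'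
    rw [e]
    exact ⟨L, ne.symm, k, rfl, .inr ⟨t, hp⟩⟩

theorem cyc_K (h : ZP M K Z) (n : Nil K) : Cyc K :=
  n.cyc_of_rank (h.mx.odd' h.hall.le) (rank_le_of_tau13 h.hall.le (h.hall.pi.mono fun _ => kappa_tau13))

theorem card_clSupp (h : ZP M K Z) (a : Abel Z) :
    ♯K * ♯(Mσ M ⊓ 𝐂 K) * (clSupp (Zhat K (Mσ M ⊓ 𝐂 K)) ⊤).ncard =
      (♯K - 1) * (♯(Mσ M ⊓ 𝐂 K) - 1) * Nat.card G := by
  rw [TIIn.ncard_clSupp (L := Z) (fun z hz _ g b => h.ti hz (h.sup ▸ (mem_Zhat.mp b).1))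
    (fun g hg z hz => by
      rwa [a.mul_comm hg (h.sup ▸ (mem_Zhat.mp hz).1), mul_inv_cancel_right])
    (fun b => (mem_Zhat.mp b).2.1 (one_mem _)), h.dprod.ncard_Zhat, h.dprod.card,
    ← Z.card_mul_index]
  ring

theorem half (h : ZP M K Z) (a : Abel Z) :
    Nat.card G < 2 * (clSupp (Zhat K (Mσ M ⊓ 𝐂 K)) ⊤).ncard := by
  have e := h.card_clSupp a
  have l := half_aux (h.mx.odd' h.hall.le) (h.mx.odd' (inf_le_left.trans (O_le _ M))) (one_lt_card.mpr h.K_ne)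
    (one_lt_card.mpr h.Ks_ne) (h.hallK.pi.coprime' h.hallKs.pi)
  refine Nat.lt_of_mul_lt_mul_left (a := ♯K * ♯(Mσ M ⊓ 𝐂 K)) ?_
  rw [mul_left_comm, e, ← mul_assoc]
  exact Nat.mul_lt_mul_of_pos_right l Nat.card_pos

theorem cyc (h : ZP M K Z) : Cyc Z := by
  obtain ⟨N, -, k, e, t⟩ := h.pair
  have c := h.hallK.pi.coprime' h.hallKs.pi
  rcases t with ⟨t, hp⟩ | ⟨t, hp⟩
  · exact h.dprod.cyc (cyc_of_prime hp) (k.cyc_K (t.nil_Ms.mono inf_le_left)) c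
  · exact h.dprod.cyc (h.cyc_K (t.nil_Ms.mono (e.ge.trans inf_le_left))) (cyc_of_prime hp) c

theorem inf_cent1 (h : ZP M K Z) (hx : x ∈ K) (x1 : x ≠ 1) : M ⊓ 𝐂₁ x = Z := by
  have a := h.cyc.abel
  have l := zpowers_le.mpr hx
  refine le_antisymm ?_ (le_inf h.le (a.trans (cent_le_cent1 (h.dprod.left_le hx))))
  rw [← h.sup, ← h.mx.kappa_inf_norm h.hall l (ne_bot_of_mem (mem_zpowers x) x1)
    ((a.mono h.dprod.left_le).le_norm l), ← cent_zpowers]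
  exact inf_le_inf_left _ (cent_le_norm _)

theorem Ms_inf (h : ZP M K Z) (n : Mx N) (nc : ¬ Conj M N) (l : K ≤ Mσ N) :
    Mσ M ⊓ N ≤ Mσ M ⊓ 𝐂 K := by
  refine le_inf inf_le_left (comm_eq_bot.mp (eq_bot_mono ((O_pi _ M).inf_eq_bot
    ((O_pi _ N).mono fun p a b => h.mx.sigma_partition n nc b a)) (le_inf ?_ ?_)))
  · exact (commutator_mono inf_le_left h.hall.le).trans (comm_le_left (O_normal _ M).norm)
  · exact (commutator_mono inf_le_right l).trans (comm_le_right (O_normal _ N).norm)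

end ZP
end CF.BG.Vp
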