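import Cfsg.Agent.Vp.S15a
/-
BG section 15, second part (15.3 - 15.6).
-/
set_option autoImplicit false
set_option linter.unusedSectionVars false
set_option linter.unusedVariables false

namespace CF.BG.Vp
open Subgroup
open scoped commutatorElement Pointwise

variable {G : Type*} [Group G] [Finite G] [MSO G]
variable {A A₀ A₁ B C D E E₁ E₂ E₃ H K L M N P Q R S T U V W X Y Z : Subgroup G} {p q r : ℕ}
variable {π : Set ℕ} {x y g : G}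

theorem KapC.cj_mem (h : KapC M U K) (hg : g ∈ M) : KapC M (BG.cj g U) (BG.cj g K) := by
  have := h.cj g
  rwa [cj_of_mem hg] at this

theorem Mx.exists_kapC_ge (m : Mx M) (hX : X ≤ M) (k : PiGrp (𝛔 M ∪ 𝛋 M)ᶜ X) :
    ∃ U K, KapC M U K ∧ X ≤ U := by
  obtain ⟨U, K, u⟩ := m.exists_kapC'
  obtain ⟨g, hg, l⟩ := u.hU.le_cj m.sol hX k
  exact ⟨_, _, u.cj_mem hg, l⟩

theorem Mx.exists_kapC_of_hall (m : Mx M) (k : Hall (𝛔 M ∪ 𝛋 M)ᶜ U M) : ∃ K, KapC M U K := by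
  obtain ⟨U', K, u, l⟩ := m.exists_kapC_ge k.le k.pi
  exact ⟨K, k.eq_of_le' u.hU l ▸ u⟩

theorem pi_compl_union {ρ : Set ℕ} (a : PiGrp πᶜ X) (b : PiGrp ρᶜ X) : PiGrp (π ∪ ρ)ᶜ X :=
  (a.inter b).mono (Set.compl_union _ _).ge

theorem Mx.cyc_of_cent_hall (m : Mx M) (h : Hall π H (Mσ M)) (h1 : H ≠ ⊥) (hY : Y ≤ M)
    (c : Y ≤ 𝐂 H) (k : PiGrp (𝛔 M)ᶜ Y) : Cyc Y ∧ PiGrp (𝛕₂ M) Y := by
  by_cases y1 : Y = ⊥
  · exact y1 ▸ ⟨cyc_bot, piGrp_bot _⟩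
  have k' : PiGrp (𝛋 M)ᶜ Y := by
    intro p hp d pk
    obtain ⟨X, x⟩ := exists_elem_one hp d
    obtain ⟨K, hK, l⟩ := m.sol.exists_hall_le (x.le.trans hY) (x.pi.of_single pk)
    obtain ⟨r, hr, dr⟩ := exists_prime_dvd_card h1
    obtain ⟨S, s⟩ := exists_syl r H
    have lH : H ≤ Mσ M ⊓ 𝐂 K := by
      rw [← (m.kappa_primeAct hK).cent l x.ne_bot]
      exact le_inf h.le (cent_symm (x.le.trans c))
    exact ((TyP.mk m ⟨p, pk⟩).uniqIn_syl hK hr (dr.trans (card_dvd lH))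
      (s.syl_trans h (h.pi r hr dr))).2 (s.le.trans lH)
  obtain ⟨U, K, u, l⟩ := m.exists_kapC_ge hY (pi_compl_union k k')
  exact (u.of_cent l y1 (ne_bot_mono h1 (le_inf h.le (cent_symm c)))).2

/-- BG 15.3 (a) -/
theorem Mx.cent_hall_sigma (m : Mx M) (h : Hall π H (Mσ M)) (h1 : H ≠ ⊥) :
    ∃ X, SDProd (Mσ M ⊓ 𝐂 H) X (M ⊓ 𝐂 H) ∧ Cyc X ∧ PiGrp (𝛕₂ M) X := by
  have n : M ⊓ 𝐂 H ≤ 𝐍 (Mσ M) := inf_le_left.trans (O_normal _ M).norm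
  have a := m.hall_Ms.inf_of_norm' inf_le_left n
  obtain ⟨X, b, c⟩ := a.exists_compl (norm_inf n (le_norm_self _))
  rw [← inf_assoc, inf_eq_left.mpr (O_le _ M)] at b
  exact ⟨X, b, m.cyc_of_cent_hall h h1 (c.le.trans inf_le_left) (c.le.trans inf_le_right) c.pi⟩

theorem Mx.Ms_fusion (m : Mx M) (hx : x ∈ Mσ M) (a : g * x * g⁻¹ ∈ Mσ M) :
    ∃ b ∈ M, b * x * b⁻¹ = g * x * g⁻¹ := by
  by_cases x1 : x = 1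
  · exact ⟨1, one_mem M, by simp [x1]⟩
  have s : SigMx x M := ⟨m, hx⟩
  have s' := (SigMx.mk m a).cj g⁻¹
  rw [show g⁻¹ * (g * x * g⁻¹) * g⁻¹⁻¹ = x by group] at s'
  obtain ⟨r, ⟨hr, e⟩, -⟩ := (s.ell1 x1).sigR_facts.1 _ _ s s'
  have := inv_mem (m.cj_eq_iff.mp e)
  refine ⟨g * r, by simpa using this, ?_⟩
  have c := mem_cent1.mp (sigR_le x hr)
  calc g * r * x * (g * r)⁻¹ = g * (r * x) * r⁻¹ * g⁻¹ := by group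
    _ = g * x * g⁻¹ := by rw [c]; group

theorem hall_self_Ms (M : Subgroup G) : Hall (𝛔 M) (Mσ M) (Mσ M) := Hall.refl (O_pi _ M)

/-- BG 15.5 (a) -/
theorem Mx.cyc_O_F (m : Mx M) : Cyc (𝐎 (𝛔 M)ᶜ (𝐅 M)) ∧ PiGrp (𝛕₂ M) (𝐎 (𝛔 M)ᶜ (𝐅 M)) :=
  m.cyc_of_cent_hall (hall_self_Ms M) m.Ms_ne_bot ((O_le _ _).trans (F_le M))
    (cent_symm (O_cent_normal ((F_normal M).O _) (O_pi _ _))) (O_pi _ _)

theorem Mx.cent_Fh_le (m : Mx M) : M ⊓ 𝐂 (𝐅ₕ M) ≤ 𝐅 M := by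
  by_cases n : Nil (Mσ M)
  · rw [m.Fh_eq_iff.mpr n]
    obtain ⟨X, a, b, -⟩ := m.cent_hall_sigma (hall_self_Ms M) m.Ms_ne_bot
    exact le_F (normalIn_inf_cent (O_normal _ M).norm) ((a.dprod ((a.right_le.trans
      inf_le_right).trans (cent_anti inf_le_left))).nil (n.mono inf_le_left) b.nil)
  · obtain ⟨K, k⟩ := m.sol.exists_hall (𝛋 M)
    obtain ⟨D, d⟩ := (m.sol' (O_le (𝛔 M) M)).exists_hall {♯(Mσ M ⊓ 𝐂 K)}ᶜ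
    rw [← (m.of_not_nil' k n rfl rfl d).2.2.2.2.2.1]
    exact (inf_le_inf_left _ (cent_anti (O_le_Fh (m.not_nil_aux k n rfl).2.2.2.2))).trans
      le_sup_right

theorem Mx.F_dprod (m : Mx M) : DProd (𝐅 (Mσ M)) (𝐎 (𝛔 M)ᶜ (𝐅 M)) (𝐅 M) := by
  rw [F_O]; exact BG.F_dprod _ M

/-- BG 15.5 (b) -/
theorem Mx.F_struct (m : Mx M) :
    ⁅⁅M, M⁆, ⁅M, M⁆⁆ ≤ 𝐅 M ∧ 𝐅ₕ M ⊔ (M ⊓ 𝐂 (𝐅ₕ M)) = 𝐅 M ∧
      DProd (𝐅 (Mσ M)) (𝐎 (𝛔 M)ᶜ (𝐅 M)) (𝐅 M) := by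
  refine ⟨?_, le_antisymm (sup_le (Fh_le_F M) m.cent_Fh_le) ?_, m.F_dprod⟩
  · by_cases n : Nil (Mσ M)
    · exact m.der2_le_Ms.trans (le_F (O_normal _ M) n)
    · obtain ⟨K, k⟩ := m.sol.exists_hall (𝛋 M)
      obtain ⟨D, d⟩ := (m.sol' (O_le (𝛔 M) M)).exists_hall {♯(Mσ M ⊓ 𝐂 K)}ᶜ
      rw [← (m.tyP1_of_not_nil n).Ms_eq]
      exact (m.of_not_nil' k n rfl rfl d).2.2.2.2.1
  · refine (BG.F_dprod (piOf (♯(𝐅ₕ M))) M).sup.ge.trans (sup_le_sup ?_ ?_)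
    · exact (Fh_hall M).le_of_normal ((F_normal M).O _) (O_pi _ _)
    · exact le_inf ((O_le _ _).trans (F_le M))
        (O_compl_cent_normal ((Fh_normal M).of_le (Fh_le_F M) (F_le M)) (piGrp_piOf _))

/-- BG 15.5 (c) -/
theorem Mx.nil_qt_Fh (m : Mx M) : Nil (qt (𝐅ₕ M) ⁅M, M⁆) := by
  have nn := (der_le M).trans (Fh_normal M).norm
  by_cases n : Nil (Mσ M)
  · exact ((abel_qt_iff nn).mpr (m.der2_le_Ms.trans (m.Fh_eq_iff.mpr n).ge)).nil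
  · obtain ⟨K, k⟩ := m.sol.exists_hall (𝛋 M)
    obtain ⟨-, -, -, nl, s⟩ := m.not_nil_aux k n rfl
    rw [(m.tyP1_of_not_nil n).Ms_eq] at nl s
    exact nl.qt_mono ((der_le M).trans (O_normal _ M).norm) nn (inf_le_left.trans (O_le_Fh s))

theorem tau2_sub_kappa' (M : Subgroup G) : 𝛕₂ M ⊆ (𝛋 M)ᶜ := fun _ a b => kappa_not_tau2 b a

theorem KapC.F_le (h : KapC M U K) : 𝐅 M ≤ Mσ M ⊔ U := by
  exact h.mx.F_dprod.sup.ge.trans (sup_le ((BG.F_le (Mσ M)).trans le_sup_left)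
    (h.hall_MsU.le_of_normal ((F_normal M).O _) (h.mx.cyc_O_F.2.mono (tau2_sub_kappa' M))))

/-- BG 15.5 (d) -/
theorem TyP.F_le_der (h : TyP M) : 𝐅 M ≤ ⁅M, M⁆ := by
  obtain ⟨U, K, u⟩ := h.mx.exists_kapC'
  exact u.F_le.trans (u.der_eq (h.ne_bot u.hK)).le

theorem TyP.der_sdprod (h : TyP M) (k : Hall (𝛋 M) K M) : SDProd ⁅M, M⁆ K M :=
  let ⟨_, pp⟩ := h.exists_pPair k; pp.der

theorem TyP.hall_der (h : TyP M) : Hall (𝛋 M)ᶜ ⁅M, M⁆ M :=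
  let ⟨_, k⟩ := h.mx.sol.exists_hall (𝛋 M); (h.der_sdprod k).hall_compl_left k

/-- BG 15.6 -/
theorem TyP.cyclics (h : TyP M) (k : Hall (𝛋 M) K M) :
    Cyc (Mσ M ⊓ 𝐂 K) ∧ Mσ M ⊓ 𝐂 K ≤ ⁅⁅M, M⁆, ⁅M, M⁆⁆ ∧ Mσ M ⊓ 𝐂 K ≤ 𝐅ₕ M ∧ ¬ Cyc (𝐅ₕ M) := by
  have m := h.mx
  obtain ⟨N, pp⟩ := h.exists_pPair k
  have l2 : Mσ M ⊓ 𝐂 K ≤ ⁅⁅M, M⁆, ⁅M, M⁆⁆ := (inf_le_inf_right _ m.Ms_le_der).trans
    (pp.der.comm_eq_of_le_der (pp.der.coprime h.hall_der) (m.sol' (der_le M)) le_rfl).2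
  refine ⟨pp.cyc.mono le_sup_right, l2, ?_, fun c => ?_⟩
  · by_cases n : Nil (Mσ M)
    · exact inf_le_left.trans (m.Fh_eq_iff.mpr n).ge
    · obtain ⟨-, -, l, -, s⟩ := m.not_nil_aux k n rfl
      exact l.trans (O_le_Fh s)
  · have c1 := c.der_le_cent (Fh_normal M).norm
    have e := m.Fh_eq_iff.mpr (nil_of_le_F (m.Ms_le_der.trans
      ((le_inf (der_le M) c1).trans m.cent_Fh_le)))
    obtain ⟨U, u⟩ := m.exists_kapC k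
    have k1 := h.ne_bot k
    have ab : Abel (Mσ M ⊔ U) := (e ▸ c.abel).sup (u.context.2.2.2 k1)
      (cent_symm (e ▸ (le_sup_right.trans (u.der_eq k1).le).trans c1))
    rw [u.der_eq k1] at ab
    exact h.Kstar_ne_bot k (eq_bot_mono (der_eq_bot.mpr ab) l2)

end CF.BG.Vp
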