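import Cfsg.Agent.Vp.S15c
import Cfsg.Agent.Vp.Ty
/-
BG section 16, first part: the summary theorems A - E.
-/
set_option autoImplicit false
set_option linter.unusedSectionVars false
set_option linter.unusedVariables false

namespace CF.BG.Vp
open Subgroup
open scoped commutatorElement Pointwise

section general
variable {G : Type*} [Group G] [Finite G] [MSO G] {A B H K M U : Subgroup G} {π : Set ℕ} {x : G}

end general

variable {G : Type*} [Group G] [Finite G] [MSO G]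
variable {A A₀ A₁ B C D E E₁ E₂ E₃ H K L M N P Q R S T U V W X Y Z : Subgroup G} {p q r : ℕ}
variable {π : Set ℕ} {a x y g : G}

theorem Mx.hall_KMs (m : Mx M) (k : Hall (𝛋 M) K M) : Hall (𝛔 M ∪ 𝛋 M) (K ⊔ Mσ M) M := by
  rw [sup_comm]
  exact m.hall_Ms.union_sup k (Or.inr (k.le.trans (O_normal _ M).norm))

theorem Mx.kapC_of_dec (m : Mx M) (h : IsSigmaDecomposition M K U) : KapC M U K := by
  have k := hall_iff.mpr h.hall
  have u := complIn_hall h.compl (m.hall_KMs k)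
  refine ⟨m, u, k, (u.union_sup k (Or.inr h.normal)).congr fun p _ _ => ⟨?_, fun c => ?_⟩⟩
  · rintro (c | c)
    · exact fun d => c (Or.inl d)
    · exact kappa_sigma' c
  · by_cases d : p ∈ 𝛋 M
    · exact Or.inr d
    · exact Or.inl fun e => e.elim c d

theorem KapC.dec (h : KapC M U K) : IsSigmaDecomposition M K U := by
  have k := h.mx.hall_KMs h.hK
  refine ⟨h.mx.kappa_cyc h.hK, hall_iff.mp h.hK, ⟨h.hU.le, k.le, h.hU.pi.inf_eq_bot' k.pi,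
    fun m hm => ?_⟩, h.context.1.norm⟩
  obtain ⟨a, ha, b, hb, e⟩ := h.hU.exists_mul k.compl_compl hm
  exact ⟨a, ha, b, hb, e.symm⟩

theorem Mx.tiIn_F (m : Mx M) (h : TyP2 M ∨ 𝐅ₕ M ≠ Mσ M) : TIIn (𝐅 M) M :=
  tiIn_of_inf_cj fun g hg => by_contra fun c => by
    obtain ⟨a, b, -⟩ := m.nonTI_facts hg c
    exact h.elim (fun t => a.elim (fun f => f.not_tyP t.toTyP) fun f => f.not_tyP2 t) fun t => t b

theorem Mx.isTI_F (m : Mx M) (h : TyP2 M ∨ 𝐅ₕ M ≠ Mσ M) : Cfsg.IsTISubset (𝐅 M : Set G) :=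
  (m.tiIn_F h).isTI (F_normal M).norm

theorem Mx.sylow_sigma' (m : Mx M) (hU : U ≤ M) (k : PiGrp (𝛔 M)ᶜ U) (p : ℕ) (hp : p.Prime)
    (P : Sylow p U) : IsMulCommutative (P : Subgroup U) ∧ Cfsg.PRankLE p 2 (P : Subgroup U) := by
  have := Fact.mk hp
  have s := syl_sylow P
  refine ⟨((abel_map_iff U.subtype_injective).mp
    (m.abel_of_nil (s.le.trans hU) (k.le s.le) s.pi.nil)).comm, (pRankLE_iff hp).mpr ?_⟩
  obtain ⟨E, e, l⟩ := m.exists_sigE hU k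
  rw [← pRank_map p _ U.subtype_injective]
  exact (pRank_mono p (s.le.trans l)).trans ((pRank_le_rank p E).trans e.rank_le)

/-- the elements of `A(M) - M_σ` -/
def InB (M : Subgroup G) : Set G :=
  {a | a ∈ M ∧ PiElt (𝛋 M)ᶜ a ∧ ¬ PiElt (𝛔 M) a ∧ Mσ M ⊓ 𝐂₁ a ≠ ⊥}

/-- the elements of `A₀(M) - A(M)` -/
def InZ (M : Subgroup G) : Set G := {a | a ∈ M ∧ ¬ PiElt (𝛋 M)ᶜ a ∧ ¬ PiElt (𝛋 M) a}

theorem Mx.uniqIn_of_inB (m : Mx M) (h : a ∈ InB M) : UniqIn (𝐂₁ (constt (𝛔 M)ᶜ a)) M := by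
  obtain ⟨a1, a2, a3, a4⟩ := h
  obtain ⟨U, K, u, l⟩ := m.exists_kapC_ge (zpowers_le.mpr (constt_mem_of_mem (𝛔 M)ᶜ a1))
    (pi_compl_union (constt_pi _ a).zpowers (a2.of_mem_zpowers (constt_mem _ a)).zpowers)
  exact (u.tau2_of_cent (l (mem_zpowers _)) (fun c => a3 (constt_eq_one.mp c).of_compl_compl)
    (ne_bot_mono a4 (inf_le_inf_left _ (cent1_le_cent1_constt _ a)))).2.2

theorem Mx.tiIn_inB (m : Mx M) : TIIn (InB M) M := fun a ha _ g hg => by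
  have := (m.uniqIn_of_inB hg).le
  rw [constt_conj, ← cj_cent1] at this
  exact (m.uniqIn_of_inB ha).mem_of_cj_le this

theorem inB_conj (hg : g ∈ M) (h : a ∈ InB M) : g * a * g⁻¹ ∈ InB M :=
  ⟨conj_mem_of_norm (le_norm_self M hg) h.1, h.2.1.conj g, fun c => h.2.2.1 (piElt_conj_iff.mp c),
    inf_cent1_conj ((O_normal _ M).norm hg) h.2.2.2⟩

theorem inZ_conj (hg : g ∈ M) (h : a ∈ InZ M) : g * a * g⁻¹ ∈ InZ M :=
  ⟨conj_mem_of_norm (le_norm_self M hg) h.1, fun c => h.2.1 (piElt_conj_iff.mp c),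
    fun c => h.2.2 (piElt_conj_iff.mp c)⟩

theorem Mx.isTI_inB (m : Mx M) : Cfsg.IsTISubset (InB M) := m.tiIn_inB.isTI' fun _ hg _ => inB_conj hg

theorem Mx.mem_Ms_iff (m : Mx M) : a ∈ Mσ M ↔ a ∈ M ∧ PiElt (𝛔 M) a :=
  ⟨fun h => ⟨O_le _ M h, (O_pi _ M).elt h⟩, fun h => m.hall_Ms.mem_O h.1 h.2⟩

theorem KapC.mem_MsU_iff (h : KapC M U K) : a ∈ Mσ M ⊔ U ↔ a ∈ M ∧ PiElt (𝛋 M)ᶜ a :=
  ⟨fun k => ⟨h.normal_MsU.le k, h.pi_MsU.elt k⟩, fun k => h.mem_MsU k.1 k.2⟩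

theorem mem_sigmaHat : a ∈ sigmaHat M ↔ a ∈ M ∧ Mσ M ⊓ 𝐂₁ a ≠ ⊥ :=
  and_congr_right fun _ => inf_cent1_ne_bot.symm

theorem kappa_inf_Kstar (k : Hall (𝛋 M) K M) : K ⊓ (Mσ M ⊓ 𝐂 K) = ⊥ :=
  k.pi.inf_eq_bot (Ms_pi_kappa' M).inf_left

theorem Zhat_sub_inZ (k : Hall (𝛋 M) K M) (h : a ∈ Zhat K (Mσ M ⊓ 𝐂 K)) :
    a ∈ InZ M ∧ Mσ M ⊓ 𝐂₁ a ≠ ⊥ := by
  obtain ⟨x, hx, x1, y, hy, y1, rfl⟩ := Zhat_decomp (cent_symm inf_le_right) h
  have c : x * y = y * x := hy.2 x hx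
  have px := k.pi.elt hx
  have py := (Ms_pi_kappa' M).elt hy.1
  refine ⟨⟨mul_mem (k.le hx) (O_le _ M hy.1), fun d => x1 ?_, fun d => y1 ?_⟩,
    inf_cent1_ne_bot.mpr ⟨y, hy.1, y1, by rw [c, mul_assoc, c]⟩⟩
  · rw [← constt_eq px py c, constt_eq_one.mpr d]
  · rw [← constt_eq' px py c, constt_eq_one.mpr d.compl_compl]

theorem Mx.clSupp_Zhat (m : Mx M) (k : Hall (𝛋 M) K M) :
    clSupp (Zhat K (Mσ M ⊓ 𝐂 K)) M = InZ M := by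
  ext a
  refine ⟨?_, fun h => ?_⟩
  · rintro ⟨g, hg, z, hz, rfl⟩
    exact inZ_conj hg (Zhat_sub_inZ k hz).1
  · obtain ⟨g, hg, b⟩ := k.conj_mem m.sol (constt_mem_of_mem (𝛋 M) h.1) (constt_pi _ a)
    have h' := inZ_conj hg h
    rw [← constt_conj] at b
    have b1 : constt (𝛋 M) (g * a * g⁻¹) ≠ 1 := fun c => h'.2.1 (constt_eq_one.mp c)
    obtain ⟨N, pp⟩ := (m.tyP_of k (ne_bot_of_mem b b1)).exists_pPair k
    refine ⟨g⁻¹, inv_mem hg, g * a * g⁻¹, mem_Zhat.mpr ⟨?_, fun c => h'.2.2 (k.pi.elt c),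
      fun c => h'.2.1 ((Ms_pi_kappa' M).elt c.1)⟩, by group⟩
    rw [← pp.cent_K _ b b1]
    exact ⟨h'.1, cent1_le_cent1_constt _ _ (self_mem_cent1 _)⟩

theorem Mx.hat_of_inZ (m : Mx M) (h : a ∈ InZ M) : Mσ M ⊓ 𝐂₁ a ≠ ⊥ := by
  obtain ⟨K, k⟩ := m.sol.exists_hall (𝛋 M)
  rw [← m.clSupp_Zhat k] at h
  obtain ⟨g, hg, z, hz, rfl⟩ := h
  exact inf_cent1_conj ((O_normal _ M).norm hg) (Zhat_sub_inZ k hz).2

theorem Mx.tyP_of_inZ (m : Mx M) (h : a ∈ InZ M) : TyP M :=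
  m.tyP_of_not fun f => h.2.1 (by rw [f.kappa, Set.compl_empty]; exact piNat_univ _)

theorem Mx.tiIn_inZ (m : Mx M) : TIIn (InZ M) M := fun a ha a1 g hg => by
  obtain ⟨K, k⟩ := m.sol.exists_hall (𝛋 M)
  obtain ⟨N, pp⟩ := (m.tyP_of_inZ ha).exists_pPair k
  rw [← m.clSupp_Zhat k] at ha hg
  obtain ⟨b, hb, z, hz, rfl⟩ := ha
  obtain ⟨c, hc, w, hw, e⟩ := hg
  have : c⁻¹ * g * b ∈ M := (pp.inf_eq.ge.trans inf_le_left) (pp.ti z hz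
    (by rintro rfl; simp at a1) _ (by
      rwa [show c⁻¹ * g * b * z * (c⁻¹ * g * b)⁻¹ = c⁻¹ * (g * (b * z * b⁻¹) * g⁻¹) * c by group,
        e, show c⁻¹ * (c * w * c⁻¹) * c = w by group]))
  simpa [mul_assoc] using mul_mem (mul_mem hc this) (inv_mem hb)

theorem Mx.isTI_inZ (m : Mx M) : Cfsg.IsTISubset (InZ M) := m.tiIn_inZ.isTI' fun _ hg _ => inZ_conj hg

theorem TyP2.not_norm_le (h : TyP2 M) (k : KapC M U K) : ¬ NU M U := by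
  rintro ⟨e, w⟩
  obtain ⟨r, hr, d⟩ := exists_prime_dvd_card (h.ne_bot k)
  obtain ⟨R, s⟩ := exists_syl r U
  obtain ⟨H, m, l⟩ := exists_mx_norm (s.syl_ne_bot hr d) (w.le s.le)
  obtain ⟨N, pp, c⟩ := h.exists_pPair k.hK
  exact (h.signalizer k pp.tyP.mx c s m l (w.mem hr d)).2.2.2.1 (inf_le_right.trans e)

theorem PPair.selfNorm (h : PPair M K N) (t : TyP M) (k : Hall (𝛋 M) K M) :
    Cfsg.IsSelfNormalizingCyclic K (Mσ M ⊓ 𝐂 K) := by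
  refine ⟨t.ne_bot k, t.Kstar_ne_bot k, kappa_inf_Kstar k, fun a ha b hb => hb.2 a ha, h.cyc,
    fun X hX ⟨x, hx⟩ => le_antisymm ((h.ti.mono hX le_rfl).norm_le hx ?_)
      (h.cyc.abel.le_set_norm fun _ c => (hX c).1)⟩
  rintro rfl
  exact (hX hx).2 (Or.inl (one_mem K))

theorem SigMany.nil_N (h : SigMany x) (x1 : x ≠ 1) : Nil (Mσ (sigN x)) :=
  (h.facts x1).2.2.2.1.elim TyF.nil_Ms TyP2.nil_Ms

theorem SigMx.supportR_eq (h : SigMx x M) (x1 : x ≠ 1) : supportR M x = sigR x := by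
  unfold supportR
  split_ifs with c
  · have u := ((h.many c.1).facts x1).1
    have := Classical.choose_spec c.2.exists
    rw [u.uniq _ this.1 this.2, u.mx.Fh_eq_iff.mpr ((h.many c.1).nil_N x1)]
    rfl
  · by_cases d : 𝐂₁ x ≤ M
    · have := ((h.ell1 x1).sigR_facts.2.2.2 M h).inf
      rwa [inf_eq_right.mpr d, inf_eq_left.mpr (sigR_le x), eq_comm] at this
    · have u := ((h.many d).facts x1).1
      exact (c ⟨d, _, ⟨u.mx, u.le⟩, fun L l => u.uniq L l.1 l.2⟩).elim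

theorem Mx.tildeOf_eq (m : Mx M) : tildeOf M ((Mσ M : Set G) \ {1}) = Tilde M := by
  ext g
  constructor
  · rintro ⟨a, ⟨ha, a1⟩, r, hr, y, e⟩
    exact ⟨a, ha, a1, r, (SigMx.mk m ha).supportR_eq a1 ▸ hr, y, e⟩
  · rintro ⟨a, ha, a1, r, hr, y, e⟩
    exact ⟨a, ⟨ha, a1⟩, r, ((SigMx.mk m ha).supportR_eq a1).symm ▸ hr, y, e⟩

theorem Mx.norm_Fh (m : Mx M) : 𝐍 (𝐅ₕ M) = M := m.norm_eq (Fh_normal M) m.Fh_ne_bot

theorem Mx.exists_nonTI (m : Mx M) (h : ¬ Cfsg.IsTISubset (𝐅ₕ M : Set G)) :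
    ∃ g, g ∉ M ∧ 𝐅 M ⊓ BG.cj g (𝐅 M) ≠ ⊥ := by
  by_contra! c
  exact h (((tiIn_of_inf_cj c).mono (Fh_le_F M) le_rfl).isTI (Fh_normal M).norm)

theorem Mx.norm_le_of_nil_hall (m : Mx M) (h : Hall π V (Mσ M)) (n : Nil V) (v1 : V ≠ ⊥) :
    𝐍 V ≤ M := by
  obtain ⟨r, hr, d⟩ := exists_prime_dvd_card v1
  have rs : r ∈ 𝛔 M := O_pi _ M r hr (d.trans (card_dvd h.le))
  exact (BG.norm_O {r} V).trans
    ((((n.hall_O {r}).syl_trans h (h.pi r hr d)).syl_trans m.hall_Ms rs).norm_le_of_sigmaV rs)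

end CF.BG.Vp
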